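import Mathlib

set_option linter.unusedSectionVars false

namespace H9Hor.Approx

section Small
variable {O K : Type*} [CommRing O] [CommRing K] [Algebra O K] (t : O)

/-- all entries lie in `t ^ c • O` -/
def Small (c : ℕ) {I J : Type*} (E : Matrix I J K) : Prop :=
  ∀ i j, ∃ z : O, E i j = algebraMap O K (t ^ c * z)

/-- all entries lie in `t ^ (-a) • O` -/
def PoleLE (a : ℕ) {I J : Type*} (W : Matrix I J K) : Prop :=
  ∀ i j, ∃ z : O, algebraMap O K (t ^ a) * W i j = algebraMap O K z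

variable {t}

theorem Small.mono {c c' : ℕ} (h : c' ≤ c) {I J : Type*} {E : Matrix I J K} (hE : Small t c E) :
    Small t c' E := fun i j => by
  obtain ⟨z, hz⟩ := hE i j
  exact ⟨t ^ (c - c') * z, by rw [hz, ← mul_assoc, ← pow_add, Nat.add_sub_cancel' h]⟩

theorem Small.add {c : ℕ} {I J : Type*} {E E' : Matrix I J K} (hE : Small t c E)
    (hE' : Small t c E') : Small t c (E + E') := fun i j => by
  obtain ⟨z, hz⟩ := hE i j
  obtain ⟨z', hz'⟩ := hE' i j
  exact ⟨z + z', by rw [Matrix.add_apply, hz, hz', mul_add, map_add]⟩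

theorem Small.neg {c : ℕ} {I J : Type*} {E : Matrix I J K} (hE : Small t c E) :
    Small t c (-E) := fun i j => by
  obtain ⟨z, hz⟩ := hE i j
  exact ⟨-z, by rw [Matrix.neg_apply, hz, mul_neg, map_neg]⟩

theorem Small.sub {c : ℕ} {I J : Type*} {E E' : Matrix I J K} (hE : Small t c E)
    (hE' : Small t c E') : Small t c (E - E') := by
  rw [sub_eq_add_neg]; exact hE.add hE'.neg

theorem Small.poleLE {c : ℕ} {I J : Type*} {E : Matrix I J K} (hE : Small t c E) :
    PoleLE t 0 E := fun i j => by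
  obtain ⟨z, hz⟩ := hE i j
  exact ⟨t ^ c * z, by rw [pow_zero, map_one, one_mul, hz]⟩

theorem PoleLE.mono {a a' : ℕ} (h : a ≤ a') {I J : Type*} {W : Matrix I J K} (hW : PoleLE t a W) :
    PoleLE t a' W := fun i j => by
  obtain ⟨z, hz⟩ := hW i j
  refine ⟨t ^ (a' - a) * z, ?_⟩
  rw [map_mul, ← hz, ← mul_assoc, ← map_mul, ← pow_add, Nat.sub_add_cancel h]

theorem Small.mul_left {a c : ℕ} {I J L : Type*} [Fintype J] {W : Matrix I J K}
    {E : Matrix J L K} (hW : PoleLE t a W) (hE : Small t (c + a) E) : Small t c (W * E) := by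
  intro i l
  choose w hw using hW
  choose z hz using hE
  refine ⟨∑ j, w i j * z j l, ?_⟩
  rw [Matrix.mul_apply, Finset.mul_sum, map_sum]
  refine Finset.sum_congr rfl fun j _ => ?_
  rw [hz, pow_add, map_mul, map_mul, map_mul, map_mul, ← hw]
  ring

theorem Small.mul_right {a c : ℕ} {I J L : Type*} [Fintype J] {W : Matrix J L K}
    {E : Matrix I J K} (hE : Small t (c + a) E) (hW : PoleLE t a W) : Small t c (E * W) := by
  intro i l
  choose w hw using hW
  choose z hz using hE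
  refine ⟨∑ j, z i j * w j l, ?_⟩
  rw [Matrix.mul_apply, Finset.mul_sum, map_sum]
  refine Finset.sum_congr rfl fun j _ => ?_
  rw [hz, pow_add, map_mul, map_mul, map_mul, map_mul, ← hw]
  ring

theorem exists_poleLE [IsLocalization.Away t K] {I J : Type*} [Finite I] [Finite J]
    (W : Matrix I J K) : ∃ a, PoleLE t a W := by
  classical
  cases nonempty_fintype I
  cases nonempty_fintype J
  have h : ∀ i j, ∃ (a : ℕ) (z : O), algebraMap O K (t ^ a) * W i j = algebraMap O K z := by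
    intro i j
    obtain ⟨⟨z, ⟨_, a, rfl⟩⟩, hz⟩ := IsLocalization.surj (Submonoid.powers t) (W i j)
    exact ⟨a, z, by rw [mul_comm]; exact hz⟩
  choose a z hz using h
  refine ⟨∑ i, ∑ j, a i j, fun i j => ?_⟩
  have h1 : a i j ≤ ∑ i, ∑ j, a i j :=
    (Finset.single_le_sum (f := fun j => a i j) (fun _ _ => Nat.zero_le _) (Finset.mem_univ j)).trans
      (Finset.single_le_sum (f := fun i => ∑ j, a i j) (fun _ _ => Nat.zero_le _)
        (Finset.mem_univ i))
  refine ⟨t ^ (∑ i, ∑ j, a i j - a i j) * z i j, ?_⟩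
  rw [map_mul, ← hz, ← mul_assoc, ← map_mul, ← pow_add, Nat.sub_add_cancel h1]

end Small

section Units
variable {O K : Type*} [CommRing O] [CommRing K] [Algebra O K] {t : O}

/-- `1 + E` is invertible for `E` small, when `t` is in the Jacobson radical of `O` -/
theorem isUnit_one_add_small (H1 : ∀ x : O, IsUnit (1 + t * x)) {I : Type*} [Fintype I]
    [DecidableEq I] {E : Matrix I I K} (hE : Small t 1 E) : IsUnit (1 + E) := by
  choose E₀ hE₀ using hE
  have hmap : 1 + E = ((1 : Matrix I I O) + t • Matrix.of E₀).map (algebraMap O K) := by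
    ext i j
    rw [Matrix.add_apply, hE₀, Matrix.map_apply, Matrix.add_apply, Matrix.smul_apply,
      Matrix.of_apply, map_add, pow_one, smul_eq_mul]
    congr 1
    by_cases hij : i = j
    · subst hij; simp
    · simp [hij]
  have hdet : ∃ x, ((1 : Matrix I I O) + t • Matrix.of E₀).det = 1 + t * x := by
    have h1 : (Ideal.Quotient.mk (Ideal.span {t})).mapMatrix
        ((1 : Matrix I I O) + t • Matrix.of E₀) = 1 := by
      rw [map_add, map_one]
      have : (Ideal.Quotient.mk (Ideal.span {t})).mapMatrix (t • Matrix.of E₀) = 0 := by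
        ext i j
        rw [RingHom.mapMatrix_apply, Matrix.map_apply, Matrix.smul_apply, smul_eq_mul, map_mul,
          Matrix.zero_apply]
        have : (Ideal.Quotient.mk (Ideal.span {t})) t = 0 :=
          Ideal.Quotient.eq_zero_iff_mem.mpr (Ideal.mem_span_singleton_self t)
        rw [this, zero_mul]
      rw [this, add_zero]
    have h2 : (Ideal.Quotient.mk (Ideal.span {t}))
        (((1 : Matrix I I O) + t • Matrix.of E₀).det - 1) = 0 := by
      rw [map_sub, RingHom.map_det, h1, Matrix.det_one, map_one, sub_self]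
    rw [Ideal.Quotient.eq_zero_iff_mem, Ideal.mem_span_singleton'] at h2
    obtain ⟨x, hx⟩ := h2
    exact ⟨x, by rw [mul_comm, hx]; ring⟩
  obtain ⟨x, hx⟩ := hdet
  rw [Matrix.isUnit_iff_isUnit_det, hmap, ← RingHom.mapMatrix_apply, ← RingHom.map_det, hx]
  exact (H1 x).map _

end Units

section Ring
variable {𝓜 : Type*} [Ring 𝓜]

/-- inverse in a corner ring -/
theorem corner_inverse {p w : 𝓜} (hp : p * p = p) (hpw : p * w = w) (hwp : w * p = w)
    (hu : IsUnit (w + (1 - p))) : ∃ z, z * w = p ∧ w * z = p := by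
  obtain ⟨u, hu⟩ := hu
  have hcomm : p * (u : 𝓜) = u * p := by
    rw [hu, mul_add, add_mul, hpw, hwp, mul_sub, sub_mul, mul_one, one_mul, hp]
  have hcomm' : (↑u⁻¹ : 𝓜) * p = p * ↑u⁻¹ := by
    calc (↑u⁻¹ : 𝓜) * p = ↑u⁻¹ * p * (u * ↑u⁻¹) := by rw [Units.mul_inv, mul_one]
      _ = ↑u⁻¹ * (p * u) * ↑u⁻¹ := by simp only [mul_assoc]
      _ = ↑u⁻¹ * (u * p) * ↑u⁻¹ := by rw [hcomm]
      _ = (↑u⁻¹ * u) * p * ↑u⁻¹ := by simp only [mul_assoc]
      _ = p * ↑u⁻¹ := by rw [Units.inv_mul, one_mul]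
  have hw : w = u - (1 - p) := by rw [hu]; abel
  have h0 : (1 - p) * p = 0 := by rw [sub_mul, one_mul, hp, sub_self]
  have h0' : p * (1 - p) = 0 := by rw [mul_sub, mul_one, hp, sub_self]
  refine ⟨p * ↑u⁻¹, ?_, ?_⟩
  · rw [hw, mul_sub, mul_assoc, Units.inv_mul, mul_one, ← hcomm', mul_assoc, h0', mul_zero,
      sub_zero]
  · rw [hw, sub_mul, ← mul_assoc, ← mul_assoc, h0, zero_mul, sub_zero, ← hcomm, mul_assoc,
      Units.mul_inv, mul_one]

theorem one_sub_idem {e : 𝓜} (he : e * e = e) : (1 - e) * (1 - e) = 1 - e := by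
  have : (1 - e) * (1 - e) = 1 - e - e + e * e := by noncomm_ring
  rw [this, he]; abel

theorem one_sub_mul_one_sub {e f : 𝓜} (h : f * e = e) : (1 - f) * (1 - e) = 1 - f := by
  have : (1 - f) * (1 - e) = 1 - f - e + f * e := by noncomm_ring
  rw [this, h]; abel

end Ring

section MEquiv₂
variable {C : Type*} [CommRing C] {I J : Type*} [Fintype I] [Fintype J] [DecidableEq I]
  [DecidableEq J]

/-- the images of the idempotent matrices `p` and `q` are isomorphic -/
def MEquiv₂ (p : Matrix I I C) (q : Matrix J J C) : Prop :=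
  ∃ (U : Matrix J I C) (V : Matrix I J C), U * V = q ∧ V * U = p

theorem MEquiv₂.map {C' : Type*} [CommRing C'] (f : C →+* C') {p : Matrix I I C}
    {q : Matrix J J C} (h : MEquiv₂ p q) : MEquiv₂ (p.map f) (q.map f) := by
  obtain ⟨U, V, h1, h2⟩ := h
  exact ⟨U.map f, V.map f, by rw [← Matrix.map_mul, h1], by rw [← Matrix.map_mul, h2]⟩

theorem MEquiv₂.symm {p : Matrix I I C} {q : Matrix J J C} (h : MEquiv₂ p q) : MEquiv₂ q p := by
  obtain ⟨U, V, h1, h2⟩ := h
  exact ⟨V, U, h2, h1⟩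

theorem MEquiv₂.normalize {p : Matrix I I C} {q : Matrix J J C} (hp : p * p = p)
    (hq : q * q = q) (h : MEquiv₂ p q) :
    ∃ (U : Matrix J I C) (V : Matrix I J C), U * V = q ∧ V * U = p ∧ q * U = U ∧ U * p = U ∧
      p * V = V ∧ V * q = V := by
  obtain ⟨U, V, h1, h2⟩ := h
  have e1 : q * U * p * (p * V * q) = q := by
    calc q * U * p * (p * V * q) = q * (U * (p * p) * V) * q := by simp only [Matrix.mul_assoc]
      _ = q * (U * (V * U) * V) * q := by rw [hp, h2]
      _ = q * ((U * V) * (U * V)) * q := by simp only [Matrix.mul_assoc]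
      _ = q := by rw [h1, hq, hq, hq]
  have e2 : p * V * q * (q * U * p) = p := by
    calc p * V * q * (q * U * p) = p * (V * (q * q) * U) * p := by simp only [Matrix.mul_assoc]
      _ = p * (V * (U * V) * U) * p := by rw [hq, h1]
      _ = p * ((V * U) * (V * U)) * p := by simp only [Matrix.mul_assoc]
      _ = p := by rw [h2, hp, hp, hp]
  refine ⟨q * U * p, p * V * q, e1, e2, ?_, ?_, ?_, ?_⟩
  · rw [← Matrix.mul_assoc, ← Matrix.mul_assoc, hq]
  · rw [Matrix.mul_assoc, hp]
  · rw [← Matrix.mul_assoc, ← Matrix.mul_assoc, hp]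
  · rw [Matrix.mul_assoc, hq]

/-- a map with a left and a right inverse between the images of idempotents -/
theorem mequiv₂_of_left_right {p : Matrix I I C} {q : Matrix J J C} {U : Matrix J I C}
    (hUp : U * p = U) {V₁ V₂ : Matrix I J C} (h₁ : V₁ * U = p) (h₂ : U * V₂ = q) (hqU : q * U = U) :
    MEquiv₂ p q := by
  refine ⟨U, p * V₂, ?_, ?_⟩
  · rw [← Matrix.mul_assoc, hUp, h₂]
  · have : p * V₂ = V₁ * q := by rw [← h₁, Matrix.mul_assoc, h₂]
    rw [this, Matrix.mul_assoc, hqU, h₁]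

theorem MEquiv₂.trans {J' : Type*} [Fintype J'] [DecidableEq J'] {p : Matrix I I C}
    {q : Matrix J J C} {r : Matrix J' J' C} (hp : p * p = p) (hr : r * r = r)
    (h₁ : MEquiv₂ p q) (h₂ : MEquiv₂ q r) : MEquiv₂ p r := by
  obtain ⟨U₁, V₁, h11, h12⟩ := h₁
  obtain ⟨U₂, V₂, h21, h22⟩ := h₂
  refine ⟨U₂ * U₁, V₁ * V₂, ?_, ?_⟩
  · calc U₂ * U₁ * (V₁ * V₂) = U₂ * (U₁ * V₁) * V₂ := by simp only [Matrix.mul_assoc]
      _ = U₂ * (V₂ * U₂) * V₂ := by rw [h11, h22]
      _ = (U₂ * V₂) * (U₂ * V₂) := by simp only [Matrix.mul_assoc]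
      _ = r := by rw [h21, hr]
  · calc V₁ * V₂ * (U₂ * U₁) = V₁ * (V₂ * U₂) * U₁ := by simp only [Matrix.mul_assoc]
      _ = V₁ * (U₁ * V₁) * U₁ := by rw [h22, h11]
      _ = (V₁ * U₁) * (V₁ * U₁) := by simp only [Matrix.mul_assoc]
      _ = p := by rw [h12, hp]

/-- a map with a left and a right inverse between the images of idempotents has an inverse -/
theorem exists_inverse_of_left_right {p : Matrix I I C} {q : Matrix J J C} {U : Matrix J I C}
    (hUp : U * p = U) {V₁ V₂ : Matrix I J C} (h₁ : V₁ * U = p) (h₂ : U * V₂ = q) (hqU : q * U = U) :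
    ∃ V : Matrix I J C, V * U = p ∧ U * V = q := by
  refine ⟨p * V₂, ?_, ?_⟩
  · have : p * V₂ = V₁ * q := by rw [← h₁, Matrix.mul_assoc, h₂]
    rw [this, Matrix.mul_assoc, hqU, h₁]
  · rw [← Matrix.mul_assoc, hUp, h₂]

end MEquiv₂

section Descent
variable {O K L₀ : Type*} [CommRing O] [CommRing K] [CommRing L₀] [Algebra O K]

/-- approximation hypotheses for `ι : L₀ → K = O[1/t]` -/
structure Hyp (t : O) (ι : L₀ →+* K) : Prop where
  jac : ∀ x : O, IsUnit (1 + t * x)
  dense : ∀ (x : K) (c : ℕ), ∃ (y : L₀) (z : O), x = ι y + algebraMap O K (t ^ c * z)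
  units : ∀ y : L₀, IsUnit (ι y) → IsUnit y

variable {t : O} {ι : L₀ →+* K}

theorem Hyp.approx_matrix (h : Hyp t ι) {I J : Type*} (W : Matrix I J K) (c : ℕ) :
    ∃ W0 : Matrix I J L₀, Small t c (W - W0.map ι) := by
  choose y z hyz using fun i j => h.dense (W i j) c
  refine ⟨Matrix.of y, fun i j => ⟨z i j, ?_⟩⟩
  rw [Matrix.sub_apply, Matrix.map_apply, Matrix.of_apply, hyz i j, add_sub_cancel_left]

theorem Hyp.isUnit_matrix (h : Hyp t ι) {I : Type*} [Fintype I] [DecidableEq I]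
    (y : Matrix I I L₀) (hy : IsUnit (y.map ι)) : IsUnit y := by
  rw [Matrix.isUnit_iff_isUnit_det] at hy ⊢
  apply h.units
  rw [RingHom.map_det]
  exact hy

end Descent

section Main
variable {O K L₀ : Type*} [CommRing O] [CommRing K] [CommRing L₀] [Algebra O K]
variable {t : O} {ι : L₀ →+* K} [IsLocalization.Away t K]

theorem map_one_sub {I : Type*} [Fintype I] [DecidableEq I] (p : Matrix I I L₀) :
    ((1 : Matrix I I L₀) - p).map ι = 1 - p.map ι := by
  rw [← RingHom.mapMatrix_apply, map_sub, map_one, RingHom.mapMatrix_apply]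

/-- step A: over `K`, an approximation of an isomorphism is an isomorphism -/
theorem Hyp.exists_inverse_of_close (h : Hyp t ι) {I J : Type*} [Fintype I] [Fintype J]
    [DecidableEq I] [DecidableEq J] {P : Matrix I I K} {Q : Matrix J J K} (hP : P * P = P)
    (hQ : Q * Q = Q) {U U₁ : Matrix J I K} {V : Matrix I J K} (hUV : U * V = Q) (hVU : V * U = P)
    (hPV : P * V = V) (hVQ : V * Q = V) (hQU₁ : Q * U₁ = U₁) (hU₁P : U₁ * P = U₁) {a : ℕ}
    (haV : PoleLE t a V) (hδ : Small t (1 + a) (U₁ - U)) :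
    ∃ V₃ : Matrix I J K, V₃ * U₁ = P ∧ U₁ * V₃ = Q := by
  -- left inverse
  have hE : Small t 1 (V * U₁ - P) := by
    have : V * U₁ - P = V * (U₁ - U) := by rw [Matrix.mul_sub, hVU]
    rw [this]; exact Small.mul_left haV hδ
  have hu : IsUnit (V * U₁ + (1 - P)) := by
    have : V * U₁ + (1 - P) = 1 + (V * U₁ - P) := by abel
    rw [this]; exact isUnit_one_add_small h.jac hE
  obtain ⟨z₁, hz₁, -⟩ := corner_inverse hP
    (by rw [← Matrix.mul_assoc, hPV]) (by rw [Matrix.mul_assoc, hU₁P]) hu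
  -- right inverse
  have hE' : Small t 1 (U₁ * V - Q) := by
    have : U₁ * V - Q = (U₁ - U) * V := by rw [Matrix.sub_mul, hUV]
    rw [this]; exact Small.mul_right hδ haV
  have hu' : IsUnit (U₁ * V + (1 - Q)) := by
    have : U₁ * V + (1 - Q) = 1 + (U₁ * V - Q) := by abel
    rw [this]; exact isUnit_one_add_small h.jac hE'
  obtain ⟨z₂, -, hz₂⟩ := corner_inverse hQ
    (by rw [← Matrix.mul_assoc, hQU₁]) (by rw [Matrix.mul_assoc, hVQ]) hu'
  exact exists_inverse_of_left_right hU₁P (V₁ := z₁ * V) (V₂ := V * z₂)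
    (by rw [Matrix.mul_assoc, hz₁]) (by rw [← Matrix.mul_assoc, hz₂]) hQU₁

/-- **Descent of isomorphisms of projective modules (matrix form).** -/
theorem Hyp.mequiv₂_descent (h : Hyp t ι) {I J : Type*} [Fintype I] [Fintype J]
    [DecidableEq I] [DecidableEq J] (p : Matrix I I L₀) (q : Matrix J J L₀) (hp : p * p = p)
    (hq : q * q = q) (hpq : MEquiv₂ (p.map ι) (q.map ι)) : MEquiv₂ p q := by
  have hP : p.map ι * p.map ι = p.map ι := by rw [← Matrix.map_mul, hp]
  have hQ : q.map ι * q.map ι = q.map ι := by rw [← Matrix.map_mul, hq]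
  obtain ⟨U, V, hUV, hVU, hQU, hUP, hPV, hVQ⟩ := hpq.normalize hP hQ
  obtain ⟨a₁, ha₁⟩ := exists_poleLE (t := t) V
  obtain ⟨a₂, ha₂⟩ := exists_poleLE (t := t) (p.map ι)
  obtain ⟨a₃, ha₃⟩ := exists_poleLE (t := t) (q.map ι)
  set a := a₁ + a₂ + a₃ with ha
  have haV : PoleLE t a V := ha₁.mono (by omega)
  have haP : PoleLE t a (p.map ι) := ha₂.mono (by omega)
  have haQ : PoleLE t a (q.map ι) := ha₃.mono (by omega)
  -- approximate `U`
  obtain ⟨U', hU'⟩ := h.approx_matrix U (1 + a + a + a)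
  have hU₁ : (q * U' * p).map ι = q.map ι * U'.map ι * p.map ι := by
    rw [Matrix.map_mul, Matrix.map_mul]
  have hQU₁ : q.map ι * (q * U' * p).map ι = (q * U' * p).map ι := by
    rw [hU₁, ← Matrix.mul_assoc, ← Matrix.mul_assoc, hQ]
  have hU₁P : (q * U' * p).map ι * p.map ι = (q * U' * p).map ι := by
    rw [hU₁, Matrix.mul_assoc, hP]
  have hδ : Small t (1 + a) ((q * U' * p).map ι - U) := by
    have : (q * U' * p).map ι - U = q.map ι * (U'.map ι - U) * p.map ι := by
      rw [hU₁, Matrix.mul_sub, Matrix.sub_mul, hQU, hUP]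
    rw [this]
    have h1 : Small t (1 + a + a + a) (U'.map ι - U) := by
      have : U'.map ι - U = -(U - U'.map ι) := by abel
      rw [this]; exact hU'.neg
    exact (Small.mul_left haQ h1).mul_right haP
  obtain ⟨V₃, hV₃U, hUV₃⟩ := h.exists_inverse_of_close hP hQ hUV hVU hPV hVQ hQU₁ hU₁P haV hδ
  -- approximate `V₃`
  obtain ⟨b₁, hb₁⟩ := exists_poleLE (t := t) ((q * U' * p).map ι)
  set b := b₁ + a with hb
  have hbU : PoleLE t b ((q * U' * p).map ι) := hb₁.mono (by omega)
  have hbP : PoleLE t b (p.map ι) := haP.mono (by omega)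
  have hbQ : PoleLE t b (q.map ι) := haQ.mono (by omega)
  obtain ⟨V', hV'⟩ := h.approx_matrix V₃ (1 + b + b + b)
  have hV₄ : (p * V' * q).map ι = p.map ι * V'.map ι * q.map ι := by
    rw [Matrix.map_mul, Matrix.map_mul]
  have hV₃'U : p.map ι * V₃ * q.map ι * (q * U' * p).map ι = p.map ι := by
    rw [Matrix.mul_assoc, hQU₁, Matrix.mul_assoc, hV₃U, hP]
  have hUV₃' : (q * U' * p).map ι * (p.map ι * V₃ * q.map ι) = q.map ι := by
    rw [← Matrix.mul_assoc, ← Matrix.mul_assoc, hU₁P, hUV₃, hQ]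
  have hδ' : Small t (1 + b) ((p * V' * q).map ι - p.map ι * V₃ * q.map ι) := by
    have : (p * V' * q).map ι - p.map ι * V₃ * q.map ι
        = p.map ι * (V'.map ι - V₃) * q.map ι := by
      rw [hV₄, Matrix.mul_sub, Matrix.sub_mul]
    rw [this]
    have h1 : Small t (1 + b + b + b) (V'.map ι - V₃) := by
      have : V'.map ι - V₃ = -(V₃ - V'.map ι) := by abel
      rw [this]; exact hV'.neg
    exact (Small.mul_left hbP h1).mul_right hbQ
  -- left inverse over `L₀`
  have hy : IsUnit (p * V' * q * (q * U' * p) + (1 - p)) := by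
    apply h.isUnit_matrix
    have : (p * V' * q * (q * U' * p) + (1 - p)).map ι
        = 1 + ((p * V' * q).map ι - p.map ι * V₃ * q.map ι) * (q * U' * p).map ι := by
      rw [Matrix.sub_mul, hV₃'U, ← RingHom.mapMatrix_apply, map_add, RingHom.mapMatrix_apply,
        RingHom.mapMatrix_apply, map_one_sub, Matrix.map_mul]
      abel
    rw [this]
    exact isUnit_one_add_small h.jac (Small.mul_right hδ' hbU)
  obtain ⟨z, hz, -⟩ := corner_inverse hp
    (w := p * V' * q * (q * U' * p))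
    (by simp only [← Matrix.mul_assoc]; rw [hp])
    (by simp only [Matrix.mul_assoc]; rw [hp]) hy
  -- right inverse over `L₀`
  have hy' : IsUnit (q * U' * p * (p * V' * q) + (1 - q)) := by
    apply h.isUnit_matrix
    have : (q * U' * p * (p * V' * q) + (1 - q)).map ι
        = 1 + (q * U' * p).map ι * ((p * V' * q).map ι - p.map ι * V₃ * q.map ι) := by
      rw [Matrix.mul_sub, hUV₃', ← RingHom.mapMatrix_apply, map_add, RingHom.mapMatrix_apply,
        RingHom.mapMatrix_apply, map_one_sub, Matrix.map_mul]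
      abel
    rw [this]
    exact isUnit_one_add_small h.jac (Small.mul_left hbU hδ')
  obtain ⟨z', -, hz'⟩ := corner_inverse hq
    (w := q * U' * p * (p * V' * q))
    (by simp only [← Matrix.mul_assoc]; rw [hq])
    (by simp only [Matrix.mul_assoc]; rw [hq]) hy'
  exact mequiv₂_of_left_right (U := q * U' * p) (V₁ := z * (p * V' * q)) (V₂ := p * V' * q * z')
    (by rw [Matrix.mul_assoc, hp]) (by rw [Matrix.mul_assoc, hz])
    (by rw [← Matrix.mul_assoc, hz']) (by rw [← Matrix.mul_assoc, ← Matrix.mul_assoc, hq])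

end Main

section Split
variable {O K L₀ : Type*} [CommRing O] [CommRing K] [CommRing L₀] [Algebra O K]
variable {t : O} {ι : L₀ →+* K} [IsLocalization.Away t K]

/-- **Approximation of split injections.** -/
theorem Hyp.exists_split_approx (h : Hyp t ι) {m n : Type*} [Fintype m] [Fintype n]
    [DecidableEq m] [DecidableEq n] (Jm : Matrix m n K) (G : Matrix n m K) (hGJ : G * Jm = 1) :
    ∃ (J0 : Matrix m n L₀) (G0 : Matrix n m L₀), G0 * J0 = 1 ∧
      MEquiv₂ (1 - (J0 * G0).map ι) (1 - Jm * G) := by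
  obtain ⟨a₁, ha₁⟩ := exists_poleLE (t := t) Jm
  obtain ⟨a₂, ha₂⟩ := exists_poleLE (t := t) G
  set a := a₁ + a₂ with ha
  have haJ : PoleLE t a Jm := ha₁.mono (by omega)
  have haG : PoleLE t a G := ha₂.mono (by omega)
  obtain ⟨J0, hJ0⟩ := h.approx_matrix Jm (1 + a)
  obtain ⟨G', hG'⟩ := h.approx_matrix G (1 + a)
  have hδJ : Small t (1 + a) (J0.map ι - Jm) := by
    have : J0.map ι - Jm = -(Jm - J0.map ι) := by abel
    rw [this]; exact hJ0.neg
  have hδG : Small t (1 + a) (G'.map ι - G) := by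
    have : G'.map ι - G = -(G - G'.map ι) := by abel
    rw [this]; exact hG'.neg
  -- `G' * J0` is invertible
  have hy : IsUnit (G' * J0) := by
    apply h.isUnit_matrix
    have : (G' * J0).map ι = 1 + (G * (J0.map ι - Jm) + (G'.map ι - G) * Jm
        + (G'.map ι - G) * (J0.map ι - Jm)) := by
      rw [Matrix.map_mul, Matrix.mul_sub, Matrix.sub_mul, Matrix.sub_mul, Matrix.mul_sub,
        Matrix.mul_sub, hGJ]
      abel
    rw [this]
    refine isUnit_one_add_small h.jac (((Small.mul_left haG hδJ).add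
      (Small.mul_right hδG haJ)).add ?_)
    exact Small.mul_left (a := 0) hδG.poleLE (hδJ.mono (by omega))
  obtain ⟨u, hu⟩ := hy
  obtain ⟨G0, hG0⟩ : ∃ G0 : Matrix n m L₀, G0 = (↑u⁻¹ : Matrix n n L₀) * G' := ⟨_, rfl⟩
  have hG0J0 : G0 * J0 = 1 := by
    rw [hG0, Matrix.mul_assoc, ← hu, Units.inv_mul]
  refine ⟨J0, G0, hG0J0, ?_⟩
  -- the conjugating matrix
  have hD : IsUnit (1 + (J0.map ι - Jm) * G) :=
    isUnit_one_add_small h.jac (Small.mul_right hδJ haG)
  obtain ⟨D, hDeq'⟩ := hD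
  obtain ⟨Dm, Di, hDD, hDiD, hDeq⟩ : ∃ Dm Di : Matrix m m K, Dm * Di = 1 ∧ Di * Dm = 1 ∧
      Dm = 1 + (J0.map ι - Jm) * G := ⟨D, ↑D⁻¹, D.mul_inv, D.inv_mul, hDeq'⟩
  have hDJ : Dm * Jm = J0.map ι := by
    rw [hDeq, Matrix.add_mul, Matrix.one_mul, Matrix.mul_assoc, hGJ, Matrix.mul_one]
    abel
  have hDinvJ : Di * J0.map ι = Jm := by
    rw [← hDJ, ← Matrix.mul_assoc, hDiD, Matrix.one_mul]
  have hG₁J₁ : G0.map ι * J0.map ι = 1 := by
    rw [← Matrix.map_mul, hG0J0, ← RingHom.mapMatrix_apply, map_one]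
  have he₁ : (J0 * G0).map ι = J0.map ι * G0.map ι := Matrix.map_mul
  -- `f = D e₂ D⁻¹`
  have hfe : J0.map ι * G0.map ι * (Dm * (Jm * G) * Di) = Dm * (Jm * G) * Di := by
    calc J0.map ι * G0.map ι * (Dm * (Jm * G) * Di)
        = J0.map ι * (G0.map ι * (Dm * Jm)) * (G * Di) := by
          simp only [Matrix.mul_assoc]
      _ = J0.map ι * (G * Di) := by rw [hDJ, hG₁J₁, Matrix.mul_one]
      _ = Dm * (Jm * G) * Di := by
          rw [← hDJ]; simp only [Matrix.mul_assoc]
  have hef : Dm * (Jm * G) * Di * (J0.map ι * G0.map ι) = J0.map ι * G0.map ι := by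
    calc Dm * (Jm * G) * Di * (J0.map ι * G0.map ι)
        = Dm * Jm * (G * (Di * J0.map ι)) * G0.map ι := by
          simp only [Matrix.mul_assoc]
      _ = J0.map ι * G0.map ι := by rw [hDinvJ, hGJ, Matrix.mul_one, hDJ]
  have he₂ : Jm * G * (Jm * G) = Jm * G := by
    calc Jm * G * (Jm * G) = Jm * (G * Jm) * G := by simp only [Matrix.mul_assoc]
      _ = Jm * G := by rw [hGJ, Matrix.mul_one]
  have hee : J0.map ι * G0.map ι * (J0.map ι * G0.map ι) = J0.map ι * G0.map ι := by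
    calc J0.map ι * G0.map ι * (J0.map ι * G0.map ι)
        = J0.map ι * (G0.map ι * J0.map ι) * G0.map ι := by
          simp only [Matrix.mul_assoc]
      _ = _ := by rw [hG₁J₁, Matrix.mul_one]
  have h1 : MEquiv₂ (1 - (J0 * G0).map ι) (1 - Dm * (Jm * G) * Di) := by
    rw [he₁]
    exact ⟨1 - Dm * (Jm * G) * Di, 1 - J0.map ι * G0.map ι, one_sub_mul_one_sub hef,
      one_sub_mul_one_sub hfe⟩
  have h2 : MEquiv₂ (1 - Dm * (Jm * G) * Di) (1 - Jm * G) := by
    refine ⟨(1 - Jm * G) * Di, Dm * (1 - Jm * G), ?_, ?_⟩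
    · calc (1 - Jm * G) * Di * (Dm * (1 - Jm * G))
          = (1 - Jm * G) * (Di * Dm) * (1 - Jm * G) := by
            simp only [Matrix.mul_assoc]
        _ = 1 - Jm * G := by
            rw [hDiD, Matrix.mul_one, one_sub_idem he₂]
    · calc Dm * (1 - Jm * G) * ((1 - Jm * G) * Di)
          = Dm * ((1 - Jm * G) * (1 - Jm * G)) * Di := by
            simp only [Matrix.mul_assoc]
        _ = Dm * (1 - Jm * G) * Di := by rw [one_sub_idem he₂]
        _ = 1 - Dm * (Jm * G) * Di := by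
            rw [Matrix.mul_sub, Matrix.sub_mul, Matrix.mul_one, hDD]
  refine h1.trans ?_ ?_ h2
  · rw [he₁]; exact one_sub_idem hee
  · exact one_sub_idem he₂

end Split

end H9Hor.Approx
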