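import Mathlib
import Groth.Agent.Lib.Helper9.Hor.Approx

set_option linter.unusedSectionVars false

open TensorProduct

namespace H9Hor.Approx

section Dict
variable {C : Type*} [CommRing C] {I J : Type*} [Fintype I] [Fintype J] [DecidableEq I]
  [DecidableEq J]
variable {P P' : Type*} [AddCommGroup P] [Module C P] [AddCommGroup P'] [Module C P']

/-- isomorphic retracts of free modules have equivalent idempotent matrices -/
theorem mequiv₂_of_equiv (f : (I → C) →ₗ[C] P) (g : P →ₗ[C] (I → C)) (hfg : ∀ x, f (g x) = x)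
    (f' : (J → C) →ₗ[C] P') (g' : P' →ₗ[C] (J → C)) (hfg' : ∀ x, f' (g' x) = x)
    (α : P ≃ₗ[C] P') :
    MEquiv₂ (LinearMap.toMatrix' (g ∘ₗ f)) (LinearMap.toMatrix' (g' ∘ₗ f')) := by
  refine ⟨LinearMap.toMatrix' (g' ∘ₗ α.toLinearMap ∘ₗ f),
    LinearMap.toMatrix' (g ∘ₗ α.symm.toLinearMap ∘ₗ f'), ?_, ?_⟩
  · rw [← LinearMap.toMatrix'_comp]
    congr 1
    refine LinearMap.ext fun x => ?_
    simp [hfg]
  · rw [← LinearMap.toMatrix'_comp]
    congr 1
    refine LinearMap.ext fun x => ?_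
    simp [hfg']

/-- equivalent idempotent matrices give isomorphic retracts -/
theorem nonempty_equiv_of_mequiv₂ (f : (I → C) →ₗ[C] P) (g : P →ₗ[C] (I → C))
    (hfg : ∀ x, f (g x) = x) (f' : (J → C) →ₗ[C] P') (g' : P' →ₗ[C] (J → C))
    (hfg' : ∀ x, f' (g' x) = x)
    (h : MEquiv₂ (LinearMap.toMatrix' (g ∘ₗ f)) (LinearMap.toMatrix' (g' ∘ₗ f'))) :
    Nonempty (P ≃ₗ[C] P') := by
  obtain ⟨U, V, hUV, hVU⟩ := h
  have hUV' : ∀ y, Matrix.toLin' U (Matrix.toLin' V y) = g' (f' y) := fun y => by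
    rw [← LinearMap.comp_apply, ← Matrix.toLin'_mul, hUV, Matrix.toLin'_toMatrix']; rfl
  have hVU' : ∀ y, Matrix.toLin' V (Matrix.toLin' U y) = g (f y) := fun y => by
    rw [← LinearMap.comp_apply, ← Matrix.toLin'_mul, hVU, Matrix.toLin'_toMatrix']; rfl
  refine ⟨LinearEquiv.ofLinear (f' ∘ₗ Matrix.toLin' U ∘ₗ g) (f ∘ₗ Matrix.toLin' V ∘ₗ g') ?_ ?_⟩
  · refine LinearMap.ext fun x => ?_
    simp only [LinearMap.comp_apply, LinearMap.id_apply]
    -- f' U g f V g' x = f' U (V U) V g' x = f' (g' f') (g' f') g' x = x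
    have h1 : g (f (Matrix.toLin' V (g' x))) = Matrix.toLin' V (g' x) := by
      rw [← hVU', hUV', hfg']
    rw [h1, hUV', hfg', hfg']
  · refine LinearMap.ext fun x => ?_
    simp only [LinearMap.comp_apply, LinearMap.id_apply]
    have h1 : g' (f' (Matrix.toLin' U (g x))) = Matrix.toLin' U (g x) := by
      rw [← hUV', hVU', hfg]
    rw [h1, hVU', hfg, hfg]

end Dict

section BC
variable {C C' : Type*} [CommRing C] [CommRing C'] [Algebra C C'] {I : Type*} [Fintype I]
  [DecidableEq I]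
variable {P : Type*} [AddCommGroup P] [Module C P]

/-- base change of the presentation map `f` -/
noncomputable def fBC (f : (I → C) →ₗ[C] P) : (I → C') →ₗ[C'] C' ⊗[C] P :=
  (Pi.basisFun C' I).constr C' (fun i => (1 : C') ⊗ₜ[C] f (Pi.single i 1))

/-- base change of the presentation map `g` -/
noncomputable def gBC (g : P →ₗ[C] (I → C)) : C' ⊗[C] P →ₗ[C'] (I → C') :=
  LinearMap.liftBaseChange C' (((Algebra.linearMap C C').compLeft I) ∘ₗ g)

theorem fBC_apply (f : (I → C) →ₗ[C] P) (x : I → C') :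
    fBC (C' := C') f x = ∑ i, x i • ((1 : C') ⊗ₜ[C] f (Pi.single i 1)) := by
  simp [fBC, Module.Basis.constr_apply_fintype]

@[simp] theorem gBC_tmul (g : P →ₗ[C] (I → C)) (c : C') (μ : P) (i : I) :
    gBC (C' := C') g (c ⊗ₜ μ) i = c * algebraMap C C' (g μ i) := by
  simp [gBC]

theorem fBC_gBC (f : (I → C) →ₗ[C] P) (g : P →ₗ[C] (I → C)) (hfg : ∀ p, f (g p) = p)
    (y : C' ⊗[C] P) : fBC (C' := C') f (gBC g y) = y := by
  induction y using TensorProduct.induction_on with
  | zero => simp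
  | tmul c μ =>
    rw [fBC_apply]
    simp_rw [gBC_tmul]
    have : ∀ i, (c * algebraMap C C' (g μ i)) • ((1 : C') ⊗ₜ[C] f (Pi.single i 1)) =
        c ⊗ₜ[C] (g μ i • f (Pi.single i 1)) := by
      intro i
      rw [TensorProduct.smul_tmul', smul_eq_mul, mul_one, TensorProduct.tmul_smul,
        TensorProduct.smul_tmul', Algebra.smul_def, mul_comm]
    simp_rw [this]
    rw [← TensorProduct.tmul_sum]
    congr 1
    conv_rhs => rw [← hfg μ, pi_eq_sum_univ (g μ), map_sum]
    refine Finset.sum_congr rfl fun i _ => ?_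
    rw [← map_smul]
    congr 1
    funext k
    simp [Pi.single_apply, eq_comm]
  | add y z hy hz => rw [map_add, map_add, hy, hz]

theorem toMatrix'_gBC_fBC (f : (I → C) →ₗ[C] P) (g : P →ₗ[C] (I → C)) :
    LinearMap.toMatrix' (gBC (C' := C') g ∘ₗ fBC f) =
      (LinearMap.toMatrix' (g ∘ₗ f)).map (algebraMap C C') := by
  ext i j : 1
  rw [LinearMap.toMatrix'_apply, LinearMap.comp_apply, fBC_apply, map_sum, Finset.sum_apply]
  simp_rw [map_smul, Pi.smul_apply, gBC_tmul]
  simp [Pi.single_apply, LinearMap.toMatrix'_apply]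

end BC

end H9Hor.Approx
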