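import Mathlib
import Groth.Agent.Lib.Helper9.Hor.Approx
import Groth.Agent.Lib.Helper9.Hor.RetractBC

set_option linter.unusedSectionVars false

open TensorProduct

universe u v

namespace H9Hor.Approx

section DescB
variable {O K : Type*} [CommRing O] [CommRing K] [Algebra O K] {t : O} [IsLocalization.Away t K]
variable {C : Type u} {C' : Type v} [CommRing C] [CommRing C'] [Algebra C C'] (e : C' ≃+* K)

theorem idem_toMatrix' {I P : Type*} [Fintype I] [DecidableEq I] [AddCommGroup P] [Module C P]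
    (f : (I → C) →ₗ[C] P) (g : P →ₗ[C] (I → C)) (hfg : ∀ x, f (g x) = x) :
    LinearMap.toMatrix' (g ∘ₗ f) * LinearMap.toMatrix' (g ∘ₗ f) = LinearMap.toMatrix' (g ∘ₗ f) := by
  rw [← LinearMap.toMatrix'_comp]
  congr 1
  refine LinearMap.ext fun x => ?_
  simp [hfg]

/-- (b) descent of isomorphisms of f.g. projective modules along `C → C' ≃ K` under `Hyp`. -/
theorem nonempty_equiv_of_baseChange
    (h : Hyp t ((e : C' →+* K).comp (algebraMap C C')))
    (M N : Type*) [AddCommGroup M] [Module C M] [Module.Finite C M] [Module.Projective C M]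
    [AddCommGroup N] [Module C N] [Module.Finite C N] [Module.Projective C N]
    (φ : C' ⊗[C] M ≃ₗ[C'] C' ⊗[C] N) : Nonempty (M ≃ₗ[C] N) := by
  obtain ⟨m, f, g, -, -, hfg⟩ := Module.Finite.exists_comp_eq_id_of_projective C M
  obtain ⟨n, f', g', -, -, hfg'⟩ := Module.Finite.exists_comp_eq_id_of_projective C N
  have hfgx : ∀ x, f (g x) = x := fun x => LinearMap.congr_fun hfg x
  have hfgx' : ∀ x, f' (g' x) = x := fun x => LinearMap.congr_fun hfg' x
  have h1 := mequiv₂_of_equiv (fBC (C' := C') f) (gBC g) (fBC_gBC f g hfgx)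
    (fBC (C' := C') f') (gBC g') (fBC_gBC f' g' hfgx') φ
  rw [toMatrix'_gBC_fBC, toMatrix'_gBC_fBC] at h1
  have h2 := h1.map (e : C' →+* K)
  rw [Matrix.map_map, Matrix.map_map] at h2
  have h3 := h.mequiv₂_descent (LinearMap.toMatrix' (g ∘ₗ f)) (LinearMap.toMatrix' (g' ∘ₗ f'))
    (idem_toMatrix' f g hfgx) (idem_toMatrix' f' g' hfgx') h2
  exact nonempty_equiv_of_mequiv₂ f g hfgx f' g' hfgx' h3

end DescB

end H9Hor.Approx

namespace H9Hor.Approx

section SF
variable {C : Type u} [CommRing C] {m n : Type} [Fintype m] [Fintype n] [DecidableEq m]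
  [DecidableEq n]

/-- the complement of a split injection `J0` (with retraction `G0`) is stably free -/
noncomputable def sfEquiv (J0 : Matrix m n C) (G0 : Matrix n m C) (h : G0 * J0 = 1) :
    (LinearMap.range (Matrix.toLin' (1 - J0 * G0)) × (n → C)) ≃ₗ[C] (m → C) where
  toFun x := x.1.1 + Matrix.toLin' J0 x.2
  map_add' x y := by
    simp only [Prod.fst_add, Prod.snd_add, Submodule.coe_add, map_add]
    abel
  map_smul' c x := by
    simp only [Prod.smul_fst, Prod.smul_snd, Submodule.coe_smul, map_smul, RingHom.id_apply,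
      smul_add]
  invFun w := (⟨Matrix.toLin' (1 - J0 * G0) w, w, rfl⟩, Matrix.toLin' G0 w)
  left_inv := by
    rintro ⟨⟨x, y, hy⟩, v⟩
    subst hy
    have h1 : (1 - J0 * G0) * (1 - J0 * G0) = 1 - J0 * G0 := by
      apply one_sub_idem
      rw [Matrix.mul_assoc, ← Matrix.mul_assoc G0, h, Matrix.one_mul]
    have h2 : (1 - J0 * G0) * J0 = 0 := by
      rw [Matrix.sub_mul, Matrix.one_mul, Matrix.mul_assoc, h, Matrix.mul_one, sub_self]
    have h3 : G0 * (1 - J0 * G0) = 0 := by
      rw [Matrix.mul_sub, Matrix.mul_one, ← Matrix.mul_assoc, h, Matrix.one_mul, sub_self]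
    refine Prod.ext (Subtype.ext ?_) ?_
    · simp only [map_add]
      rw [← Matrix.toLin'_mul_apply, ← Matrix.toLin'_mul_apply, h1, h2]
      simp
    · simp only [map_add]
      rw [← Matrix.toLin'_mul_apply, ← Matrix.toLin'_mul_apply, h3, h]
      simp
  right_inv w := by
    simp only []
    rw [← Matrix.toLin'_mul_apply, ← LinearMap.add_apply, ← map_add, sub_add_cancel,
      Matrix.toLin'_one]
    rfl

end SF

end H9Hor.Approx

namespace H9Hor.Approx

section DescC
variable {O K : Type*} [CommRing O] [CommRing K] [Algebra O K] {t : O} [IsLocalization.Away t K]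
variable {C : Type u} {C' : Type v} [CommRing C] [CommRing C'] [Algebra C C'] (e : C' ≃+* K)

theorem map_map_symm {I J : Type*} (A : Matrix I J C') :
    (A.map (e : C' →+* K)).map (e.symm : K →+* C') = A := by
  ext i j
  simp

/-- (c) descent of stably free modules along `C → C' ≃ K` under `Hyp`. -/
theorem exists_stablyFree_descent
    (h : Hyp t ((e : C' →+* K).comp (algebraMap C C')))
    (M' : Type*) [AddCommGroup M'] [Module C' M'] (n m : ℕ)
    (σ : (M' × (Fin n → C')) ≃ₗ[C'] (Fin m → C')) :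
    ∃ (M : Type u) (_ : AddCommGroup M) (_ : Module C M), Module.Finite C M ∧
      Nonempty ((M × (Fin n → C)) ≃ₗ[C] (Fin m → C)) ∧ Nonempty (C' ⊗[C] M ≃ₗ[C'] M') := by
  set J : (Fin n → C') →ₗ[C'] (Fin m → C') :=
    σ.toLinearMap ∘ₗ LinearMap.inr C' M' (Fin n → C') with hJ
  set G : (Fin m → C') →ₗ[C'] (Fin n → C') :=
    LinearMap.snd C' M' (Fin n → C') ∘ₗ σ.symm.toLinearMap with hG
  set f' : (Fin m → C') →ₗ[C'] M' :=
    LinearMap.fst C' M' (Fin n → C') ∘ₗ σ.symm.toLinearMap with hf'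
  set g' : M' →ₗ[C'] (Fin m → C') :=
    σ.toLinearMap ∘ₗ LinearMap.inl C' M' (Fin n → C') with hg'
  have hGJ : G ∘ₗ J = LinearMap.id := by
    refine LinearMap.ext fun x => ?_
    simp [hG, hJ]
  have hfg' : ∀ x, f' (g' x) = x := fun x => by simp [hf', hg']
  have hgf' : g' ∘ₗ f' = LinearMap.id - J ∘ₗ G := by
    refine LinearMap.ext fun w => ?_
    simp only [hf', hg', hJ, hG, LinearMap.comp_apply, LinearMap.sub_apply, LinearMap.id_apply,
      LinearEquiv.coe_coe, LinearMap.fst_apply, LinearMap.snd_apply, LinearMap.inl_apply,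
      LinearMap.inr_apply]
    rw [eq_sub_iff_add_eq, ← map_add]
    simp
  set Jm := LinearMap.toMatrix' J with hJm
  set Gm := LinearMap.toMatrix' G with hGm
  have hGJm : Gm * Jm = 1 := by
    rw [hGm, hJm, ← LinearMap.toMatrix'_comp, hGJ, LinearMap.toMatrix'_id]
  have hgfm : LinearMap.toMatrix' (g' ∘ₗ f') = 1 - Jm * Gm := by
    rw [hgf', map_sub, LinearMap.toMatrix'_id, LinearMap.toMatrix'_comp]
  have hK : Gm.map (e : C' →+* K) * Jm.map (e : C' →+* K) = 1 := by
    rw [← Matrix.map_mul, hGJm]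
    simp
  obtain ⟨J0, G0, h0, hME⟩ := h.exists_split_approx _ _ hK
  have h2 := hME.map (e.symm : K →+* C')
  have e1 : (1 - (J0 * G0).map ((e : C' →+* K).comp (algebraMap C C'))).map
      (e.symm : K →+* C') = (1 - J0 * G0).map (algebraMap C C') := by
    ext i j
    simp [Matrix.sub_apply, Matrix.one_apply, apply_ite]
  have e2 : (1 - Jm.map (e : C' →+* K) * Gm.map (e : C' →+* K)).map (e.symm : K →+* C') =
      1 - Jm * Gm := by
    rw [← Matrix.map_mul, ← map_one_sub, map_map_symm]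
  rw [e1, e2, ← hgfm] at h2
  set ρ0 : Matrix (Fin m) (Fin m) C := 1 - J0 * G0 with hρ0
  have hρρ : ρ0 * ρ0 = ρ0 := by
    apply one_sub_idem
    rw [Matrix.mul_assoc, ← Matrix.mul_assoc G0, h0, Matrix.one_mul]
  set f : (Fin m → C) →ₗ[C] LinearMap.range (Matrix.toLin' ρ0) :=
    (Matrix.toLin' ρ0).rangeRestrict with hf
  set g : LinearMap.range (Matrix.toLin' ρ0) →ₗ[C] (Fin m → C) :=
    (LinearMap.range (Matrix.toLin' ρ0)).subtype with hg
  have hfg : ∀ x, f (g x) = x := by
    rintro ⟨x, y, rfl⟩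
    apply Subtype.ext
    show Matrix.toLin' ρ0 (Matrix.toLin' ρ0 y) = Matrix.toLin' ρ0 y
    rw [← Matrix.toLin'_mul_apply, hρρ]
  have hgf : LinearMap.toMatrix' (g ∘ₗ f) = ρ0 := by
    have : g ∘ₗ f = Matrix.toLin' ρ0 := by
      refine LinearMap.ext fun x => ?_
      rfl
    rw [this, LinearMap.toMatrix'_toLin']
  refine ⟨LinearMap.range (Matrix.toLin' ρ0), inferInstance, inferInstance, inferInstance,
    ⟨sfEquiv J0 G0 h0⟩, ?_⟩
  refine nonempty_equiv_of_mequiv₂ (fBC (C' := C') f) (gBC g) (fBC_gBC f g hfg) f' g' hfg' ?_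
  rw [toMatrix'_gBC_fBC, hgf]
  exact h2

end DescC

end H9Hor.Approx
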