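import Mathlib
import Groth.Agent.Lib.Helper9.Hor.Approx

set_option linter.unusedSectionVars false

open Polynomial

namespace H9Hor.LSeries

open H9Hor.Approx

variable {R : Type*} [CommRing R]

/-- the multiplicative set generated by `X` and the polynomials with constant coefficient `1` -/
noncomputable abbrev S1X (R : Type*) [CommRing R] : Submonoid R[X] :=
  Submonoid.closure ({f : R[X] | f.coeff 0 = 1} ∪ {X})

theorem X_mem : (X : R[X]) ∈ S1X R := Submonoid.subset_closure (Or.inr rfl)

theorem mem_of_coeff {r : R[X]} (hr : r.coeff 0 = 1) : r ∈ S1X R :=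
  Submonoid.subset_closure (Or.inl hr)

/-- the coefficient-wise embedding `R[X] → R((X))` -/
noncomputable def polyToLaurent (R : Type*) [CommRing R] : R[X] →+* LaurentSeries R :=
  (HahnSeries.ofPowerSeries ℤ R).comp Polynomial.coeToPowerSeries.ringHom

theorem polyToLaurent_apply (p : R[X]) :
    polyToLaurent R p = HahnSeries.ofPowerSeries ℤ R (p : PowerSeries R) := rfl

theorem isUnit_ofPS_X_pow (a : ℕ) :
    IsUnit (HahnSeries.ofPowerSeries ℤ R ((PowerSeries.X : PowerSeries R) ^ a)) := by
  have := IsLocalization.map_units (LaurentSeries R)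
    (⟨PowerSeries.X ^ a, a, rfl⟩ : Submonoid.powers (PowerSeries.X : PowerSeries R))
  simpa using this

/-- every Laurent series is `X^{-a}` times a power series -/
theorem exists_mul_X_pow (x : LaurentSeries R) :
    ∃ (P : PowerSeries R) (a : ℕ),
      x * HahnSeries.ofPowerSeries ℤ R (PowerSeries.X ^ a) = HahnSeries.ofPowerSeries ℤ R P := by
  obtain ⟨⟨P, ⟨_, a, rfl⟩⟩, h⟩ :=
    IsLocalization.surj (Submonoid.powers (PowerSeries.X : PowerSeries R)) x
  exact ⟨P, a, by simpa using h⟩

/-- **Lemma U**: a polynomial that is a unit in `R((X))` divides an element of `S1X`. -/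
theorem exists_mul_mem_of_isUnit (n : R[X]) (hn : IsUnit (polyToLaurent R n)) :
    ∃ q : R[X], n * q ∈ S1X R := by
  obtain ⟨v, hv⟩ := hn.exists_right_inv
  obtain ⟨P, a, hP⟩ := exists_mul_X_pow v
  -- n * P = X^a in power series
  have h1 : (n : PowerSeries R) * P = PowerSeries.X ^ a := by
    apply HahnSeries.ofPowerSeries_injective (Γ := ℤ)
    rw [map_mul, ← hP, ← mul_assoc, ← polyToLaurent_apply, hv, one_mul]
  set l' : R[X] := PowerSeries.trunc (a + 1) P with hl'
  set z : PowerSeries R := PowerSeries.mk fun i => PowerSeries.coeff (i + (a + 1)) P with hz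
  have hPz : P = PowerSeries.X ^ (a + 1) * z + (l' : PowerSeries R) :=
    PowerSeries.eq_X_pow_mul_shift_add_trunc (a + 1) P
  -- n * l' = X^a * (1 - X n z)
  have h2 : ((n * l' : R[X]) : PowerSeries R) =
      PowerSeries.X ^ a * (1 - PowerSeries.X * ((n : PowerSeries R) * z)) := by
    rw [Polynomial.coe_mul]
    have : (n : PowerSeries R) * (l' : PowerSeries R) =
        (n : PowerSeries R) * P - (n : PowerSeries R) * (PowerSeries.X ^ (a + 1) * z) := by
      conv_rhs => rw [hPz]
      ring
    rw [this, h1]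
    ring
  have h3 : ∀ d, (n * l').coeff d = PowerSeries.coeff d
      (PowerSeries.X ^ a * (1 - PowerSeries.X * ((n : PowerSeries R) * z))) := by
    intro d
    rw [← h2, Polynomial.coeff_coe]
  have hdvd : (X : R[X]) ^ a ∣ n * l' := by
    rw [Polynomial.X_pow_dvd_iff]
    intro d hd
    rw [h3, PowerSeries.coeff_X_pow_mul', if_neg (by omega)]
  obtain ⟨r, hr⟩ := hdvd
  refine ⟨l', ?_⟩
  rw [hr]
  refine Submonoid.mul_mem _ (Submonoid.pow_mem _ X_mem _) (mem_of_coeff ?_)
  have h4 : r.coeff 0 = (n * l').coeff (0 + a) := by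
    rw [hr, Polynomial.coeff_X_pow_mul]
  rw [h4, h3, PowerSeries.coeff_X_pow_mul]
  simp

section Hyp
variable {L₀ : Type*} [CommRing L₀] [Algebra R[X] L₀] [IsLocalization (S1X R) L₀]
variable (ι : L₀ →+* LaurentSeries R)

theorem hyp (hι : ∀ p : R[X], ι (algebraMap R[X] L₀ p) =
      HahnSeries.ofPowerSeries ℤ R (Polynomial.coeToPowerSeries.ringHom p)) :
    Hyp (PowerSeries.X : PowerSeries R) ι := by
  have hι' : ∀ p : R[X], ι (algebraMap R[X] L₀ p) = polyToLaurent R p := hι
  have huX : IsUnit (algebraMap R[X] L₀ X) :=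
    IsLocalization.map_units L₀ (⟨X, X_mem⟩ : S1X R)
  refine ⟨?_, ?_, ?_⟩
  · intro x
    rw [PowerSeries.isUnit_iff_constantCoeff]
    simp
  · intro x c
    obtain ⟨P, a, hP⟩ := exists_mul_X_pow x
    set T : R[X] := PowerSeries.trunc (c + a) P with hT
    set z : PowerSeries R := PowerSeries.mk fun i => PowerSeries.coeff (i + (c + a)) P with hz
    have hPz : P = PowerSeries.X ^ (c + a) * z + (T : PowerSeries R) :=
      PowerSeries.eq_X_pow_mul_shift_add_trunc (c + a) P
    obtain ⟨u, hu⟩ := huX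
    refine ⟨((u⁻¹ : L₀ˣ) : L₀) ^ a * algebraMap R[X] L₀ T, z, ?_⟩
    have hXa := isUnit_ofPS_X_pow (R := R) a
    apply hXa.mul_left_injective
    simp only []
    rw [hP, add_mul, LaurentSeries.coe_algebraMap]
    have h1 : ι (((u⁻¹ : L₀ˣ) : L₀) ^ a * algebraMap R[X] L₀ T) *
        HahnSeries.ofPowerSeries ℤ R (PowerSeries.X ^ a) =
        HahnSeries.ofPowerSeries ℤ R (T : PowerSeries R) := by
      have h2 : HahnSeries.ofPowerSeries ℤ R ((PowerSeries.X : PowerSeries R) ^ a) =
          ι ((u : L₀) ^ a) := by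
        rw [hu, ← map_pow, hι']
        rw [polyToLaurent_apply, Polynomial.coe_pow, Polynomial.coe_X]
      rw [h2, ← map_mul, mul_right_comm, ← mul_pow, Units.inv_mul, one_pow, one_mul, hι']
      rfl
    rw [h1, ← map_mul, ← map_add]
    congr 1
    conv_lhs => rw [hPz]
    ring
  · intro y hy
    obtain ⟨⟨n, σ⟩, hnσ⟩ := IsLocalization.surj (S1X R) y
    have hσ : IsUnit (algebraMap R[X] L₀ σ) := IsLocalization.map_units L₀ σ
    simp only [] at hnσ
    have hn : IsUnit (polyToLaurent R n) := by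
      rw [← hι', ← hnσ, map_mul]
      exact hy.mul (hσ.map ι)
    obtain ⟨q, hq⟩ := exists_mul_mem_of_isUnit n hn
    have h1 : IsUnit (algebraMap R[X] L₀ (n * q)) :=
      IsLocalization.map_units L₀ (⟨n * q, hq⟩ : S1X R)
    rw [map_mul] at h1
    have h2 : IsUnit (algebraMap R[X] L₀ n) := isUnit_of_mul_isUnit_left h1
    rw [← hnσ] at h2
    exact isUnit_of_mul_isUnit_left h2

end Hyp

end H9Hor.LSeries
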