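import Mathlib

set_option linter.unusedSectionVars false

namespace H9Hor

section LB
variable {R : Type*} [CommRing R] (r : R) {N : Type*} [AddCommGroup N] [Module R N]
variable {I : Type*} [Fintype I] [DecidableEq I]

/-- a basis of the localization `N_r` gives elements of `N` generating and independent up to
powers of `r` -/
theorem exists_family_of_basis_away
    (b' : Module.Basis I (Localization (Submonoid.powers r)) (LocalizedModule.Away r N)) :
    ∃ ν : I → N, (∀ y : N, ∃ (l : ℕ) (c : I → R), r ^ l • y = ∑ i, c i • ν i) ∧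
      (∀ c : I → R, ∑ i, c i • ν i = 0 → ∃ l : ℕ, ∀ i, r ^ l * c i = 0) := by
  classical
  let S := Submonoid.powers r
  let mk := LocalizedModule.mkLinearMap S N
  choose x hx using fun i => IsLocalizedModule.surj S mk (b' i)
  let ν : I → N := fun i => (x i).1
  let s : I → S := fun i => (x i).2
  have hν : ∀ i, (s i : R) • b' i = mk (ν i) := fun i => hx i
  have hsmul : ∀ (a : R) (z : LocalizedModule.Away r N),
      a • z = algebraMap R (Localization S) a • z := fun a z => (algebraMap_smul _ a z).symm
  refine ⟨ν, ?_, ?_⟩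
  · intro y
    let a : I → Localization S := fun i => b'.repr (mk y) i
    choose w hw using fun i => IsLocalization.surj S (a i)
    -- hw i : a i * algebraMap (w i).2 = algebraMap (w i).1
    let T : S := ∏ i, ((w i).2 * s i)
    let T' : I → S := fun i => ∏ j ∈ Finset.univ.erase i, ((w j).2 * s j)
    have hT : ∀ i, (T : R) = (T' i : R) * ((w i).2 * s i : S) := fun i => by
      change ((∏ i, ((w i).2 * s i) : S) : R) = _
      rw [← Finset.prod_erase_mul _ _ (Finset.mem_univ i)]
      simp [T']
    have h1 : mk ((T : R) • y) = mk (∑ i, ((T' i : R) * (w i).1) • ν i) := by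
      rw [map_smul, map_sum]
      conv_lhs => rw [← b'.sum_repr (mk y), Finset.smul_sum]
      refine Finset.sum_congr rfl fun i _ => ?_
      rw [map_smul, ← hν i, hT i]
      change _ • (a i • b' i) = _
      rw [hsmul, hsmul, hsmul, smul_smul, smul_smul]
      congr 1
      simp only [map_mul, Submonoid.coe_mul]
      rw [← hw i]
      ring
    obtain ⟨t, ht⟩ := IsLocalizedModule.exists_of_eq (S := S) (f := mk) h1
    obtain ⟨l, hl⟩ : ∃ l : ℕ, r ^ l = (t : R) * (T : R) := by
      obtain ⟨l₁, h₁⟩ := (t * T).2
      exact ⟨l₁, by simpa using h₁⟩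
    refine ⟨l, fun i => (t : R) * ((T' i : R) * (w i).1), ?_⟩
    rw [hl, mul_smul]
    have ht' : (t : R) • ((T : R) • y) = (t : R) • ∑ i, ((T' i : R) * (w i).1) • ν i := ht
    rw [ht', Finset.smul_sum]
    refine Finset.sum_congr rfl fun i _ => ?_
    rw [smul_smul]
  · intro c hc
    have h1 : ∑ i, algebraMap R (Localization S) (c i * (s i : R)) • b' i = 0 := by
      have := congrArg mk hc
      rw [map_sum, map_zero] at this
      rw [← this]
      refine Finset.sum_congr rfl fun i _ => ?_
      rw [map_smul, ← hν i, hsmul, hsmul, smul_smul, ← map_mul]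
    have h2 := (Fintype.linearIndependent_iff.mp b'.linearIndependent) _ h1
    have h3 : ∀ i, ∃ l : ℕ, r ^ l * c i = 0 := by
      intro i
      obtain ⟨⟨_, l₁, rfl⟩, hl₁⟩ := (IsLocalization.map_eq_zero_iff S (Localization S) _).mp (h2 i)
      obtain ⟨l₂, hl₂⟩ := (s i).2
      refine ⟨l₁ + l₂, ?_⟩
      simp only at hl₁
      have hl₂' : r ^ l₂ = (s i : R) := hl₂
      rw [pow_add, mul_assoc, mul_comm (r ^ l₂), hl₂']
      exact hl₁
    choose l hl using h3
    refine ⟨∑ i, l i, fun i => ?_⟩
    have : ∑ i, l i = (∑ i, l i - l i) + l i :=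
      (Nat.sub_add_cancel (Finset.single_le_sum (fun _ _ => Nat.zero_le _) (Finset.mem_univ i))).symm
    rw [this, pow_add, mul_assoc, hl i, mul_zero]

end LB

end H9Hor
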