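import Mathlib
import Groth.Agent.Lib.Helper9.Hor.LB

set_option linter.unusedSectionVars false

namespace H9Hor

/-- `ν` becomes a basis after inverting `r` (elementwise form). -/
structure AlmostBasis {B : Type*} [CommRing B] {N : Type*} [AddCommGroup N] [Module B N]
    {I : Type*} [Fintype I] (r : B) (ν : I → N) : Prop where
  span : ∀ y : N, ∃ (l : ℕ) (c : I → B), r ^ l • y = ∑ i, c i • ν i
  indep : ∀ c : I → B, ∑ i, c i • ν i = 0 → ∃ l : ℕ, ∀ i, r ^ l * c i = 0

namespace AlmostBasis

section
variable {B : Type*} [CommRing B] {N : Type*} [AddCommGroup N] [Module B N]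
variable {I : Type*} [Fintype I] {r : B} {ν : I → N}

theorem of_basis_away [DecidableEq I] (r : B)
    (b' : Module.Basis I (Localization (Submonoid.powers r)) (LocalizedModule.Away r N)) :
    ∃ ν : I → N, AlmostBasis r ν := by
  obtain ⟨ν, h1, h2⟩ := exists_family_of_basis_away r b'
  exact ⟨ν, ⟨h1, h2⟩⟩

theorem localize (h : AlmostBasis r ν) (S : Submonoid B) (B' : Type*) [CommRing B'] [Algebra B B']
    [IsLocalization S B'] {N' : Type*} [AddCommGroup N'] [Module B N'] [Module B' N']
    [IsScalarTower B B' N'] (f : N →ₗ[B] N') [IsLocalizedModule S f] :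
    AlmostBasis (algebraMap B B' r) (fun i => f (ν i)) := by
  have hsm : ∀ (a : B) (z : N'), a • z = algebraMap B B' a • z :=
    fun a z => (algebraMap_smul _ a z).symm
  constructor
  · intro y'
    obtain ⟨⟨y, s⟩, hy⟩ := IsLocalizedModule.surj S f y'
    obtain ⟨l, c, hc⟩ := h.span y
    obtain ⟨v, hv⟩ := IsLocalization.map_units B' s
    refine ⟨l, fun i => ↑v⁻¹ * algebraMap B B' (c i), ?_⟩
    have hy' : (v : B') • y' = f y := by
      rw [hv, ← hsm]; exact hy
    have h1 : (v : B') • (algebraMap B B' r ^ l • y') = ∑ i, algebraMap B B' (c i) • f (ν i) := by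
      rw [smul_comm, hy', ← map_pow, ← hsm, ← map_smul, hc, map_sum]
      refine Finset.sum_congr rfl fun i _ => ?_
      rw [map_smul, hsm]
    calc algebraMap B B' r ^ l • y'
        = (↑v⁻¹ : B') • ((v : B') • (algebraMap B B' r ^ l • y')) := by
          rw [smul_smul, Units.inv_mul, one_smul]
      _ = _ := by
          rw [h1, Finset.smul_sum]
          refine Finset.sum_congr rfl fun i _ => ?_
          rw [smul_smul]
  · intro c' hc'
    obtain ⟨s, hs⟩ := IsLocalization.exist_integer_multiples_of_finite S c'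
    choose c hc using hs
    have h1 : f (∑ i, c i • ν i) = 0 := by
      rw [map_sum]
      have : ∀ i, f (c i • ν i) = (s : B) • (c' i • f (ν i)) := fun i => by
        rw [map_smul, hsm, hc i, smul_assoc]
      simp_rw [this]
      rw [← Finset.smul_sum, hc', smul_zero]
    obtain ⟨s', hs'⟩ := (IsLocalizedModule.eq_zero_iff S f).mp h1
    have h2 : ∑ i, ((s' : B) * c i) • ν i = 0 := by
      rw [← hs', Submonoid.smul_def, Finset.smul_sum]
      refine Finset.sum_congr rfl fun i _ => ?_
      rw [mul_smul]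
    obtain ⟨l, hl⟩ := h.indep _ h2
    refine ⟨l, fun i => ?_⟩
    have h3 := congrArg (algebraMap B B') (hl i)
    rw [map_mul, map_mul, map_zero, hc i, map_pow, Algebra.smul_def] at h3
    have hu : IsUnit (algebraMap B B' s' * algebraMap B B' s) :=
      (IsLocalization.map_units B' s').mul (IsLocalization.map_units B' s)
    apply hu.mul_left_cancel
    rw [mul_zero, ← h3]
    ring

/-- transport along a semilinear bijection -/
theorem transport (h : AlmostBasis r ν) {B' : Type*} [CommRing B'] (σ : B' ≃+* B)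
    {M : Type*} [AddCommGroup M] [Module B' M] (e : M →ₛₗ[(σ : B' →+* B)] N)
    (he : Function.Injective e) (q : I → M) (hq : ∀ i, e (q i) = ν i) :
    AlmostBasis (σ.symm r) q := by
  have hsm : ∀ (a : B) (z : M), e (σ.symm a • z) = a • e z := fun a z => by
    rw [map_smulₛₗ]; simp
  constructor
  · intro z
    obtain ⟨l, c, hc⟩ := h.span (e z)
    refine ⟨l, fun i => σ.symm (c i), he ?_⟩
    rw [← map_pow, hsm, hc, map_sum]
    refine Finset.sum_congr rfl fun i _ => ?_
    rw [hsm, hq]
  · intro c hc
    have h1 : ∑ i, σ (c i) • ν i = 0 := by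
      have := congrArg e hc
      rw [map_sum, map_zero] at this
      rw [← this]
      refine Finset.sum_congr rfl fun i _ => ?_
      rw [map_smulₛₗ, hq]; rfl
    obtain ⟨l, hl⟩ := h.indep _ h1
    refine ⟨l, fun i => ?_⟩
    apply σ.injective
    rw [map_mul, map_pow, σ.apply_symm_apply, map_zero]
    exact hl i

/-- change by units -/
theorem units (h : AlmostBasis r ν) (v : Bˣ) (r' : B) (hr : r = v * r') (w : I → Bˣ) (ν' : I → N)
    (hν : ∀ i, ν i = w i • ν' i) : AlmostBasis r' ν' := by
  constructor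
  · intro y
    obtain ⟨l, c, hc⟩ := h.span y
    refine ⟨l, fun i => (↑(v ^ l)⁻¹ : B) * (c i * w i), ?_⟩
    have h1 : ((v ^ l : Bˣ) : B) • (r' ^ l • y) = ∑ i, (c i * w i) • ν' i := by
      rw [smul_smul, Units.val_pow_eq_pow_val, ← mul_pow, ← hr, hc]
      refine Finset.sum_congr rfl fun i _ => ?_
      rw [hν i, mul_smul]; rfl
    calc r' ^ l • y = (↑(v ^ l)⁻¹ : B) • (((v ^ l : Bˣ) : B) • (r' ^ l • y)) := by
          rw [smul_smul, Units.inv_mul, one_smul]
      _ = _ := by
          rw [h1, Finset.smul_sum]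
          refine Finset.sum_congr rfl fun i _ => ?_
          rw [smul_smul]
  · intro c hc
    have h1 : ∑ i, (c i * (↑(w i)⁻¹ : B)) • ν i = 0 := by
      rw [← hc]
      refine Finset.sum_congr rfl fun i _ => ?_
      rw [hν i, Units.smul_def, smul_smul, mul_assoc, Units.inv_mul, mul_one]
    obtain ⟨l, hl⟩ := h.indep _ h1
    refine ⟨l, fun i => ?_⟩
    have h2 := hl i
    rw [hr, mul_pow] at h2
    have hu : IsUnit ((v : B) ^ l * (↑(w i)⁻¹ : B)) := (v.isUnit.pow l).mul (w i)⁻¹.isUnit
    apply hu.mul_left_cancel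
    rw [mul_zero, ← h2]
    ring

/-- descend from the localization at `t` -/
theorem descend (t : B) (B' : Type*) [CommRing B'] [Algebra B B']
    [IsLocalization (Submonoid.powers t) B'] {N' : Type*} [AddCommGroup N'] [Module B N']
    [Module B' N'] [IsScalarTower B B' N'] (f : N →ₗ[B] N')
    [IsLocalizedModule (Submonoid.powers t) f]
    (h : AlmostBasis (algebraMap B B' r) (fun i => f (ν i))) : AlmostBasis (t * r) ν := by
  have hsm : ∀ (a : B) (z : N'), a • z = algebraMap B B' a • z :=
    fun a z => (algebraMap_smul _ a z).symm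
  constructor
  · intro y
    obtain ⟨l, c', hc'⟩ := h.span (f y)
    obtain ⟨s, hs⟩ := IsLocalization.exist_integer_multiples_of_finite (Submonoid.powers t) c'
    choose c hc using hs
    have h1 : f ((s : B) • r ^ l • y) = f (∑ i, c i • ν i) := by
      rw [map_smul, map_smul, hsm (r ^ l), map_pow, hc', Finset.smul_sum, map_sum]
      refine Finset.sum_congr rfl fun i _ => ?_
      rw [map_smul, hsm (c i), hc i, smul_assoc]
    obtain ⟨s', hs'⟩ := IsLocalizedModule.exists_of_eq (S := Submonoid.powers t) (f := f) h1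
    obtain ⟨k, hk⟩ : ∃ k : ℕ, t ^ k = (s' : B) * (s : B) := by
      obtain ⟨k, hk⟩ := (s' * s).2
      exact ⟨k, by simpa using hk⟩
    have h2 : (t ^ k * r ^ l) • y = ∑ i, ((s' : B) * c i) • ν i := by
      have hs'' : (s' : B) • ((s : B) • r ^ l • y) = (s' : B) • ∑ i, c i • ν i := hs'
      rw [hk, mul_smul, mul_smul, hs'', Finset.smul_sum]
      refine Finset.sum_congr rfl fun i _ => ?_
      rw [mul_smul]
    refine ⟨k + l, fun i => t ^ l * r ^ k * ((s' : B) * c i), ?_⟩
    have : (t * r) ^ (k + l) = t ^ l * r ^ k * (t ^ k * r ^ l) := by ring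
    rw [this, mul_smul, h2, Finset.smul_sum]
    refine Finset.sum_congr rfl fun i _ => ?_
    rw [smul_smul]
  · intro c hc
    have h1 : ∑ i, algebraMap B B' (c i) • f (ν i) = 0 := by
      have := congrArg f hc
      rw [map_sum, map_zero] at this
      rw [← this]
      refine Finset.sum_congr rfl fun i _ => ?_
      rw [map_smul, hsm]
    obtain ⟨l, hl⟩ := h.indep _ h1
    have h3 : ∀ i, ∃ k : ℕ, t ^ k * (r ^ l * c i) = 0 := by
      intro i
      have h2 : algebraMap B B' (r ^ l * c i) = 0 := by
        rw [map_mul, map_pow]; exact hl i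
      obtain ⟨⟨_, k, rfl⟩, hk⟩ :=
        (IsLocalization.map_eq_zero_iff (Submonoid.powers t) B' _).mp h2
      exact ⟨k, hk⟩
    choose k hk using h3
    refine ⟨∑ i, k i + l, fun i => ?_⟩
    have h4 : ∑ i, k i = (∑ i, k i - k i) + k i :=
      (Nat.sub_add_cancel
        (Finset.single_le_sum (fun _ _ => Nat.zero_le _) (Finset.mem_univ i))).symm
    obtain ⟨m, hm⟩ : ∃ m, ∑ i, k i = m + k i := ⟨_, h4⟩
    have : (t * r) ^ (m + k i + l) * c i
        = t ^ l * r ^ (m + k i) * t ^ m * (t ^ k i * (r ^ l * c i)) := by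
      ring
    rw [hm, this, hk i, mul_zero]

/-- if `r` is a nonzerodivisor, the family is linearly independent -/
theorem linearIndependent (h : AlmostBasis r ν) (hr : ∀ x : B, r * x = 0 → x = 0) :
    LinearIndependent B ν := by
  rw [Fintype.linearIndependent_iff]
  intro c hc i
  obtain ⟨l, hl⟩ := h.indep c hc
  have : ∀ l : ℕ, r ^ l * c i = 0 → c i = 0 := by
    intro l
    induction l with
    | zero => intro h; simpa using h
    | succ l ih =>
      intro h
      apply ih
      apply hr
      rw [← mul_assoc, ← pow_succ']; exact h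
  exact this l (hl i)

theorem span_range (h : AlmostBasis r ν) (y : N) :
    ∃ K : ℕ, r ^ K • y ∈ Submodule.span B (Set.range ν) := by
  obtain ⟨l, c, hc⟩ := h.span y
  refine ⟨l, ?_⟩
  rw [hc]
  exact Submodule.sum_mem _ fun i _ =>
    Submodule.smul_mem _ _ (Submodule.subset_span (Set.mem_range_self i))

end

end AlmostBasis

end H9Hor
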