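import Mathlib
import Groth.Agent.Lib.Helper9.Hor.Approx

set_option linter.unusedSectionVars false

namespace H9Hor.AdicHyp

open H9Hor.Approx

variable {A : Type*} [CommRing A] (t : A)

/-- the `t`-adic completion -/
abbrev Ah : Type _ := AdicCompletion (Ideal.span ({t} : Set A)) A

theorem fg_span : (Ideal.span {t} : Ideal A).FG := ⟨{t}, by simp⟩

/-- `1 + t̂ x` is a unit in the completion -/
theorem isUnit_one_add (x : (Ah t)) : IsUnit (1 + algebraMap A (Ah t) t * x) := by
  haveI := AdicCompletion.isAdicComplete_self (Ideal.span {t}) (fg_span t)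
  have hle := IsAdicComplete.le_jacobson_bot ((Ideal.span {t}).map (algebraMap A (Ah t)))
  have hmem : algebraMap A (Ah t) t ∈ (Ideal.span {t}).map (algebraMap A (Ah t)) :=
    Ideal.mem_map_of_mem _ (Ideal.mem_span_singleton_self t)
  have := Ideal.mem_jacobson_bot.mp (hle hmem) x
  rwa [add_comm] at this

/-- every element of the completion is an element of `A` up to `t̂^n` -/
theorem exists_approx (P : (Ah t)) (n : ℕ) :
    ∃ (p : A) (z : (Ah t)), P = algebraMap A (Ah t) p + algebraMap A (Ah t) t ^ n * z := by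
  obtain ⟨p, hp⟩ := Ideal.Quotient.mk_surjective (AdicCompletion.evalₐ (Ideal.span {t}) n P)
  have h0 : AdicCompletion.evalₐ (Ideal.span {t}) n (P - algebraMap A (Ah t) p) = 0 := by
    rw [map_sub, AdicCompletion.algebraMap_apply, Algebra.algebraMap_self_apply,
      AdicCompletion.evalₐ_of, hp, sub_self]
  have h1 : AdicCompletion.eval (Ideal.span {t}) A n (P - algebraMap A (Ah t) p) = 0 := by
    have hle : Ideal.span {t} ^ n ≤ (Ideal.span {t} ^ n • ⊤ : Ideal A) := by
      rw [smul_eq_mul, Ideal.mul_top]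
    rw [← AdicCompletion.factor_evalₐ_eq_eval (Ideal.span {t}) _ hle, h0, map_zero]
  have h2 : P - algebraMap A (Ah t) p ∈
      ((Ideal.span {t}) ^ n • ⊤ : Submodule A (Ah t)) := by
    rw [AdicCompletion.pow_smul_top_eq_ker_eval (fg_span t)]
    exact h1
  rw [Ideal.span_singleton_pow, Submodule.ideal_span_singleton_smul,
    Submodule.mem_smul_pointwise_iff_exists] at h2
  obtain ⟨z, -, hz⟩ := h2
  refine ⟨p, z, ?_⟩
  rw [← map_pow, ← Algebra.smul_def, hz]
  ring

section Hyp
variable {C K : Type*} [CommRing C] [CommRing K] [Algebra A C] [IsLocalization.Away t C]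
  [Algebra (Ah t) K] [IsLocalization.Away (algebraMap A (Ah t) t) K] (ι : C →+* K)

theorem hyp (ht : t ∈ (⊥ : Ideal A).jacobson)
    (hι : ∀ a : A, ι (algebraMap A C a) = algebraMap (Ah t) K (algebraMap A (Ah t) a)) :
    Hyp (algebraMap A (Ah t) t) ι := by
  have hut : ∀ k : ℕ, IsUnit (algebraMap (Ah t) K (algebraMap A (Ah t) t ^ k)) := fun k =>
    IsLocalization.map_units K
      (⟨algebraMap A (Ah t) t ^ k, k, rfl⟩ : Submonoid.powers (algebraMap A (Ah t) t))
  have hutC : ∀ k : ℕ, IsUnit (algebraMap A C (t ^ k)) := fun k =>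
    IsLocalization.map_units C (⟨t ^ k, k, rfl⟩ : Submonoid.powers t)
  refine ⟨isUnit_one_add t, ?_, ?_⟩
  · intro x c
    obtain ⟨⟨P, ⟨_, a, rfl⟩⟩, h⟩ :=
      IsLocalization.surj (Submonoid.powers (algebraMap A (Ah t) t)) x
    simp only [] at h
    obtain ⟨p, z, hpz⟩ := exists_approx t P (c + a)
    refine ⟨IsLocalization.mk' C p (⟨t ^ a, a, rfl⟩ : Submonoid.powers t), z, ?_⟩
    apply (hut a).mul_left_injective
    simp only []
    rw [h, add_mul]
    have e1 : algebraMap (Ah t) K (algebraMap A (Ah t) t ^ a) = ι (algebraMap A C (t ^ a)) := by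
      rw [hι, map_pow, map_pow, map_pow]
    have e2 : ι (IsLocalization.mk' C p (⟨t ^ a, a, rfl⟩ : Submonoid.powers t)) *
        algebraMap (Ah t) K (algebraMap A (Ah t) t ^ a) =
        algebraMap (Ah t) K (algebraMap A (Ah t) p) := by
      rw [e1, ← map_mul]
      have := IsLocalization.mk'_spec C p (⟨t ^ a, a, rfl⟩ : Submonoid.powers t)
      simp only [] at this
      rw [this, hι]
    rw [e2, ← map_mul, ← map_add, hpz]
    congr 1
    ring
  · intro y hy
    obtain ⟨⟨a, ⟨_, k, rfl⟩⟩, h⟩ := IsLocalization.surj (Submonoid.powers t) y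
    simp only [] at h
    have ha : IsUnit (algebraMap (Ah t) K (algebraMap A (Ah t) a)) := by
      rw [← hι, ← h, map_mul]
      exact hy.mul ((hutC k).map ι)
    obtain ⟨v, hv⟩ := ha.exists_right_inv
    obtain ⟨⟨bh, ⟨_, j, rfl⟩⟩, hb⟩ :=
      IsLocalization.surj (Submonoid.powers (algebraMap A (Ah t) t)) v
    simp only [] at hb
    have h1 : algebraMap (Ah t) K (algebraMap A (Ah t) a * bh) =
        algebraMap (Ah t) K (algebraMap A (Ah t) t ^ j) := by
      rw [map_mul, ← hb, ← mul_assoc, hv, one_mul]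
    obtain ⟨⟨_, i, rfl⟩, hi⟩ :=
      (IsLocalization.eq_iff_exists (Submonoid.powers (algebraMap A (Ah t) t)) K).mp h1
    simp only [] at hi
    obtain ⟨b, hb'⟩ := Ideal.Quotient.mk_surjective
      (AdicCompletion.evalₐ (Ideal.span {t}) (i + j + 1) bh)
    have hev : ∀ r : A, AdicCompletion.evalₐ (Ideal.span {t}) (i + j + 1) (algebraMap A (Ah t) r) =
        Ideal.Quotient.mk _ r := fun r => by
      rw [AdicCompletion.algebraMap_apply, Algebra.algebraMap_self_apply, AdicCompletion.evalₐ_of]
    have h2 : Ideal.Quotient.mk (Ideal.span {t} ^ (i + j + 1)) (t ^ i * (a * b)) =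
        Ideal.Quotient.mk _ (t ^ (i + j)) := by
      have := congrArg (AdicCompletion.evalₐ (Ideal.span {t}) (i + j + 1)) hi
      simp only [map_mul, map_pow, hev, ← hb'] at this
      rw [map_mul, map_mul, map_pow, map_pow, this, ← pow_add]
    have h3 : t ^ i * (a * b) - t ^ (i + j) ∈ Ideal.span {t} ^ (i + j + 1) :=
      Ideal.Quotient.eq.mp h2
    rw [Ideal.span_singleton_pow, Ideal.mem_span_singleton'] at h3
    obtain ⟨v', hv'⟩ := h3
    have h4 : t ^ i * (a * b) = t ^ (i + j) * (1 + t * v') := by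
      linear_combination -hv'
    have hu : IsUnit (1 + t * v') := by
      have := Ideal.mem_jacobson_bot.mp ht v'
      rwa [add_comm] at this
    have h5 : IsUnit (algebraMap A C (t ^ i * (a * b))) := by
      rw [h4, map_mul]
      exact (hutC (i + j)).mul (hu.map _)
    rw [map_mul, map_mul] at h5
    have h6 : IsUnit (algebraMap A C a) :=
      isUnit_of_mul_isUnit_left (isUnit_of_mul_isUnit_right h5)
    rw [← h] at h6
    exact isUnit_of_mul_isUnit_left h6

end Hyp

end H9Hor.AdicHyp
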