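import Mathlib
import Groth.Agent.Lib.Helper9.Hor.AdicHyp

set_option linter.unusedSectionVars false

open Polynomial

namespace H9Hor.AdicIdem

open H9Hor.AdicHyp

section Quad
variable {A : Type*} [CommRing A] (t : A) [HenselianRing A (Ideal.span {t})]

theorem isUnit_one_add_mul (w : A) : IsUnit (1 + t * w) := by
  have hjac := HenselianRing.jac (R := A) (I := Ideal.span {t})
  have := Ideal.mem_jacobson_bot.mp (hjac (Ideal.mem_span_singleton_self t)) w
  rwa [add_comm] at this

/-- the root near `1` of `u² - u + t c' = 0` -/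
theorem exists_root_quad (c' : A) : ∃ u ui : A, u * ui = 1 ∧ u ^ 2 - u + t * c' = 0 := by
  have hmonic : (X ^ (1 + 1) - (X - C (t * c')) : A[X]).Monic :=
    monic_X_pow_sub (lt_of_le_of_lt (degree_X_sub_C_le _) (by norm_num))
  obtain ⟨u, hroot, hu⟩ := HenselianRing.is_henselian (R := A) (I := Ideal.span {t})
    (X ^ (1 + 1) - (X - C (t * c')) : A[X]) hmonic 1
    (by simp [Ideal.mem_span_singleton])
    (by
      have : (derivative (X ^ (1 + 1) - (X - C (t * c')) : A[X])).eval 1 = 1 := by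
        simp only [derivative_sub, derivative_X_pow, derivative_X, derivative_C, eval_sub,
          eval_mul, eval_pow, eval_X, eval_one, sub_zero, eval_C]
        simp
        norm_num
      rw [this, map_one]
      exact isUnit_one)
  have hunit : IsUnit u := by
    rw [Ideal.mem_span_singleton'] at hu
    obtain ⟨w, hw⟩ := hu
    have := isUnit_one_add_mul t w
    have e : u = 1 + t * w := by linear_combination -hw
    rwa [e]
  obtain ⟨ui, hui⟩ := hunit.exists_right_inv
  refine ⟨u, ui, hui, ?_⟩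
  have := hroot
  simp only [IsRoot.def, eval_sub, eval_pow, eval_X, eval_C] at this
  linear_combination this

/-- explicit Newton step for `y² = T y`: an approximate solution can be corrected. -/
theorem exists_idem_lift (a c T : A) (k : ℕ) (hf : a ^ 2 - T * a = T ^ 2 * t * t ^ k * c) :
    ∃ r : A, (a + t ^ (k + 1) * r) ^ 2 = T * (a + t ^ (k + 1) * r) := by
  obtain ⟨v, vi, hv⟩ : ∃ v vi : A, v = 1 + t * (4 * t ^ k * c) ∧ v * vi = 1 := by
    obtain ⟨vi, hvi⟩ := (isUnit_one_add_mul t (4 * t ^ k * c)).exists_right_inv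
    exact ⟨_, vi, rfl, hvi⟩
  obtain ⟨hvdef, hv⟩ := hv
  obtain ⟨u, ui, hui, hu⟩ := exists_root_quad t (t ^ k * c * vi)
  refine ⟨-((2 * a - T) * c * vi * ui), ?_⟩
  have hd2 : (2 * a - T) ^ 2 = T ^ 2 * v := by
    rw [hvdef]; linear_combination 4 * hf
  linear_combination hf + (-(t * t ^ k * c) * vi * ui + (t * t ^ k * c) ^ 2 * vi ^ 2 * ui ^ 2) * hd2
    + (-(T ^ 2 * (t * t ^ k * c) * ui) + T ^ 2 * (t * t ^ k * c) ^ 2 * vi * ui ^ 2) * hv
    + T ^ 2 * (t * t ^ k * c) * ui ^ 2 * hu
    + T ^ 2 * (t * t ^ k * c) * (ui - u * ui - 1) * hui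

end Quad

section Main
variable {A : Type*} [CommRing A] (t : A) [HenselianRing A (Ideal.span {t})]
variable {C K : Type*} [CommRing C] [CommRing K] [Algebra A C] [IsLocalization.Away t C]
  [Algebra (Ah t) K] [IsLocalization.Away (algebraMap A (Ah t) t) K] (ι : C →+* K)

theorem sub_pow_three_of_idem {B : Type*} [CommRing B] {p e : B} (hp : p * p = p)
    (he : e * e = e) : (p - e) ^ 3 = p - e := by
  linear_combination (p + 1 - 3 * e) * hp + (3 * p - e - 1) * he

theorem eq_zero_of_pow_three {B : Type*} [CommRing B] {u : B} (h3 : u ^ 3 = u)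
    (hunit : IsUnit (1 - u ^ 2)) : u = 0 := by
  have : u * (1 - u ^ 2) = 0 := by linear_combination -h3
  exact (hunit.mul_left_eq_zero).mp this

theorem evalₐ_algebraMap (N : ℕ) (r : A) :
    AdicCompletion.evalₐ (Ideal.span {t}) N (algebraMap A (Ah t) r) = Ideal.Quotient.mk _ r := by
  rw [AdicCompletion.algebraMap_apply, Algebra.algebraMap_self_apply, AdicCompletion.evalₐ_of]

/-- if the image of `r` in the completion is a multiple of `t̂^N` then `r` is a multiple of `t^N` -/
theorem exists_eq_mul_of_completion (N : ℕ) (r : A) (z : Ah t)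
    (h : algebraMap A (Ah t) r = algebraMap A (Ah t) t ^ N * z) : ∃ c : A, r = t ^ N * c := by
  have h1 := congrArg (AdicCompletion.evalₐ (Ideal.span {t}) N) h
  rw [map_mul, map_pow, evalₐ_algebraMap, evalₐ_algebraMap, ← map_pow] at h1
  have h2 : Ideal.Quotient.mk (Ideal.span {t} ^ N) (t ^ N) = 0 := by
    rw [Ideal.Quotient.eq_zero_iff_mem]
    exact Ideal.pow_mem_pow (Ideal.mem_span_singleton_self t) N
  rw [h2, zero_mul, Ideal.Quotient.eq_zero_iff_mem, Ideal.span_singleton_pow,
    Ideal.mem_span_singleton'] at h1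
  obtain ⟨c, hc⟩ := h1
  exact ⟨c, by rw [← hc, mul_comm]⟩

theorem existsUnique_idem
    (hι : ∀ a : A, ι (algebraMap A C a) = algebraMap (Ah t) K (algebraMap A (Ah t) a))
    (e : K) (he : IsIdempotentElem e) :
    ∃! e₀ : C, IsIdempotentElem e₀ ∧ ι e₀ = e := by
  have hut : ∀ k : ℕ, IsUnit (algebraMap (Ah t) K (algebraMap A (Ah t) t ^ k)) := fun k =>
    IsLocalization.map_units K
      (⟨algebraMap A (Ah t) t ^ k, k, rfl⟩ : Submonoid.powers (algebraMap A (Ah t) t))
  have hutC : ∀ k : ℕ, IsUnit (algebraMap A C (t ^ k)) := fun k =>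
    IsLocalization.map_units C (⟨t ^ k, k, rfl⟩ : Submonoid.powers t)
  -- uniqueness statement
  have huniq : ∀ e₀ e₁ : C, IsIdempotentElem e₀ → IsIdempotentElem e₁ → ι e₀ = ι e₁ →
      e₀ = e₁ := by
    intro e₀ e₁ h₀ h₁ h01
    have h3 := sub_pow_three_of_idem h₀.eq h₁.eq
    have hι0 : ι (e₀ - e₁) = 0 := by rw [map_sub, h01, sub_self]
    obtain ⟨⟨a', ⟨_, k, rfl⟩⟩, h⟩ := IsLocalization.surj (Submonoid.powers t) (e₀ - e₁)
    simp only [] at h
    have h4 : algebraMap (Ah t) K (algebraMap A (Ah t) a') = 0 := by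
      rw [← hι, ← h, map_mul, hι0, zero_mul]
    obtain ⟨⟨_, m, rfl⟩, hm⟩ :=
      (IsLocalization.map_eq_zero_iff (Submonoid.powers (algebraMap A (Ah t) t)) K _).mp h4
    simp only [] at hm
    obtain ⟨w, hw⟩ := exists_eq_mul_of_completion t (m + k + 1) (t ^ m * a') 0 (by
      rw [map_mul, map_pow, hm, mul_zero])
    have h5 : e₀ - e₁ = algebraMap A C (t * w) := by
      apply ((hutC k).mul (hutC m)).mul_left_injective
      simp only []
      rw [← mul_assoc, h, ← map_mul, ← map_mul, ← map_mul]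
      congr 1
      linear_combination hw
    have h6 : IsUnit (1 - (e₀ - e₁) ^ 2) := by
      have := (isUnit_one_add_mul t (-(w * (t * w)))).map (algebraMap A C)
      convert this using 1
      rw [h5, ← map_pow, ← map_one (algebraMap A C), ← map_sub]
      congr 1
      ring
    exact sub_eq_zero.mp (eq_zero_of_pow_three h3 h6)
  -- existence
  obtain ⟨⟨x₀, ⟨_, n₀, rfl⟩⟩, h⟩ :=
    IsLocalization.surj (Submonoid.powers (algebraMap A (Ah t) t)) e
  simp only [] at h
  have h1 : algebraMap (Ah t) K (x₀ * x₀) =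
      algebraMap (Ah t) K (algebraMap A (Ah t) t ^ n₀ * x₀) := by
    rw [map_mul, map_mul, ← h]
    linear_combination (algebraMap (Ah t) K (algebraMap A (Ah t) t ^ n₀)) ^ 2 * he.eq
  obtain ⟨⟨_, m, rfl⟩, hm⟩ :=
    (IsLocalization.eq_iff_exists (Submonoid.powers (algebraMap A (Ah t) t)) K).mp h1
  simp only [] at hm
  set th := algebraMap A (Ah t) t with hth
  set x := th ^ m * x₀ with hx
  set n := n₀ + m with hn
  have hxx : x ^ 2 = th ^ n * x := by
    rw [hx, hn]; linear_combination th ^ m * hm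
  have hex : e * algebraMap (Ah t) K (th ^ n) = algebraMap (Ah t) K x := by
    rw [hx, hn, pow_add, map_mul, map_mul, ← mul_assoc, h, mul_comm]
  obtain ⟨a, z, hz⟩ := exists_approx t x (2 * n + 1 + (n + 1))
  rw [← hth] at hz
  -- a² - tⁿ a is divisible by t^N
  obtain ⟨c, hc⟩ := exists_eq_mul_of_completion t (2 * n + 1 + (n + 1)) (a ^ 2 - t ^ n * a)
    (-(2 * x * z) + th ^ (2 * n + 1 + (n + 1)) * z ^ 2 + th ^ n * z) (by
      rw [map_sub, map_pow, map_mul, map_pow, ← hth]
      have : algebraMap A (Ah t) a = x - th ^ (2 * n + 1 + (n + 1)) * z := by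
        rw [hz]; ring
      rw [this]
      linear_combination hxx)
  obtain ⟨r, hr⟩ := exists_idem_lift t a c (t ^ n) (n + 1) (by
    rw [hc]; ring)
  set b := a + t ^ (n + 1 + 1) * r with hb
  have hbb : b ^ 2 = t ^ n * b := hr
  -- the idempotent
  set e₀ := IsLocalization.mk' C b (⟨t ^ n, n, rfl⟩ : Submonoid.powers t) with he₀
  have hspec : e₀ * algebraMap A C (t ^ n) = algebraMap A C b := by
    have := IsLocalization.mk'_spec C b (⟨t ^ n, n, rfl⟩ : Submonoid.powers t)
    simpa using this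
  have hidem : IsIdempotentElem e₀ := by
    show e₀ * e₀ = e₀
    apply ((hutC n).mul (hutC n)).mul_left_injective
    simp only []
    have : algebraMap A C (b ^ 2) = algebraMap A C (t ^ n * b) := by rw [hbb]
    rw [map_pow, map_mul, ← hspec] at this
    linear_combination this
  have hιe₀ : ι e₀ * algebraMap (Ah t) K (th ^ n) =
      algebraMap (Ah t) K (algebraMap A (Ah t) b) := by
    have h0 : algebraMap (Ah t) K (th ^ n) = ι (algebraMap A C (t ^ n)) := by
      rw [hι, map_pow, map_pow, map_pow]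
    rw [h0, ← map_mul, hspec, hι]
  have hidemK : ι e₀ * ι e₀ = ι e₀ := by rw [← map_mul, hidem.eq]
  have h3 := sub_pow_three_of_idem hidemK he.eq
  have h5 : ι e₀ - e = algebraMap (Ah t) K
      (th * (th * algebraMap A (Ah t) r - th ^ (2 * n + 1) * z)) := by
    apply (hut n).mul_left_injective
    simp only []
    rw [sub_mul, hιe₀, hex, ← map_sub, ← map_mul]
    congr 1
    rw [hz, hb, map_add, map_mul, map_pow, ← hth]
    ring
  have h6 : IsUnit (1 - (ι e₀ - e) ^ 2) := by
    set q := th * algebraMap A (Ah t) r - th ^ (2 * n + 1) * z with hq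
    have := (isUnit_one_add t (-(q * (th * q)))).map (algebraMap (Ah t) K)
    convert this using 1
    rw [h5, ← map_pow, ← map_one (algebraMap (Ah t) K), ← map_sub]
    congr 1
    ring
  have h7 : ι e₀ = e := sub_eq_zero.mp (eq_zero_of_pow_three h3 h6)
  refine ⟨e₀, ⟨hidem, h7⟩, ?_⟩
  rintro e₁ ⟨h₁, h₁'⟩
  exact huniq e₁ e₀ h₁ hidem (by rw [h₁', h7])

end Main

end H9Hor.AdicIdem
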