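import Mathlib

open Polynomial

namespace H9Hor.Patch

section Scale
variable {R : Type*} [CommRing R]

/-- the substitution `X ↦ c X` -/
noncomputable def scale (c : R) : R[X] →+* R[X] := compRingHom (C c * X)

@[simp] theorem scale_C (c a : R) : scale c (C a) = C a := by simp [scale]
@[simp] theorem scale_X (c : R) : scale c X = C c * X := by simp [scale]

theorem scale_scale (c d : R) (p : R[X]) : scale c (scale d p) = scale (c * d) p := by
  have : (scale c).comp (scale d) = scale (c * d) := by
    apply ringHom_ext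
    · intro a; simp
    · simp [mul_comm c d, mul_assoc]
  exact RingHom.congr_fun this p

theorem coeff_zero_scale (c : R) (p : R[X]) : (scale c p).coeff 0 = p.coeff 0 := by
  simp [scale, coeff_zero_eq_eval_zero, eval_comp]

theorem scale_eq (c : R) (p : R[X]) :
    scale c p = C (p.coeff 0) + C c * X * scale c (divX p) := by
  conv_lhs => rw [← divX_mul_X_add p]
  rw [map_add, map_mul, scale_X, scale_C]
  ring

theorem scale_eq_zero_of_smul_eq_zero (c : R) (D : R[X]) (h0 : D.coeff 0 = 0)
    (hc : C c * D = 0) : scale c D = 0 := by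
  rw [scale_eq, h0, C_0, zero_add]
  have : C c * divX D = 0 := by
    rw [← divX_C_mul, hc]
    ext n; simp
  rw [mul_comm (C c) X, mul_assoc, ← scale_C c c, ← map_mul, this, map_zero, mul_zero]

theorem map_scale {R' : Type*} [CommRing R'] (j : R →+* R') (c : R) (p : R[X]) :
    (scale c p).map j = scale (j c) (p.map j) := by
  have : (mapRingHom j).comp (scale c) = (scale (j c)).comp (mapRingHom j) := by
    apply ringHom_ext
    · intro a; simp
    · simp
  exact RingHom.congr_fun this p

end Scale

section Loc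
variable {R : Type*} [CommRing R] (s : R) (R' : Type*) [CommRing R'] [Algebra R R']
  [IsLocalization.Away s R']

theorem exists_lift_poly (G : R'[X]) :
    ∃ (k : ℕ) (G' : R[X]), G'.map (algebraMap R R') = C (algebraMap R R' s ^ k) * G := by
  obtain ⟨b, ⟨k, rfl⟩, hb⟩ := IsLocalization.integerNormalization_spec (Submonoid.powers s) G
  refine ⟨k, IsLocalization.integerNormalization (Submonoid.powers s) G, ?_⟩
  rw [hb, Algebra.smul_def, Polynomial.algebraMap_apply, map_pow]

theorem exists_lift_poly_of_le {G : R'[X]} {k : ℕ} {G' : R[X]}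
    (h : G'.map (algebraMap R R') = C (algebraMap R R' s ^ k) * G) {k' : ℕ} (hk : k ≤ k') :
    ∃ G'' : R[X], G''.map (algebraMap R R') = C (algebraMap R R' s ^ k') * G := by
  refine ⟨C (s ^ (k' - k)) * G', ?_⟩
  rw [Polynomial.map_mul, map_C, h, ← mul_assoc, ← C_mul, map_pow, ← pow_add,
    Nat.sub_add_cancel hk]

theorem exists_smul_eq_zero_poly (D : R[X]) (h : D.map (algebraMap R R') = 0) :
    ∃ l : ℕ, C (s ^ l) * D = 0 := by
  classical
  have hc : ∀ n, ∃ l : ℕ, s ^ l * D.coeff n = 0 := by
    intro n
    have : algebraMap R R' (D.coeff n) = 0 := by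
      rw [← coeff_map, h, coeff_zero]
    obtain ⟨⟨_, l, rfl⟩, hl⟩ := (IsLocalization.map_eq_zero_iff (Submonoid.powers s) R' _).mp this
    exact ⟨l, hl⟩
  choose l hl using hc
  refine ⟨∑ n ∈ D.support, l n, ?_⟩
  ext n
  rw [coeff_C_mul, coeff_zero]
  by_cases hn : n ∈ D.support
  · have : ∑ n ∈ D.support, l n = (∑ n ∈ D.support, l n - l n) + l n :=
      (Nat.sub_add_cancel (Finset.single_le_sum (fun _ _ => Nat.zero_le _) hn)).symm
    rw [this, pow_add, mul_assoc, hl n, mul_zero]
  · rw [notMem_support_iff.mp hn, mul_zero]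

theorem smul_eq_zero_poly_of_le {D : R[X]} {l : ℕ} (h : C (s ^ l) * D = 0) {l' : ℕ} (hl : l ≤ l') :
    C (s ^ l') * D = 0 := by
  rw [← Nat.sub_add_cancel hl, pow_add, C_mul, mul_assoc, h, mul_zero]

variable {m : Type*} [Fintype m] [DecidableEq m]

theorem exists_lift_matrix (G : Matrix m m R'[X]) :
    ∃ (k : ℕ) (G' : Matrix m m R[X]),
      G'.map (Polynomial.map (algebraMap R R')) = C (algebraMap R R' s ^ k) • G := by
  classical
  choose k G' h using fun a b => exists_lift_poly s R' (G a b)
  let K := ∑ a, ∑ b, k a b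
  have hK : ∀ a b, k a b ≤ K := fun a b =>
    (Finset.single_le_sum (f := fun b => k a b) (fun _ _ => Nat.zero_le _) (Finset.mem_univ b)).trans
      (Finset.single_le_sum (f := fun a => ∑ b, k a b) (fun _ _ => Nat.zero_le _) (Finset.mem_univ a))
  choose G'' h' using fun a b => exists_lift_poly_of_le s R' (h a b) (hK a b)
  refine ⟨K, Matrix.of G'', ?_⟩
  ext a b : 1
  simp only [Matrix.map_apply, Matrix.of_apply, Matrix.smul_apply, smul_eq_mul]
  exact h' a b

theorem exists_smul_eq_zero_matrix (D : Matrix m m R[X])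
    (h : D.map (Polynomial.map (algebraMap R R')) = 0) : ∃ l : ℕ, C (s ^ l) • D = 0 := by
  classical
  have h1 : ∀ a b, (D a b).map (algebraMap R R') = 0 := fun a b => by
    have := congrFun (congrFun h a) b
    simpa using this
  choose l hl using fun a b => exists_smul_eq_zero_poly s R' (D a b) (h1 a b)
  let K := ∑ a, ∑ b, l a b
  have hK : ∀ a b, l a b ≤ K := fun a b =>
    (Finset.single_le_sum (f := fun b => l a b) (fun _ _ => Nat.zero_le _) (Finset.mem_univ b)).trans
      (Finset.single_le_sum (f := fun a => ∑ b, l a b) (fun _ _ => Nat.zero_le _) (Finset.mem_univ a))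
  refine ⟨K, ?_⟩
  ext a b : 1
  simp only [Matrix.smul_apply, smul_eq_mul, Matrix.zero_apply]
  exact smul_eq_zero_poly_of_le s (hl a b) (hK a b)

end Loc

end H9Hor.Patch
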