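import Mathlib
import Groth.Agent.Lib.Helper9.Hor.Scale

open Polynomial

namespace H9Hor.Patch

section Rescale
variable {R : Type*} [CommRing R] (s : R) (R' : Type*) [CommRing R'] [Algebra R R']
  [IsLocalization.Away s R']
variable {m : Type*} [Fintype m] [DecidableEq m]

/-- entrywise decomposition `p = C p(0) + X * divX p` -/
theorem matrix_eq_C_add_X_mul (p : Matrix m m R[X]) :
    p = (p.map constantCoeff).map C + (X : R[X]) • p.map divX := by
  ext a b : 1
  simp only [Matrix.add_apply, Matrix.map_apply, Matrix.smul_apply, smul_eq_mul,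
    constantCoeff_apply]
  conv_lhs => rw [← divX_mul_X_add (p a b)]
  ring

theorem matrix_scale_eq (c : R) (p : Matrix m m R[X]) :
    (scale c).mapMatrix p = (p.map constantCoeff).map C +
      (C c * X : R[X]) • (scale c).mapMatrix (p.map divX) := by
  ext a b : 1
  simp only [RingHom.mapMatrix_apply, Matrix.add_apply, Matrix.map_apply, Matrix.smul_apply,
    smul_eq_mul, constantCoeff_apply]
  exact scale_eq c (p a b)

theorem matrix_scale_eq_zero (c : R) (D : Matrix m m R[X]) (h0 : D.map constantCoeff = 0)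
    (hc : C c • D = 0) : (scale c).mapMatrix D = 0 := by
  ext a b : 1
  simp only [RingHom.mapMatrix_apply, Matrix.map_apply, Matrix.zero_apply]
  apply scale_eq_zero_of_smul_eq_zero
  · have := congrFun (congrFun h0 a) b
    simpa using this
  · have := congrFun (congrFun hc a) b
    simpa using this


/-- **Rescaling lemma**: an equivalence of idempotents over the localization, trivial modulo the
variable, descends after rescaling the variable by a power of `s`. -/
theorem rescale_lemma (p₁ : Matrix m m R[X]) (p₂ : Matrix m m R)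
    (h12 : p₁.map constantCoeff = p₂) (hp₂ : p₂ * p₂ = p₂)
    (W W' : Matrix m m R'[X])
    (hWW' : W * W' = (mapRingHom (algebraMap R R')).mapMatrix p₁)
    (hW'W : W' * W = (mapRingHom (algebraMap R R')).mapMatrix (p₂.map C))
    (hW0 : W.map constantCoeff = p₂.map (algebraMap R R'))
    (hW'0 : W'.map constantCoeff = p₂.map (algebraMap R R'))
    (hWn : W = (mapRingHom (algebraMap R R')).mapMatrix p₁ * W *
      (mapRingHom (algebraMap R R')).mapMatrix (p₂.map C))
    (hW'n : W' = (mapRingHom (algebraMap R R')).mapMatrix (p₂.map C) * W' *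
      (mapRingHom (algebraMap R R')).mapMatrix p₁) :
    ∃ (K : ℕ) (Ŵ Ŵ' : Matrix m m R[X]),
      Ŵ * Ŵ' = (scale (s ^ K)).mapMatrix p₁ ∧ Ŵ' * Ŵ = p₂.map C := by
  classical
  set j := algebraMap R R' with hj
  set J := (mapRingHom j).mapMatrix (m := m) with hJ
  have hJσ : ∀ (c : R) (p : Matrix m m R[X]),
      J ((scale c).mapMatrix p) = (scale (j c)).mapMatrix (J p) := by
    intro c p
    ext a b : 1
    simp only [hJ, RingHom.mapMatrix_apply, Matrix.map_apply, coe_mapRingHom]
    exact map_scale j c (p a b)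
  have hJC : ∀ q : Matrix m m R, J (q.map C) = (q.map j).map C := by
    intro q
    ext a b : 1
    simp [hJ]
  have hσC : ∀ (c : R') (q : Matrix m m R'), (scale c).mapMatrix (q.map C) = q.map C := by
    intro c q
    ext a b : 1
    simp
  have hσC' : ∀ (c : R) (q : Matrix m m R), (scale c).mapMatrix (q.map C) = q.map C := by
    intro c q
    ext a b : 1
    simp
  -- lift the derivative parts
  obtain ⟨k₁, G₁, hG₁⟩ := exists_lift_matrix s R' (W.map divX)
  obtain ⟨k₂, G₂, hG₂⟩ := exists_lift_matrix s R' (W'.map divX)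
  -- common exponent
  let k := k₁ + k₂
  have hG₁' : J ((C (s ^ k₂) : R[X]) • G₁) = (C (j s ^ k) : R'[X]) • W.map divX := by
    ext a b : 1
    have := congrFun (congrFun hG₁ a) b
    simp only [Matrix.map_apply, Matrix.smul_apply, smul_eq_mul] at this
    change Polynomial.map j (C (s ^ k₂) * G₁ a b) = C (j s ^ k) * divX (W a b)
    rw [Polynomial.map_mul, map_C, this, ← mul_assoc, ← C_mul, map_pow, ← pow_add,
      add_comm k₂ k₁]
  have hG₂' : J ((C (s ^ k₁) : R[X]) • G₂) = (C (j s ^ k) : R'[X]) • W'.map divX := by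
    ext a b : 1
    have := congrFun (congrFun hG₂ a) b
    simp only [Matrix.map_apply, Matrix.smul_apply, smul_eq_mul] at this
    change Polynomial.map j (C (s ^ k₁) * G₂ a b) = C (j s ^ k) * divX (W' a b)
    rw [Polynomial.map_mul, map_C, this, ← mul_assoc, ← C_mul, map_pow, ← pow_add]
  -- the lifts
  let W₀ : Matrix m m R[X] := p₂.map C + (X : R[X]) • (scale (s ^ k)).mapMatrix ((C (s ^ k₂) : R[X]) • G₁)
  let W₀' : Matrix m m R[X] := p₂.map C + (X : R[X]) • (scale (s ^ k)).mapMatrix ((C (s ^ k₁) : R[X]) • G₂)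
  have hJX : ∀ (q : Matrix m m R[X]), J ((X : R[X]) • q) = (X : R'[X]) • J q := by
    intro q
    ext a b : 1
    simp [hJ]
  have hσsmul : ∀ (c : R') (r : R'[X]) (q : Matrix m m R'[X]),
      (scale c).mapMatrix (r • q) = scale c r • (scale c).mapMatrix q := by
    intro c r q
    ext a b : 1
    simp
  have hJW₀ : J W₀ = (scale (j s ^ k)).mapMatrix W := by
    change J (p₂.map C + (X : R[X]) • (scale (s ^ k)).mapMatrix ((C (s ^ k₂) : R[X]) • G₁)) = _
    rw [map_add, hJC, hJX, hJσ, hG₁', map_pow, hσsmul, scale_C,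
      matrix_scale_eq (j s ^ k) W, hW0, smul_smul, mul_comm X]
  have hJW₀' : J W₀' = (scale (j s ^ k)).mapMatrix W' := by
    change J (p₂.map C + (X : R[X]) • (scale (s ^ k)).mapMatrix ((C (s ^ k₁) : R[X]) • G₂)) = _
    rw [map_add, hJC, hJX, hJσ, hG₂', map_pow, hσsmul, scale_C,
      matrix_scale_eq (j s ^ k) W', hW'0, smul_smul, mul_comm X]
  let P₁ : Matrix m m R[X] := (scale (s ^ k)).mapMatrix p₁
  let Wt : Matrix m m R[X] := P₁ * W₀ * p₂.map C
  let Wt' : Matrix m m R[X] := p₂.map C * W₀' * P₁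
  have hJP₁ : J P₁ = (scale (j s ^ k)).mapMatrix (J p₁) := by
    change J ((scale (s ^ k)).mapMatrix p₁) = _
    rw [hJσ, map_pow]
  have hJWt : J Wt = (scale (j s ^ k)).mapMatrix W := by
    change J (P₁ * W₀ * p₂.map C) = _
    rw [map_mul, map_mul, hJP₁, hJW₀, hJC, ← hσC (j s ^ k) (p₂.map j), ← map_mul, ← map_mul,
      ← hJC, ← hWn]
  have hJWt' : J Wt' = (scale (j s ^ k)).mapMatrix W' := by
    change J (p₂.map C * W₀' * P₁) = _
    rw [map_mul, map_mul, hJP₁, hJW₀', hJC, ← hσC (j s ^ k) (p₂.map j), ← map_mul, ← map_mul,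
      ← hJC, ← hW'n]
  -- discrepancies
  let D : Matrix m m R[X] := Wt * Wt' - P₁
  let D' : Matrix m m R[X] := Wt' * Wt - p₂.map C
  have hJD : J D = 0 := by
    change J (Wt * Wt' - P₁) = 0
    rw [map_sub, map_mul, hJWt, hJWt', hJP₁, ← map_mul, hWW', sub_self]
  have hJD' : J D' = 0 := by
    change J (Wt' * Wt - p₂.map C) = 0
    rw [map_sub, map_mul, hJWt, hJWt', ← map_mul, hW'W, hJC, hσC, sub_self]
  -- constant terms
  have hc0 : ∀ (a b : Matrix m m R[X]), (a * b).map constantCoeff =
      a.map constantCoeff * b.map constantCoeff := fun a b => Matrix.map_mul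
  have hcC : ∀ q : Matrix m m R, (q.map C).map (constantCoeff (R := R)) = q := by
    intro q; ext a b : 1; simp
  have hcσ : ∀ (c : R) (q : Matrix m m R[X]),
      ((scale c).mapMatrix q).map constantCoeff = q.map constantCoeff := by
    intro c q; ext a b : 1
    simp only [RingHom.mapMatrix_apply, Matrix.map_apply, constantCoeff_apply]
    exact coeff_zero_scale c (q a b)
  have hcX : ∀ q : Matrix m m R[X], ((X : R[X]) • q).map constantCoeff = 0 := by
    intro q; ext a b : 1; simp
  have hcW₀ : W₀.map constantCoeff = p₂ := by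
    change (p₂.map C + (X : R[X]) • _).map constantCoeff = p₂
    rw [Matrix.map_add _ (fun a b => map_add constantCoeff a b), hcC, hcX, add_zero]
  have hcW₀' : W₀'.map constantCoeff = p₂ := by
    change (p₂.map C + (X : R[X]) • _).map constantCoeff = p₂
    rw [Matrix.map_add _ (fun a b => map_add constantCoeff a b), hcC, hcX, add_zero]
  have hcP₁ : P₁.map constantCoeff = p₂ := by
    change ((scale (s ^ k)).mapMatrix p₁).map constantCoeff = p₂
    rw [hcσ, h12]
  have hcWt : Wt.map constantCoeff = p₂ := by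
    change (P₁ * W₀ * p₂.map C).map constantCoeff = p₂
    rw [hc0, hc0, hcP₁, hcW₀, hcC, hp₂, hp₂]
  have hcWt' : Wt'.map constantCoeff = p₂ := by
    change (p₂.map C * W₀' * P₁).map constantCoeff = p₂
    rw [hc0, hc0, hcP₁, hcW₀', hcC, hp₂, hp₂]
  have hcD : D.map constantCoeff = 0 := by
    change (Wt * Wt' - P₁).map constantCoeff = 0
    rw [Matrix.map_sub _ (fun a b => map_sub constantCoeff a b), hc0, hcWt, hcWt', hcP₁, hp₂,
      sub_self]
  have hcD' : D'.map constantCoeff = 0 := by
    change (Wt' * Wt - p₂.map C).map constantCoeff = 0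
    rw [Matrix.map_sub _ (fun a b => map_sub constantCoeff a b), hc0, hcWt, hcWt', hcC, hp₂,
      sub_self]
  obtain ⟨l₁, hl₁⟩ := exists_smul_eq_zero_matrix s R' D hJD
  obtain ⟨l₂, hl₂⟩ := exists_smul_eq_zero_matrix s R' D' hJD'
  let l := l₁ + l₂
  have hl₁' : (C (s ^ l) : R[X]) • D = 0 := by
    change (C (s ^ (l₁ + l₂)) : R[X]) • D = 0
    rw [add_comm, pow_add, C_mul, ← smul_smul, hl₁, smul_zero]
  have hl₂' : (C (s ^ l) : R[X]) • D' = 0 := by
    change (C (s ^ (l₁ + l₂)) : R[X]) • D' = 0
    rw [pow_add, C_mul, ← smul_smul, hl₂, smul_zero]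
  have hσD := matrix_scale_eq_zero (s ^ l) D hcD hl₁'
  have hσD' := matrix_scale_eq_zero (s ^ l) D' hcD' hl₂'
  refine ⟨l + k, (scale (s ^ l)).mapMatrix Wt, (scale (s ^ l)).mapMatrix Wt', ?_, ?_⟩
  · have : Wt * Wt' = D + P₁ := by change _ = Wt * Wt' - P₁ + P₁; abel
    rw [← map_mul, this, map_add, hσD, zero_add]
    change (scale (s ^ l)).mapMatrix ((scale (s ^ k)).mapMatrix p₁) = _
    ext a b : 1
    simp only [RingHom.mapMatrix_apply, Matrix.map_apply]
    rw [scale_scale, ← pow_add]
  · have : Wt' * Wt = D' + p₂.map C := by change _ = Wt' * Wt - p₂.map C + p₂.map C; abel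
    rw [← map_mul, this, map_add, hσD', zero_add, hσC']

end Rescale

end H9Hor.Patch
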