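import Mathlib
import Groth.Agent.Lib.Helper9.Hor.Rescale

open Polynomial

namespace H9Hor.Patch

section MEquiv
variable {B : Type*} [CommRing B] {m : Type*} [Fintype m] [DecidableEq m]

/-- equivalence of (idempotent) matrices -/
def MEquiv (p q : Matrix m m B) : Prop := ∃ U V : Matrix m m B, U * V = q ∧ V * U = p

theorem MEquiv.symm {p q : Matrix m m B} (h : MEquiv p q) : MEquiv q p := by
  obtain ⟨U, V, h1, h2⟩ := h
  exact ⟨V, U, h2, h1⟩

theorem MEquiv.refl {p : Matrix m m B} (hp : p * p = p) : MEquiv p p := ⟨p, p, hp, hp⟩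

theorem MEquiv.normalize {p q : Matrix m m B} (hp : p * p = p) (hq : q * q = q) (h : MEquiv p q) :
    ∃ U V : Matrix m m B, U * V = q ∧ V * U = p ∧ U * p = U ∧ q * U = U ∧ V * q = V ∧ p * V = V := by
  obtain ⟨U, V, h1, h2⟩ := h
  refine ⟨U * p, V * q, ?_, ?_, ?_, ?_, ?_, ?_⟩
  · rw [← h2, ← h1]
    calc U * (V * U) * (V * (U * V)) = (U * V) * (U * V) * (U * V) := by
          simp only [Matrix.mul_assoc]
      _ = U * V := by rw [h1, hq, hq]
  · rw [← h2, ← h1]
    calc V * (U * V) * (U * (V * U)) = (V * U) * (V * U) * (V * U) := by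
          simp only [Matrix.mul_assoc]
      _ = V * U := by rw [h2, hp, hp]
  · rw [Matrix.mul_assoc, hp]
  · rw [← h1, ← h2]
    calc U * V * (U * (V * U)) = U * ((V * U) * (V * U)) := by simp only [Matrix.mul_assoc]
      _ = U * (V * U) := by rw [h2, hp]
  · rw [Matrix.mul_assoc, hq]
  · rw [← h1, ← h2]
    calc V * U * (V * (U * V)) = V * ((U * V) * (U * V)) := by simp only [Matrix.mul_assoc]
      _ = V * (U * V) := by rw [h1, hq]

theorem MEquiv.trans {p q r : Matrix m m B} (hq : q * q = q) (hr : r * r = r) (hp : p * p = p)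
    (h1 : MEquiv p q) (h2 : MEquiv q r) : MEquiv p r := by
  obtain ⟨U, V, hUV, hVU, -, hqU, -, -⟩ := h1.normalize hp hq
  obtain ⟨U', V', hUV', hVU', hU'q, -, -, hqV'⟩ := h2.normalize hq hr
  refine ⟨U' * U, V * V', ?_, ?_⟩
  · calc U' * U * (V * V') = U' * (U * V) * V' := by simp only [Matrix.mul_assoc]
      _ = r := by rw [hUV, hU'q, hUV']
  · calc V * V' * (U' * U) = V * (V' * U') * U := by simp only [Matrix.mul_assoc]
      _ = p := by rw [hVU', Matrix.mul_assoc, hqU, hVU]

theorem MEquiv.map {B' : Type*} [CommRing B'] (f : B →+* B') {p q : Matrix m m B} (h : MEquiv p q) :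
    MEquiv (f.mapMatrix p) (f.mapMatrix q) := by
  obtain ⟨U, V, h1, h2⟩ := h
  exact ⟨f.mapMatrix U, f.mapMatrix V, by rw [← map_mul, h1], by rw [← map_mul, h2]⟩

end MEquiv

section Sub
variable {A : Type*} [CommRing A]

/-- substitution `X ↦ (c₀ + Z) X` into `A[X][Z]` -/
noncomputable def sub (c₀ : A) : A[X] →+* A[X][X] :=
  eval₂RingHom (C.comp C) ((C (C c₀) + X) * C X)

@[simp] theorem sub_C (c₀ a : A) : sub c₀ (C a) = C (C a) := by simp [sub]
@[simp] theorem sub_X (c₀ : A) : sub c₀ X = (C (C c₀) + X) * C X := by simp [sub]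

theorem constantCoeff_comp_sub (c₀ : A) :
    (constantCoeff : A[X][X] →+* A[X]).comp (sub c₀) = scale c₀ := by
  apply ringHom_ext
  · intro a; simp
  · simp

theorem constantCoeff_comp_C {R : Type*} [CommRing R] :
    (constantCoeff : R[X] →+* R).comp C = RingHom.id R := by
  ext a; simp

theorem eval_scale_sub (c₀ t z : A) :
    ((evalRingHom (C z : A[X])).comp (scale (C t : A[X]))).comp (sub c₀) = scale (c₀ + t * z) := by
  apply ringHom_ext
  · intro a; simp
  · simp only [RingHom.coe_comp, Function.comp_apply, sub_X, map_mul, map_add, scale_C, scale_X,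
      coe_evalRingHom, eval_C, eval_mul, eval_add, eval_X]

theorem map_comp_sub {A' : Type*} [CommRing A'] (j : A →+* A') (c₀ : A) :
    (mapRingHom (mapRingHom j)).comp (sub c₀) = (sub (j c₀)).comp (mapRingHom j) := by
  apply ringHom_ext
  · intro a; simp
  · simp

theorem map_comp_C {A' : Type*} [CommRing A'] (j : A →+* A') :
    (mapRingHom (mapRingHom j)).comp (C : A[X] →+* A[X][X]) = (C : A'[X] →+* A'[X][X]).comp (mapRingHom j) := by
  refine RingHom.ext fun p => ?_
  simp

theorem map_comp_scale {A' : Type*} [CommRing A'] (j : A →+* A') (c : A) :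
    (mapRingHom j).comp (scale c) = (scale (j c)).comp (mapRingHom j) := by
  refine RingHom.ext fun p => ?_
  exact map_scale j c p

theorem sub_comp_C (c₀ : A) : (sub c₀).comp (C : A →+* A[X]) = (C : A[X] →+* A[X][X]).comp C := by
  ext a : 1; simp

theorem scale_comp_C (c : A) : (scale c).comp (C : A →+* A[X]) = C := by
  ext a : 1; simp

end Sub

theorem mm_comp {α β γ : Type*} [CommRing α] [CommRing β] [CommRing γ] {m : Type*} [Fintype m]
    [DecidableEq m] (f : β →+* γ) (g : α →+* β) (M : Matrix m m α) :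
    f.mapMatrix (g.mapMatrix M) = (f.comp g).mapMatrix M := by
  ext a b : 1; simp

end H9Hor.Patch
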