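import Mathlib
import Groth.Agent.Lib.Helper9.Hor.MEquiv

open Polynomial

namespace H9Hor.Patch

section ClaimA
variable {A : Type*} [CommRing A] (s : A) (A' : Type*) [CommRing A'] [Algebra A A']
  [IsLocalization.Away s A']
variable {m : Type*} [Fintype m] [DecidableEq m]

attribute [local instance] Polynomial.algebra

theorem isLocalization_away_C : IsLocalization.Away (C s : A[X]) A'[X] := by
  have h := Polynomial.isLocalization (Submonoid.powers s) A'
  have : (Submonoid.powers s).map (C : A →+* A[X]) = Submonoid.powers (C s : A[X]) := by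
    rw [Submonoid.map_powers]
  rw [this] at h
  exact h

/-- **Claim A**: if `π` becomes extended over `A_s`, then `π(c X)` is constant (up to equivalence)
on residue classes of `c` modulo a power of `s`. -/
theorem mequiv_scale (π : Matrix m m A[X]) (hπ : π * π = π) (c₀ : A)
    (hext : MEquiv ((mapRingHom (algebraMap A A')).mapMatrix π)
      ((C.comp ((algebraMap A A').comp constantCoeff)).mapMatrix π)) :
    ∃ K : ℕ, ∀ z : A, MEquiv ((scale (c₀ + s ^ K * z)).mapMatrix π) ((scale c₀).mapMatrix π) := by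
  classical
  haveI := isLocalization_away_C s A'
  set j := algebraMap A A' with hj
  set p := (mapRingHom j).mapMatrix π with hp_def
  set q := (C.comp (j.comp constantCoeff)).mapMatrix π with hq_def
  have hp : p * p = p := by rw [hp_def, ← map_mul, hπ]
  have hq : q * q = q := by rw [hq_def, ← map_mul, hπ]
  obtain ⟨U, V, hUV, hVU, hUp, hqU, hVq, hpV⟩ := hext.normalize hp hq
  -- notation
  let S := sub c₀
  let S' := sub (j c₀)
  let sc := scale c₀
  let sc' := scale (j c₀)
  let Cm := (C : A'[X] →+* A'[X][X])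
  let Jo := mapRingHom (algebraMap A[X] A'[X])
  have hJo : Jo = mapRingHom (mapRingHom j) := rfl
  let p₁ : Matrix m m A[X][X] := S.mapMatrix π
  let p₂ : Matrix m m A[X] := sc.mapMatrix π
  let W : Matrix m m A'[X][X] := S'.mapMatrix V * Cm.mapMatrix (sc'.mapMatrix U)
  let W' : Matrix m m A'[X][X] := Cm.mapMatrix (sc'.mapMatrix V) * S'.mapMatrix U
  -- basic identities
  have hq1 : Cm.mapMatrix (sc'.mapMatrix q) = S'.mapMatrix q := by
    rw [hq_def, mm_comp, mm_comp, mm_comp]
    have hh : (Cm.comp sc').comp (C.comp (j.comp constantCoeff)) =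
        S'.comp (C.comp (j.comp (constantCoeff : A[X] →+* A))) := by
      refine RingHom.ext fun x => ?_
      simp [Cm, sc', S']
    rw [hh]
  have hJp₁ : Jo.mapMatrix p₁ = S'.mapMatrix p := by
    change Jo.mapMatrix (S.mapMatrix π) = S'.mapMatrix ((mapRingHom j).mapMatrix π)
    rw [mm_comp, mm_comp, hJo, map_comp_sub]
  have hJp₂ : Jo.mapMatrix (p₂.map C) = Cm.mapMatrix (sc'.mapMatrix p) := by
    change Jo.mapMatrix ((C : A[X] →+* A[X][X]).mapMatrix (sc.mapMatrix π)) =
      Cm.mapMatrix (sc'.mapMatrix ((mapRingHom j).mapMatrix π))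
    rw [mm_comp, mm_comp, mm_comp, mm_comp, hJo]
    have hh : ((mapRingHom (mapRingHom j)).comp (C : A[X] →+* A[X][X])).comp sc =
        (Cm.comp sc').comp (mapRingHom j) := by
      refine RingHom.ext fun x => ?_
      simp [Cm, sc', sc, map_scale]
    rw [hh]
  have hWW' : W * W' = Jo.mapMatrix p₁ := by
    change S'.mapMatrix V * Cm.mapMatrix (sc'.mapMatrix U) *
      (Cm.mapMatrix (sc'.mapMatrix V) * S'.mapMatrix U) = _
    rw [hJp₁, Matrix.mul_assoc, ← Matrix.mul_assoc (Cm.mapMatrix _), ← map_mul, ← map_mul, hUV, hq1,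
      ← map_mul, ← map_mul, ← Matrix.mul_assoc, hVq, hVU]
  have hW'W : W' * W = Jo.mapMatrix (p₂.map C) := by
    change Cm.mapMatrix (sc'.mapMatrix V) * S'.mapMatrix U *
      (S'.mapMatrix V * Cm.mapMatrix (sc'.mapMatrix U)) = _
    rw [hJp₂, Matrix.mul_assoc, ← Matrix.mul_assoc (S'.mapMatrix U), ← map_mul, hUV, ← hq1,
      ← map_mul, ← map_mul, ← map_mul, ← map_mul, ← Matrix.mul_assoc, hVq, hVU]
  have hcc : ∀ M : Matrix m m A'[X][X], M.map constantCoeff = (constantCoeff).mapMatrix M :=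
    fun M => rfl
  have hscp : sc'.mapMatrix p = p₂.map (algebraMap A[X] A'[X]) := by
    change sc'.mapMatrix ((mapRingHom j).mapMatrix π) = (mapRingHom j).mapMatrix (sc.mapMatrix π)
    rw [mm_comp, mm_comp, map_comp_scale]
  have hW0 : W.map constantCoeff = p₂.map (algebraMap A[X] A'[X]) := by
    rw [hcc]
    change constantCoeff.mapMatrix (S'.mapMatrix V * Cm.mapMatrix (sc'.mapMatrix U)) = _
    rw [map_mul, mm_comp, mm_comp, constantCoeff_comp_sub, constantCoeff_comp_C,
      RingHom.mapMatrix_id, RingHom.id_apply, ← map_mul, hVU, hscp]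
  have hW'0 : W'.map constantCoeff = p₂.map (algebraMap A[X] A'[X]) := by
    rw [hcc]
    change constantCoeff.mapMatrix (Cm.mapMatrix (sc'.mapMatrix V) * S'.mapMatrix U) = _
    rw [map_mul, mm_comp constantCoeff Cm, mm_comp constantCoeff S', constantCoeff_comp_sub,
      constantCoeff_comp_C, RingHom.mapMatrix_id, RingHom.id_apply, ← map_mul, hVU, hscp]
  have hWn : W = Jo.mapMatrix p₁ * W * Jo.mapMatrix (p₂.map C) := by
    change S'.mapMatrix V * Cm.mapMatrix (sc'.mapMatrix U) = Jo.mapMatrix p₁ *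
      (S'.mapMatrix V * Cm.mapMatrix (sc'.mapMatrix U)) * Jo.mapMatrix (p₂.map C)
    rw [hJp₁, hJp₂, ← Matrix.mul_assoc, ← map_mul, hpV, Matrix.mul_assoc, ← map_mul, ← map_mul, hUp]
  have hW'n : W' = Jo.mapMatrix (p₂.map C) * W' * Jo.mapMatrix p₁ := by
    change Cm.mapMatrix (sc'.mapMatrix V) * S'.mapMatrix U = Jo.mapMatrix (p₂.map C) *
      (Cm.mapMatrix (sc'.mapMatrix V) * S'.mapMatrix U) * Jo.mapMatrix p₁
    rw [hJp₁, hJp₂, ← Matrix.mul_assoc, ← map_mul, ← map_mul, hpV, Matrix.mul_assoc, ← map_mul, hUp]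
  have h12 : p₁.map constantCoeff = p₂ := by
    change constantCoeff.mapMatrix (S.mapMatrix π) = sc.mapMatrix π
    rw [mm_comp, constantCoeff_comp_sub]
  have hp₂ : p₂ * p₂ = p₂ := by
    change sc.mapMatrix π * sc.mapMatrix π = sc.mapMatrix π
    rw [← map_mul, hπ]
  obtain ⟨K, Wh, Wh', h1, h2⟩ := rescale_lemma (C s : A[X]) A'[X] p₁ p₂ h12 hp₂ W W' hWW' hW'W
    hW0 hW'0 hWn hW'n
  refine ⟨K, fun z => ?_⟩
  let E := evalRingHom (C z : A[X])
  refine ⟨E.mapMatrix Wh', E.mapMatrix Wh, ?_, ?_⟩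
  · rw [← map_mul, h2]
    change E.mapMatrix ((C : A[X] →+* A[X][X]).mapMatrix (sc.mapMatrix π)) = sc.mapMatrix π
    rw [mm_comp]
    have : E.comp (C : A[X] →+* A[X][X]) = RingHom.id _ := by
      refine RingHom.ext fun x => ?_
      simp [E]
    rw [this]
    ext a b : 1; simp
  · rw [← map_mul, h1]
    change E.mapMatrix ((scale ((C s : A[X]) ^ K)).mapMatrix (S.mapMatrix π)) = _
    rw [mm_comp, mm_comp, ← C_pow, eval_scale_sub]

end ClaimA

end H9Hor.Patch
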