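import Mathlib
import Groth.Agent.Lib.Helper9.Hor.ClaimA

open Polynomial

namespace H9Hor.Patch

section Core
variable {m : Type*} [Fintype m] [DecidableEq m]

/-- the idempotent `π` over `A[X]` becomes extended after base change along `φ` -/
def ExtAlong {A B : Type*} [CommRing A] [CommRing B] (φ : A →+* B) (π : Matrix m m A[X]) : Prop :=
  MEquiv ((mapRingHom φ).mapMatrix π) ((C.comp (φ.comp constantCoeff)).mapMatrix π)

theorem ExtAlong.comp {A B B' : Type*} [CommRing A] [CommRing B] [CommRing B'] {φ : A →+* B}
    {π : Matrix m m A[X]} (h : ExtAlong φ π) (ψ : B →+* B') : ExtAlong (ψ.comp φ) π := by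
  have := MEquiv.map (mapRingHom ψ) h
  rw [mm_comp, mm_comp] at this
  have h1 : (mapRingHom ψ).comp (mapRingHom φ) = mapRingHom (ψ.comp φ) := by
    refine RingHom.ext fun x => ?_
    simp [Polynomial.map_map]
  have h2 : (mapRingHom ψ).comp (C.comp (φ.comp constantCoeff)) =
      C.comp ((ψ.comp φ).comp (constantCoeff : A[X] →+* A)) := by
    refine RingHom.ext fun x => ?_
    simp
  rw [h1, h2] at this
  exact this

theorem extAlong_map_iff {A B B' : Type*} [CommRing A] [CommRing B] [CommRing B'] (α : A →+* B)
    (β : B →+* B') (π : Matrix m m A[X]) :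
    ExtAlong β ((mapRingHom α).mapMatrix π) ↔ ExtAlong (β.comp α) π := by
  unfold ExtAlong
  rw [mm_comp, mm_comp]
  have h1 : (mapRingHom β).comp (mapRingHom α) = mapRingHom (β.comp α) := by
    refine RingHom.ext fun x => ?_
    simp [Polynomial.map_map]
  have h2 : (C.comp (β.comp constantCoeff)).comp (mapRingHom α) =
      C.comp ((β.comp α).comp (constantCoeff : A[X] →+* A)) := by
    refine RingHom.ext fun x => ?_
    simp
  rw [h1, h2]

theorem scale_zero {A : Type*} [CommRing A] :
    scale (0 : A) = (C : A →+* A[X]).comp constantCoeff := by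
  apply ringHom_ext
  · intro a; simp
  · simp

theorem scale_one {A : Type*} [CommRing A] : scale (1 : A) = RingHom.id A[X] := by
  apply ringHom_ext
  · intro a; simp
  · simp

/-- **Core patching**: extendedness over `A_{s₁}` and `A_{s₂}` with `s₁, s₂` comaximal implies
extendedness over `A`. -/
theorem core {A : Type*} [CommRing A] (π : Matrix m m A[X]) (hπ : π * π = π) (s₁ s₂ : A)
    (hs : IsCoprime s₁ s₂)
    (A₁ A₂ : Type*) [CommRing A₁] [CommRing A₂] [Algebra A A₁] [Algebra A A₂]
    [IsLocalization.Away s₁ A₁] [IsLocalization.Away s₂ A₂]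
    (h₁ : ExtAlong (algebraMap A A₁) π) (h₂ : ExtAlong (algebraMap A A₂) π) :
    ExtAlong (RingHom.id A) π := by
  obtain ⟨K₁, hK₁⟩ := mequiv_scale s₁ A₁ π hπ 0 h₁
  obtain ⟨K₂, hK₂⟩ := mequiv_scale s₂ A₂ π hπ 1 h₂
  obtain ⟨a, b, hab⟩ := IsCoprime.pow (m := K₁) (n := K₂) hs
  have e1 := hK₁ a
  have e2 := hK₂ (-b)
  have hc : (1 : A) + s₂ ^ K₂ * (-b) = 0 + s₁ ^ K₁ * a := by
    linear_combination (-1 : A) * hab
  rw [hc, scale_one, RingHom.mapMatrix_id, RingHom.id_apply] at e2
  rw [scale_zero] at e1
  have hidem : ∀ f : A[X] →+* A[X], f.mapMatrix π * f.mapMatrix π = f.mapMatrix π := fun f => by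
    rw [← map_mul, hπ]
  unfold ExtAlong
  have h3 : (mapRingHom (RingHom.id A)).mapMatrix π = π := by
    ext a b : 1; simp
  rw [h3, RingHom.id_comp]
  exact (e2.symm).trans (hidem _) (hidem _) hπ e1


theorem extAlong_of_subsingleton {A B : Type*} [CommRing A] [CommRing B] [Subsingleton B]
    (φ : A →+* B) (π : Matrix m m A[X]) : ExtAlong φ π :=
  ⟨0, 0, Subsingleton.elim _ _, Subsingleton.elim _ _⟩

universe u

/-- local-global principle over a finite cover by basic opens -/
theorem extAlong_of_span_finset {ι : Type*} (F : Finset ι) :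
    ∀ (A : Type u) [CommRing A] (π : Matrix m m A[X]) (_ : π * π = π) (s : ι → A),
      Ideal.span (s '' (F : Set ι)) = ⊤ →
      (∀ i ∈ F, ExtAlong (algebraMap A (Localization.Away (s i))) π) →
      ExtAlong (RingHom.id A) π := by
  classical
  induction F using Finset.induction_on with
  | empty =>
    intro A _ π _ s hspan _
    rw [Finset.coe_empty, Set.image_empty, Ideal.span_empty] at hspan
    haveI : Subsingleton A := (Submodule.subsingleton_iff A).mp
      (subsingleton_of_bot_eq_top hspan)
    haveI : Subsingleton A[X] := inferInstance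
    exact ⟨0, 0, Subsingleton.elim _ _, Subsingleton.elim _ _⟩
  | insert i₀ F hi₀ ih =>
    intro A _ π hπ s hspan hloc
    rw [Finset.coe_insert, Set.image_insert_eq, Ideal.eq_top_iff_one, Ideal.mem_span_insert] at hspan
    obtain ⟨x, y, hy, hxy⟩ := hspan
    -- the localization at `y`
    let B := Localization.Away y
    let α : A →+* B := algebraMap A B
    let t : ι → B := fun i => α (s i)
    have hspanB : Ideal.span (t '' (F : Set ι)) = ⊤ := by
      rw [Ideal.eq_top_iff_one]
      have h1 : α y ∈ Ideal.span (t '' (F : Set ι)) := by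
        have : t '' (F : Set ι) = α '' (s '' (F : Set ι)) := by
          rw [Set.image_image]
        rw [this, ← Ideal.map_span]
        exact Ideal.mem_map_of_mem α hy
      have hu : IsUnit (α y) := IsLocalization.Away.algebraMap_isUnit y
      obtain ⟨u, hu'⟩ := hu
      have := Ideal.mul_mem_left _ (↑u⁻¹ : B) h1
      rwa [← hu', Units.inv_mul] at this
    have hB : ExtAlong (RingHom.id B) ((mapRingHom α).mapMatrix π) := by
      refine ih B ((mapRingHom α).mapMatrix π) (by rw [← map_mul, hπ]) t hspanB ?_
      intro i hi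
      rw [extAlong_map_iff]
      have hex := hloc i (Finset.mem_insert_of_mem hi)
      -- the map A_{s i} → B_{t i}
      let β : B →+* Localization.Away (t i) := algebraMap B _
      have hunit : IsUnit ((β.comp α) (s i)) := IsLocalization.Away.algebraMap_isUnit (t i)
      let γ : Localization.Away (s i) →+* Localization.Away (t i) :=
        IsLocalization.Away.lift (s i) hunit
      have hγ : γ.comp (algebraMap A (Localization.Away (s i))) = β.comp α :=
        IsLocalization.Away.lift_comp (s i) hunit
      have := hex.comp γ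
      rwa [hγ] at this
    rw [extAlong_map_iff, RingHom.id_comp] at hB
    -- the localization at `x * s i₀`
    have hA : ExtAlong (algebraMap A (Localization.Away (x * s i₀))) π := by
      have hex := hloc i₀ (Finset.mem_insert_self i₀ F)
      have hunit : IsUnit (algebraMap A (Localization.Away (x * s i₀)) (s i₀)) := by
        have h := IsLocalization.Away.algebraMap_isUnit (S := Localization.Away (x * s i₀)) (x * s i₀)
        rw [map_mul] at h
        exact isUnit_of_mul_isUnit_right h
      let γ : Localization.Away (s i₀) →+* Localization.Away (x * s i₀) :=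
        IsLocalization.Away.lift (s i₀) hunit
      have hγ : γ.comp (algebraMap A (Localization.Away (s i₀))) = algebraMap A _ :=
        IsLocalization.Away.lift_comp (s i₀) hunit
      have := hex.comp γ
      rwa [hγ] at this
    have hcop : IsCoprime (x * s i₀) y := ⟨1, 1, by rw [one_mul, one_mul]; exact hxy.symm⟩
    exact core π hπ (x * s i₀) y hcop (Localization.Away (x * s i₀)) B hA hB

end Core

end H9Hor.Patch
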