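import Mathlib
import Groth.Agent.Lib.Helper9.Hor.Core

open Polynomial

namespace H9Hor.Patch

section Descent
variable {A : Type*} [CommRing A] (S : Submonoid A) (A' : Type*) [CommRing A'] [Algebra A A']
  [IsLocalization S A']
variable {m : Type*} [Fintype m] [DecidableEq m]

theorem exists_lift_poly' (G : A'[X]) :
    ∃ t ∈ S, ∃ G' : A[X], G'.map (algebraMap A A') = C (algebraMap A A' t) * G := by
  obtain ⟨b, hbS, hb⟩ := IsLocalization.integerNormalization_spec S G
  refine ⟨b, hbS, IsLocalization.integerNormalization S G, ?_⟩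
  rw [hb, Algebra.smul_def, Polynomial.algebraMap_apply]

theorem exists_smul_eq_zero_poly' (D : A[X]) (h : D.map (algebraMap A A') = 0) :
    ∃ t ∈ S, C t * D = 0 := by
  classical
  have hc : ∀ n, ∃ t ∈ S, t * D.coeff n = 0 := by
    intro n
    have : algebraMap A A' (D.coeff n) = 0 := by
      rw [← coeff_map, h, coeff_zero]
    obtain ⟨⟨t, ht⟩, hl⟩ := (IsLocalization.map_eq_zero_iff S A' _).mp this
    exact ⟨t, ht, hl⟩
  choose t htS ht using hc
  refine ⟨∏ n ∈ D.support, t n, S.prod_mem fun n _ => htS n, ?_⟩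
  ext n
  rw [coeff_C_mul, coeff_zero]
  by_cases hn : n ∈ D.support
  · rw [← Finset.prod_erase_mul _ _ hn, mul_assoc, ht n, mul_zero]
  · rw [notMem_support_iff.mp hn, mul_zero]

theorem exists_lift_matrix' (G : Matrix m m A'[X]) :
    ∃ t ∈ S, ∃ G' : Matrix m m A[X],
      G'.map (Polynomial.map (algebraMap A A')) = C (algebraMap A A' t) • G := by
  classical
  choose t htS G' h using fun ab : m × m => exists_lift_poly' S A' (G ab.1 ab.2)
  refine ⟨∏ ab, t ab, S.prod_mem fun ab _ => htS ab,
    Matrix.of fun a b => C (∏ ab ∈ Finset.univ.erase (a, b), t ab) * G' (a, b), ?_⟩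
  ext a b : 1
  simp only [Matrix.map_apply, Matrix.of_apply, Matrix.smul_apply, smul_eq_mul, Polynomial.map_mul,
    map_C]
  rw [h (a, b), ← mul_assoc, ← C_mul, ← map_mul, Finset.prod_erase_mul _ _ (Finset.mem_univ _)]

theorem exists_smul_eq_zero_matrix' (D : Matrix m m A[X])
    (h : D.map (Polynomial.map (algebraMap A A')) = 0) : ∃ t ∈ S, C t • D = 0 := by
  classical
  have h1 : ∀ ab : m × m, (D ab.1 ab.2).map (algebraMap A A') = 0 := fun ab => by
    have := congrFun (congrFun h ab.1) ab.2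
    simpa using this
  choose t htS ht using fun ab : m × m => exists_smul_eq_zero_poly' S A' (D ab.1 ab.2) (h1 ab)
  refine ⟨∏ ab, t ab, S.prod_mem fun ab _ => htS ab, ?_⟩
  ext a b : 1
  simp only [Matrix.smul_apply, smul_eq_mul, Matrix.zero_apply]
  rw [← Finset.prod_erase_mul _ _ (Finset.mem_univ (a, b)), C_mul, mul_assoc, ht (a, b), mul_zero]


theorem smul_map_eq_zero_of_isUnit {B : Type*} [CommRing B] (f : A →+* B) (D : Matrix m m A[X])
    (t : A) (ht : IsUnit (f t)) (h : (C t : A[X]) • D = 0) : (mapRingHom f).mapMatrix D = 0 := by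
  have h1 : (C (f t) : B[X]) • (mapRingHom f).mapMatrix D = 0 := by
    have := congrArg (mapRingHom f).mapMatrix h
    rw [map_zero] at this
    rw [← this]
    ext a b : 1
    simp
  obtain ⟨u, hu⟩ := ht
  have := congrArg (fun M => (C (↑u⁻¹ : B) : B[X]) • M) h1
  simp only [smul_smul, smul_zero] at this
  rwa [← C_mul, ← hu, Units.inv_mul, C_1, one_smul] at this

/-- descent of extendedness from a localization `S⁻¹A` to some `A_s`, `s ∈ S` -/
theorem exists_away_of_localization (π : Matrix m m A[X])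
    (h : ExtAlong (algebraMap A A') π) :
    ∃ s ∈ S, ExtAlong (algebraMap A (Localization.Away s)) π := by
  classical
  obtain ⟨U, V, hUV, hVU⟩ := h
  set j := algebraMap A A' with hj
  obtain ⟨t₁, ht₁, U', hU'⟩ := exists_lift_matrix' S A' U
  obtain ⟨t₂, ht₂, V', hV'⟩ := exists_lift_matrix' S A' V
  have hU'' : (mapRingHom j).mapMatrix U' = (C (j t₁) : A'[X]) • U := hU'
  have hV'' : (mapRingHom j).mapMatrix V' = (C (j t₂) : A'[X]) • V := hV'
  let q' : Matrix m m A[X] := (C.comp constantCoeff).mapMatrix π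
  have hq' : (mapRingHom j).mapMatrix q' = (C.comp (j.comp constantCoeff)).mapMatrix π := by
    change (mapRingHom j).mapMatrix ((C.comp constantCoeff).mapMatrix π) = _
    rw [mm_comp]
    have : (mapRingHom j).comp (C.comp constantCoeff) =
        C.comp (j.comp (constantCoeff : A[X] →+* A)) := by
      refine RingHom.ext fun x => ?_
      simp
    rw [this]
  have hsm : ∀ (f : A →+* A') (c : A) (M : Matrix m m A[X]),
      (mapRingHom f).mapMatrix ((C c : A[X]) • M) = (C (f c) : A'[X]) • (mapRingHom f).mapMatrix M := by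
    intro f c M; ext a b : 1; simp
  let D₁ : Matrix m m A[X] := U' * V' - (C (t₁ * t₂) : A[X]) • q'
  let D₂ : Matrix m m A[X] := V' * U' - (C (t₁ * t₂) : A[X]) • π
  have hD₁ : D₁.map (Polynomial.map j) = 0 := by
    change (mapRingHom j).mapMatrix (U' * V' - (C (t₁ * t₂) : A[X]) • q') = 0
    rw [map_sub, map_mul, hU'', hV'', hsm, hq', Matrix.smul_mul, Matrix.mul_smul, smul_smul, hUV,
      ← C_mul, ← map_mul, sub_self]
  have hD₂ : D₂.map (Polynomial.map j) = 0 := by
    change (mapRingHom j).mapMatrix (V' * U' - (C (t₁ * t₂) : A[X]) • π) = 0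
    rw [map_sub, map_mul, hU'', hV'', hsm, Matrix.smul_mul, Matrix.mul_smul, smul_smul, hVU,
      ← C_mul, ← map_mul, mul_comm t₂ t₁, sub_self]
  obtain ⟨t₃, ht₃, h3⟩ := exists_smul_eq_zero_matrix' S A' D₁ hD₁
  obtain ⟨t₄, ht₄, h4⟩ := exists_smul_eq_zero_matrix' S A' D₂ hD₂
  let s := t₁ * t₂ * (t₃ * t₄)
  refine ⟨s, S.mul_mem (S.mul_mem ht₁ ht₂) (S.mul_mem ht₃ ht₄), ?_⟩
  let B := Localization.Away s
  let js : A →+* B := algebraMap A B
  have hs : IsUnit (js s) := IsLocalization.Away.algebraMap_isUnit s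
  have hs' : IsUnit (js (t₁ * t₂) * js (t₃ * t₄)) := by rw [← map_mul]; exact hs
  have hu12 : IsUnit (js (t₁ * t₂)) := isUnit_of_mul_isUnit_left hs'
  have hu34 : IsUnit (js t₃ * js t₄) := by rw [← map_mul]; exact isUnit_of_mul_isUnit_right hs'
  have hu3 : IsUnit (js t₃) := isUnit_of_mul_isUnit_left hu34
  have hu4 : IsUnit (js t₄) := isUnit_of_mul_isUnit_right hu34
  have hJD₁ := smul_map_eq_zero_of_isUnit js D₁ t₃ hu3 h3
  have hJD₂ := smul_map_eq_zero_of_isUnit js D₂ t₄ hu4 h4
  obtain ⟨u, hu⟩ := hu12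
  have hsmB : ∀ (c : A) (M : Matrix m m A[X]),
      (mapRingHom js).mapMatrix ((C c : A[X]) • M) = (C (js c) : B[X]) • (mapRingHom js).mapMatrix M := by
    intro c M; ext a b : 1; simp
  have hq'B : (mapRingHom js).mapMatrix q' = (C.comp (js.comp constantCoeff)).mapMatrix π := by
    change (mapRingHom js).mapMatrix ((C.comp constantCoeff).mapMatrix π) = _
    rw [mm_comp]
    have : (mapRingHom js).comp (C.comp constantCoeff) =
        C.comp (js.comp (constantCoeff : A[X] →+* A)) := by
      refine RingHom.ext fun x => ?_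
      simp
    rw [this]
  have e1 : (mapRingHom js).mapMatrix U' * (mapRingHom js).mapMatrix V' =
      (C (js (t₁ * t₂)) : B[X]) • (C.comp (js.comp constantCoeff)).mapMatrix π := by
    have : U' * V' = D₁ + (C (t₁ * t₂) : A[X]) • q' := by
      change _ = U' * V' - (C (t₁ * t₂) : A[X]) • q' + _; abel
    rw [← map_mul, this, map_add, hJD₁, zero_add, hsmB, hq'B]
  have e2 : (mapRingHom js).mapMatrix V' * (mapRingHom js).mapMatrix U' =
      (C (js (t₁ * t₂)) : B[X]) • (mapRingHom js).mapMatrix π := by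
    have : V' * U' = D₂ + (C (t₁ * t₂) : A[X]) • π := by
      change _ = V' * U' - (C (t₁ * t₂) : A[X]) • π + _; abel
    rw [← map_mul, this, map_add, hJD₂, zero_add, hsmB]
  refine ⟨(C (↑u⁻¹ : B) : B[X]) • (mapRingHom js).mapMatrix U', (mapRingHom js).mapMatrix V', ?_, ?_⟩
  · rw [Matrix.smul_mul, e1, smul_smul, ← C_mul, ← hu, Units.inv_mul, C_1, one_smul]
  · rw [Matrix.mul_smul, e2, smul_smul, ← C_mul, ← hu, Units.inv_mul, C_1, one_smul]

end Descent

section LocalGlobal
universe u
variable {m : Type*} [Fintype m] [DecidableEq m]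

/-- **Quillen patching (matrix form)**: an idempotent matrix over `A[X]` which becomes extended over
each localization at a maximal ideal is extended. -/
theorem extAlong_of_forall_maximal (A : Type u) [CommRing A] (π : Matrix m m A[X]) (hπ : π * π = π)
    (h : ∀ (P : Ideal A) [P.IsMaximal], ExtAlong (algebraMap A (Localization.AtPrime P)) π) :
    ExtAlong (RingHom.id A) π := by
  classical
  let T : Set A := {s | ExtAlong (algebraMap A (Localization.Away s)) π}
  have hT : Ideal.span T = ⊤ := by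
    by_contra hne
    obtain ⟨P, hP, hle⟩ := Ideal.exists_le_maximal _ hne
    haveI := hP
    obtain ⟨s, hsP, hs⟩ := exists_away_of_localization P.primeCompl (Localization.AtPrime P) π (h P)
    exact hsP (hle (Ideal.subset_span hs))
  obtain ⟨F, hFT, hF⟩ := (Ideal.span_eq_top_iff_finite T).mp hT
  refine extAlong_of_span_finset F A π hπ id ?_ ?_
  · rw [Set.image_id]; exact hF
  · intro i hi
    exact hFT hi

end LocalGlobal

end H9Hor.Patch
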