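import Mathlib
import Groth.Agent.Lib.Helper9.Hor.Patch

set_option linter.unusedSectionVars false

open Polynomial TensorProduct

namespace H9Hor.Dict

open H9Hor.Patch

section Aux
variable {B : Type*} [CommRing B] {m : Type*} [Fintype m] [DecidableEq m]
variable {Q : Type*} [AddCommGroup Q] [Module B Q]

/-- constants -/
noncomputable def ι₀ : (m → B) →ₗ[B] (m → B[X]) := (Algebra.linearMap B B[X]).compLeft m

/-- constant coefficients -/
noncomputable def ev₀ : (m → B[X]) →ₗ[B] (m → B) := (lcoeff B 0).compLeft m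

@[simp] theorem ι₀_apply (v : m → B) (i : m) : ι₀ v i = C (v i) := rfl
@[simp] theorem ev₀_apply (v : m → B[X]) (i : m) : ev₀ v i = (v i).coeff 0 := rfl

/-- evaluation at `X = 0` on `B[X] ⊗ Q` -/
noncomputable def ε : B[X] ⊗[B] Q →ₗ[B] Q := (TensorProduct.lid B Q).toLinearMap ∘ₗ (lcoeff B 0).rTensor Q

/-- the inclusion `q ↦ 1 ⊗ q` -/
noncomputable def inc : Q →ₗ[B] B[X] ⊗[B] Q := TensorProduct.mk B B[X] Q 1

@[simp] theorem ε_tmul (p : B[X]) (q : Q) : ε (p ⊗ₜ[B] q) = p.coeff 0 • q := by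
  simp [ε]

@[simp] theorem inc_apply (q : Q) : inc (B := B) q = (1 : B[X]) ⊗ₜ[B] q := rfl

theorem ε_inc (q : Q) : ε (inc (B := B) q) = q := by simp

theorem ε_X_smul (y : B[X] ⊗[B] Q) : ε ((X : B[X]) • y) = 0 := by
  induction y using TensorProduct.induction_on with
  | zero => simp
  | tmul p q => rw [TensorProduct.smul_tmul', ε_tmul, smul_eq_mul, mul_comm, coeff_mul_X_zero, zero_smul]
  | add a b ha hb => rw [smul_add, map_add, ha, hb, add_zero]

theorem exists_eq_inc_add (y : B[X] ⊗[B] Q) : ∃ w : B[X] ⊗[B] Q, y = inc (ε y) + (X : B[X]) • w := by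
  induction y using TensorProduct.induction_on with
  | zero => exact ⟨0, by simp⟩
  | tmul p q =>
    refine ⟨divX p ⊗ₜ q, ?_⟩
    rw [ε_tmul, inc_apply, TensorProduct.smul_tmul', smul_eq_mul, ← TensorProduct.smul_tmul,
      ← TensorProduct.add_tmul]
    congr 1
    rw [Algebra.smul_def, mul_one, Polynomial.algebraMap_apply, Algebra.algebraMap_self_apply, mul_comm,
      add_comm]
    exact (divX_mul_X_add p).symm
  | add a b ha hb =>
    obtain ⟨wa, hwa⟩ := ha
    obtain ⟨wb, hwb⟩ := hb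
    refine ⟨wa + wb, ?_⟩
    rw [map_add, map_add, smul_add]
    conv_lhs => rw [hwa, hwb]
    abel

theorem ev₀_X_smul (v : m → B[X]) : ev₀ ((X : B[X]) • v) = 0 := by
  funext i; simp

theorem eq_ι₀_add (v : m → B[X]) : v = ι₀ (ev₀ v) + (X : B[X]) • (fun i => divX (v i)) := by
  funext i
  simp only [Pi.add_apply, ι₀_apply, ev₀_apply, Pi.smul_apply, smul_eq_mul]
  rw [mul_comm, add_comm]
  exact (divX_mul_X_add (v i)).symm

theorem ev₀_toLin'_ι₀ (ρ : Matrix m m B[X]) (v : m → B) :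
    ev₀ (Matrix.toLin' ρ (ι₀ v)) = Matrix.toLin' (ρ.map constantCoeff) v := by
  funext i
  simp only [ev₀_apply, Matrix.toLin'_apply, Matrix.mulVec, dotProduct, ι₀_apply, finset_sum_coeff,
    Matrix.map_apply, constantCoeff_apply, coeff_mul_C]

end Aux

section DA
variable {B : Type*} [CommRing B] {m : Type*} [Fintype m] [DecidableEq m]
variable {P : Type*} [AddCommGroup P] [Module B[X] P]
variable {Q : Type*} [AddCommGroup Q] [Module B Q]

/-- the `B[X]`-linear map `(m → B[X]) → B[X] ⊗ Q` determined by a `B`-linear map `(m → B) → Q` -/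
noncomputable def extU (a : (m → B) →ₗ[B] Q) : (m → B[X]) →ₗ[B[X]] B[X] ⊗[B] Q :=
  (Pi.basisFun B[X] m).constr B[X] (fun i => (1 : B[X]) ⊗ₜ[B] a (Pi.single i 1))

theorem extU_apply (a : (m → B) →ₗ[B] Q) (x : m → B[X]) :
    extU a x = ∑ i, x i • ((1 : B[X]) ⊗ₜ[B] a (Pi.single i 1)) := by
  simp [extU, Module.Basis.constr_apply_fintype]

theorem extU_ι₀ (a : (m → B) →ₗ[B] Q) (v : m → B) : extU a (ι₀ v) = (1 : B[X]) ⊗ₜ[B] a v := by
  rw [extU_apply]
  have : ∀ i, ι₀ v i • ((1 : B[X]) ⊗ₜ[B] a (Pi.single i 1)) =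
      (1 : B[X]) ⊗ₜ[B] (v i • a (Pi.single i 1)) := by
    intro i
    rw [ι₀_apply, TensorProduct.smul_tmul', smul_eq_mul, mul_one, TensorProduct.tmul_smul,
      TensorProduct.smul_tmul', Algebra.smul_def, mul_one]
    rfl
  simp_rw [this]
  rw [← TensorProduct.tmul_sum]
  congr 1
  conv_rhs => rw [pi_eq_sum_univ v, map_sum]
  refine Finset.sum_congr rfl fun i _ => ?_
  rw [← map_smul]
  congr 1
  funext k
  simp [Pi.single_apply, eq_comm]

/-- the `B[X]`-linear map `B[X] ⊗ Q → (m → B[X])` determined by `b : Q → (m → B)` -/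
noncomputable def extV (b : Q →ₗ[B] (m → B)) : B[X] ⊗[B] Q →ₗ[B[X]] (m → B[X]) :=
  LinearMap.liftBaseChange B[X] (ι₀.comp b)

@[simp] theorem extV_tmul (b : Q →ₗ[B] (m → B)) (p : B[X]) (q : Q) :
    extV b (p ⊗ₜ q) = p • ι₀ (b q) := by
  simp [extV]

theorem extU_extV (a : (m → B) →ₗ[B] Q) (b : Q →ₗ[B] (m → B)) (hab : ∀ q, a (b q) = q)
    (y : B[X] ⊗[B] Q) : extU a (extV b y) = y := by
  induction y using TensorProduct.induction_on with
  | zero => simp
  | tmul p q =>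
    rw [extV_tmul, map_smul, extU_ι₀, hab, TensorProduct.smul_tmul', smul_eq_mul, mul_one]
  | add y z hy hz => rw [map_add, map_add, hy, hz]

theorem extV_extU (a : (m → B) →ₗ[B] Q) (b : Q →ₗ[B] (m → B)) (x : m → B[X]) :
    extV b (extU a x) = Matrix.toLin' ((LinearMap.toMatrix' (b ∘ₗ a)).map C) x := by
  rw [extU_apply, map_sum]
  simp_rw [map_smul, extV_tmul, one_smul]
  funext k
  simp only [Finset.sum_apply, Pi.smul_apply, ι₀_apply, smul_eq_mul, Matrix.toLin'_apply,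
    Matrix.mulVec, dotProduct, Matrix.map_apply, LinearMap.toMatrix'_apply, LinearMap.comp_apply]
  refine Finset.sum_congr rfl fun i _ => ?_
  rw [mul_comm]


/-- **(D-a)** an extended module presented by an idempotent `ρ` has `ρ ~ C ρ(0)` -/
theorem mequiv_of_extended (f : (m → B[X]) →ₗ[B[X]] P) (g : P →ₗ[B[X]] (m → B[X]))
    (hfg : ∀ p, f (g p) = p) (α : P ≃ₗ[B[X]] B[X] ⊗[B] Q) :
    MEquiv (LinearMap.toMatrix' (g ∘ₗ f))
      ((C.comp constantCoeff).mapMatrix (LinearMap.toMatrix' (g ∘ₗ f))) := by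
  set ρ := LinearMap.toMatrix' (g ∘ₗ f) with hρ
  have hρlin : ∀ x, Matrix.toLin' ρ x = g (f x) := by
    intro x; rw [hρ, Matrix.toLin'_toMatrix']; rfl
  let a : (m → B) →ₗ[B] Q := ε ∘ₗ ((α.toLinearMap ∘ₗ f).restrictScalars B) ∘ₗ ι₀
  let b : Q →ₗ[B] (m → B) := ev₀ ∘ₗ ((g ∘ₗ α.symm.toLinearMap).restrictScalars B) ∘ₗ inc
  have ha : ∀ v, a v = ε (α (f (ι₀ v))) := fun v => rfl
  have hb : ∀ q, b q = ev₀ (g (α.symm (inc q))) := fun q => rfl
  have hab : ∀ q, a (b q) = q := by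
    intro q
    rw [ha, hb]
    set z := g (α.symm (inc q)) with hz
    obtain hz' := eq_ι₀_add z
    have h1 : f (ι₀ (ev₀ z)) = α.symm (inc q) - (X : B[X]) • f (fun i => divX (z i)) := by
      have := congrArg f hz'
      rw [map_add, map_smul, hz, hfg] at this
      rw [this]
      abel
    rw [h1, map_sub, map_smul, LinearEquiv.apply_symm_apply, map_sub, ε_X_smul, sub_zero, ε_inc]
  have hba : ∀ v, b (a v) = Matrix.toLin' (ρ.map constantCoeff) v := by
    intro v
    rw [ha, hb]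
    set y := α (f (ι₀ v)) with hy
    obtain ⟨w, hw⟩ := exists_eq_inc_add y
    have h1 : inc (ε y) = y - (X : B[X]) • w := by
      conv_rhs => rw [hw]
      abel
    rw [h1, map_sub, map_smul, hy, LinearEquiv.symm_apply_apply, map_sub, map_smul, map_sub,
      ev₀_X_smul, sub_zero, ← hρlin, ev₀_toLin'_ι₀]
  have hbamat : LinearMap.toMatrix' (b ∘ₗ a) = ρ.map constantCoeff := by
    rw [← LinearMap.toMatrix'_toLin' (ρ.map constantCoeff)]
    congr 1
    refine LinearMap.ext fun v => ?_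
    exact hba v
  refine ⟨LinearMap.toMatrix' (extV b ∘ₗ α.toLinearMap ∘ₗ f),
    LinearMap.toMatrix' (g ∘ₗ α.symm.toLinearMap ∘ₗ extU a), ?_, ?_⟩
  · rw [← LinearMap.toMatrix'_comp]
    have : (extV b ∘ₗ α.toLinearMap ∘ₗ f) ∘ₗ (g ∘ₗ α.symm.toLinearMap ∘ₗ extU a) =
        Matrix.toLin' ((LinearMap.toMatrix' (b ∘ₗ a)).map C) := by
      refine LinearMap.ext fun x => ?_
      simp only [LinearMap.comp_apply, LinearEquiv.coe_coe, hfg, LinearEquiv.apply_symm_apply]
      exact extV_extU a b x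
    rw [this, LinearMap.toMatrix'_toLin', hbamat]
    ext i j : 1
    simp
  · rw [← LinearMap.toMatrix'_comp]
    congr 1
    refine LinearMap.ext fun x => ?_
    simp only [LinearMap.comp_apply, LinearEquiv.coe_coe]
    rw [extU_extV a b hab, LinearEquiv.symm_apply_apply]


/-- **(D-b)** a module presented by an idempotent `ρ` with `ρ ~ C ρ(0)` is extended -/
theorem extended_of_mequiv (f : (m → B[X]) →ₗ[B[X]] P) (g : P →ₗ[B[X]] (m → B[X]))
    (hfg : ∀ p, f (g p) = p)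
    (h : MEquiv (LinearMap.toMatrix' (g ∘ₗ f))
      ((C.comp constantCoeff).mapMatrix (LinearMap.toMatrix' (g ∘ₗ f)))) :
    Nonempty (P ≃ₗ[B[X]] B[X] ⊗[B]
      (LinearMap.range (Matrix.toLin' ((LinearMap.toMatrix' (g ∘ₗ f)).map constantCoeff)))) := by
  set ρ := LinearMap.toMatrix' (g ∘ₗ f) with hρ
  have hρlin : ∀ x, Matrix.toLin' ρ x = g (f x) := by
    intro x; rw [hρ, Matrix.toLin'_toMatrix']; rfl
  have hρρ : ρ * ρ = ρ := by
    rw [hρ, ← LinearMap.toMatrix'_comp]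
    congr 1
    refine LinearMap.ext fun x => ?_
    simp only [LinearMap.comp_apply, hfg]
  set ρ₀ := ρ.map constantCoeff with hρ₀
  have hρ₀ρ₀ : ρ₀ * ρ₀ = ρ₀ := by
    have : ρ₀ = constantCoeff.mapMatrix ρ := rfl
    rw [this, ← map_mul, hρρ]
  have hq : (C.comp constantCoeff).mapMatrix ρ = ρ₀.map C := by
    ext i j : 1; simp [hρ₀]
  have hqq : (C.comp constantCoeff).mapMatrix ρ * (C.comp constantCoeff).mapMatrix ρ =
      (C.comp constantCoeff).mapMatrix ρ := by rw [← map_mul, hρρ]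
  obtain ⟨U, V, hUV, hVU, hUρ, -, hVq, -⟩ := h.normalize hρρ hqq
  let Q := LinearMap.range (Matrix.toLin' ρ₀)
  let a : (m → B) →ₗ[B] Q := (Matrix.toLin' ρ₀).rangeRestrict
  let b : Q →ₗ[B] (m → B) := Q.subtype
  have hab : ∀ q, a (b q) = q := by
    rintro ⟨_, v, rfl⟩
    apply Subtype.ext
    change Matrix.toLin' ρ₀ (Matrix.toLin' ρ₀ v) = Matrix.toLin' ρ₀ v
    rw [← LinearMap.comp_apply, ← Matrix.toLin'_mul, hρ₀ρ₀]
  have hba : LinearMap.toMatrix' (b ∘ₗ a) = ρ₀ := by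
    rw [← LinearMap.toMatrix'_toLin' ρ₀]
    congr 1
  have hVUlin : ∀ x, extV b (extU a x) = Matrix.toLin' (U * V) x := by
    intro x
    rw [extV_extU, hba, hUV, hq]
  let Φ : B[X] ⊗[B] Q →ₗ[B[X]] P := f ∘ₗ Matrix.toLin' V ∘ₗ extV b
  let Ψ : P →ₗ[B[X]] B[X] ⊗[B] Q := extU a ∘ₗ Matrix.toLin' U ∘ₗ g
  refine ⟨LinearEquiv.ofLinear Ψ Φ ?_ ?_⟩
  · refine LinearMap.ext fun y => ?_
    change extU a (Matrix.toLin' U (g (f (Matrix.toLin' V (extV b y))))) = y
    rw [← hρlin, ← LinearMap.comp_apply (Matrix.toLin' U), ← Matrix.toLin'_mul, hUρ,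
      ← LinearMap.comp_apply (Matrix.toLin' U), ← Matrix.toLin'_mul, ← hVUlin, extU_extV a b hab,
      extU_extV a b hab]
  · refine LinearMap.ext fun p => ?_
    change f (Matrix.toLin' V (extV b (extU a (Matrix.toLin' U (g p))))) = p
    rw [hVUlin, ← LinearMap.comp_apply (Matrix.toLin' V), ← Matrix.toLin'_mul,
      ← LinearMap.comp_apply (Matrix.toLin' (V * (U * V))), ← Matrix.toLin'_mul, hUV, hVq, hVU,
      hρlin, hfg, hfg]

end DA

section DC
variable {A B : Type*} [CommRing A] [CommRing B] [Algebra A B] {m : Type*} [Fintype m] [DecidableEq m]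
variable {M : Type*} [AddCommGroup M] [Module A[X] M]

attribute [local instance] Polynomial.algebra

/-- base change of the presentation map `f` -/
noncomputable def fB (f : (m → A[X]) →ₗ[A[X]] M) : (m → B[X]) →ₗ[B[X]] B[X] ⊗[A[X]] M :=
  (Pi.basisFun B[X] m).constr B[X] (fun i => (1 : B[X]) ⊗ₜ[A[X]] f (Pi.single i 1))

/-- base change of the presentation map `g` -/
noncomputable def gB (g : M →ₗ[A[X]] (m → A[X])) : B[X] ⊗[A[X]] M →ₗ[B[X]] (m → B[X]) :=
  LinearMap.liftBaseChange B[X] (((Algebra.linearMap A[X] B[X]).compLeft m) ∘ₗ g)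

theorem fB_apply (f : (m → A[X]) →ₗ[A[X]] M) (x : m → B[X]) :
    fB (B := B) f x = ∑ i, x i • ((1 : B[X]) ⊗ₜ[A[X]] f (Pi.single i 1)) := by
  simp [fB, Module.Basis.constr_apply_fintype]

@[simp] theorem gB_tmul (g : M →ₗ[A[X]] (m → A[X])) (p : B[X]) (μ : M) (i : m) :
    gB (B := B) g (p ⊗ₜ μ) i = p * (g μ i).map (algebraMap A B) := by
  simp [gB]

theorem fB_gB (f : (m → A[X]) →ₗ[A[X]] M) (g : M →ₗ[A[X]] (m → A[X])) (hfg : ∀ p, f (g p) = p)
    (y : B[X] ⊗[A[X]] M) : fB (B := B) f (gB g y) = y := by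
  induction y using TensorProduct.induction_on with
  | zero => simp
  | tmul p μ =>
    rw [fB_apply]
    simp_rw [gB_tmul]
    have : ∀ i, (p * (g μ i).map (algebraMap A B)) • ((1 : B[X]) ⊗ₜ[A[X]] f (Pi.single i 1)) =
        p ⊗ₜ[A[X]] (g μ i • f (Pi.single i 1)) := by
      intro i
      rw [TensorProduct.smul_tmul', smul_eq_mul, mul_one, TensorProduct.tmul_smul,
        TensorProduct.smul_tmul', Algebra.smul_def, mul_comm]
      rfl
    simp_rw [this]
    rw [← TensorProduct.tmul_sum]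
    congr 1
    conv_rhs => rw [← hfg μ, pi_eq_sum_univ (g μ), map_sum]
    refine Finset.sum_congr rfl fun i _ => ?_
    rw [← map_smul]
    congr 1
    funext k
    simp [Pi.single_apply, eq_comm]
  | add y z hy hz => rw [map_add, map_add, hy, hz]

theorem toMatrix'_gB_fB (f : (m → A[X]) →ₗ[A[X]] M) (g : M →ₗ[A[X]] (m → A[X])) :
    LinearMap.toMatrix' (gB (B := B) g ∘ₗ fB f) =
      (mapRingHom (algebraMap A B)).mapMatrix (LinearMap.toMatrix' (g ∘ₗ f)) := by
  ext i j : 1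
  rw [LinearMap.toMatrix'_apply, LinearMap.comp_apply, fB_apply, map_sum, Finset.sum_apply]
  simp_rw [map_smul, Pi.smul_apply, gB_tmul]
  simp [Pi.single_apply, LinearMap.toMatrix'_apply]

/-- **(D-c)+(D-a)**: if the base change of `M` to `B[X]` is extended then `ρ` is extended along `A → B` -/
theorem extAlong_of_baseChange_extended (f : (m → A[X]) →ₗ[A[X]] M) (g : M →ₗ[A[X]] (m → A[X]))
    (hfg : ∀ p, f (g p) = p) {Q : Type*} [AddCommGroup Q] [Module B Q]
    (α : B[X] ⊗[A[X]] M ≃ₗ[B[X]] B[X] ⊗[B] Q) :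
    ExtAlong (algebraMap A B) (LinearMap.toMatrix' (g ∘ₗ f)) := by
  have h := mequiv_of_extended (fB (B := B) f) (gB g) (fB_gB f g hfg) α
  rw [toMatrix'_gB_fB, mm_comp] at h
  unfold ExtAlong
  have : (C.comp constantCoeff).comp (mapRingHom (algebraMap A B)) =
      C.comp ((algebraMap A B).comp (constantCoeff : A[X] →+* A)) := by
    refine RingHom.ext fun x => ?_
    simp
  rw [this] at h
  exact h

end DC

end H9Hor.Dict
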