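import Mathlib

open Polynomial

namespace H9Hor

section Field
variable {k : Type*} [Field k] {n : ℕ}

/-- surjectivity of the leading coefficient map in degree `M` -/
def Surj (Lt : Submodule k[X] (Fin n → k[X])) (M : ℕ) : Prop :=
  ∀ w : Fin n → k, ∃ y ∈ Lt, (∀ i, (y i).natDegree ≤ M) ∧ ∀ i, (y i).coeff M = w i

theorem surj_succ {Lt : Submodule k[X] (Fin n → k[X])} {M : ℕ} (h : Surj Lt M) : Surj Lt (M + 1) := by
  intro w
  obtain ⟨y, hy, hd, hc⟩ := h w
  refine ⟨(X : k[X]) • y, Lt.smul_mem _ hy, fun i => ?_, fun i => ?_⟩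
  · simp only [Pi.smul_apply, smul_eq_mul]
    refine natDegree_mul_le.trans ?_
    rw [natDegree_X, add_comm]
    exact Nat.add_le_add_right (hd i) 1
  · simp only [Pi.smul_apply, smul_eq_mul]
    rw [coeff_X_mul, hc]

theorem surj_of_le {Lt : Submodule k[X] (Fin n → k[X])} {M N : ℕ} (h : Surj Lt M) (hMN : M ≤ N) :
    Surj Lt N := by
  induction N, hMN using Nat.le_induction with
  | base => exact h
  | succ N _ ih => exact surj_succ ih

theorem surj_natDegree {Lt : Submodule k[X] (Fin n → k[X])} {g : k[X]} (hg : g.Monic)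
    (hL : ∀ v : Fin n → k[X], g • v ∈ Lt) : Surj Lt g.natDegree := by
  intro w
  refine ⟨g • (fun i => C (w i)), hL _, fun i => ?_, fun i => ?_⟩
  · simp only [Pi.smul_apply, smul_eq_mul]
    refine natDegree_mul_le.trans ?_
    rw [natDegree_C, add_zero]
  · simp only [Pi.smul_apply, smul_eq_mul]
    rw [coeff_mul_C, hg.coeff_natDegree, one_mul]


/-- key divisibility contradiction -/
theorem not_dvd_aux {Lt : Submodule k[X] (Fin n → k[X])} {m₀ : ℕ}
    (y : Fin n → k[X]) (hyd : ∀ i, (y i).natDegree ≤ m₀)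
    (hv : ∀ z ∈ Lt, (∀ i, (z i).natDegree ≤ m₀ - 1) → 1 ≤ m₀ →
      (fun i => (z i).coeff (m₀ - 1)) ≠ fun i => (y i).coeff m₀)
    (hy0 : ∃ i, (y i).coeff m₀ ≠ 0)
    (d : k[X]) (z : Fin n → k[X]) (hz : z ∈ Lt) (hyz : y = d • z) : IsUnit d := by
  by_contra hd
  obtain ⟨i₀, hi₀⟩ := hy0
  have hd0 : d ≠ 0 := by
    rintro rfl
    apply hi₀
    rw [hyz]
    simp
  have hδ : 1 ≤ d.natDegree := by
    by_contra h
    have h0 : d.natDegree = 0 := by omega
    apply hd
    rw [eq_C_of_natDegree_eq_zero h0]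
    apply IsUnit.map
    rw [isUnit_iff_ne_zero]
    intro hc
    apply hd0
    rw [eq_C_of_natDegree_eq_zero h0, hc, C_0]
  have hyi : ∀ i, y i = d * z i := fun i => by rw [hyz]; rfl
  have hzd : ∀ i, d.natDegree + (z i).natDegree ≤ m₀ ∨ z i = 0 := by
    intro i
    by_cases hzi : z i = 0
    · exact Or.inr hzi
    · left
      have := hyd i
      rwa [hyi i, natDegree_mul hd0 hzi] at this
  have hzi₀ : z i₀ ≠ 0 := by
    intro h
    apply hi₀
    rw [hyi, h, mul_zero, coeff_zero]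
  have hδm : d.natDegree ≤ m₀ := by
    rcases hzd i₀ with h | h
    · omega
    · exact absurd h hzi₀
  have hm₀ : 1 ≤ m₀ := hδ.trans hδm
  -- z' := C (leading coeff) * X^(δ-1) • z
  have hzdeg : ∀ i, (z i).natDegree ≤ m₀ - d.natDegree := by
    intro i
    rcases hzd i with h | h
    · omega
    · rw [h, natDegree_zero]; exact Nat.zero_le _
  refine hv ((C d.leadingCoeff * X ^ (d.natDegree - 1)) • z) (Lt.smul_mem _ hz) (fun i => ?_) hm₀ ?_
  · simp only [Pi.smul_apply, smul_eq_mul]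
    refine natDegree_mul_le.trans ?_
    refine (Nat.add_le_add (natDegree_C_mul_le _ _) (hzdeg i)).trans ?_
    refine (Nat.add_le_add_right (natDegree_X_pow_le _) _).trans ?_
    omega
  · funext i
    simp only [Pi.smul_apply, smul_eq_mul]
    rw [hyi i, mul_assoc, coeff_C_mul]
    have h1 : m₀ - 1 = (m₀ - d.natDegree) + (d.natDegree - 1) := by omega
    rw [h1, coeff_X_pow_mul]
    have h2 : m₀ = d.natDegree + (m₀ - d.natDegree) := by omega
    conv_rhs => rw [h2]
    rw [coeff_mul_add_eq_of_natDegree_le le_rfl (hzdeg i)]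
    rfl


/-- the field-level lemma: existence of a unimodular element of maximal generating degree -/
theorem exists_unimodular (hn : 0 < n) (Lt : Submodule k[X] (Fin n → k[X])) {g : k[X]} (hg : g.Monic)
    (hL : ∀ v : Fin n → k[X], g • v ∈ Lt) :
    ∃ (m₀ : ℕ) (y : Fin n → k[X]) (hy : y ∈ Lt) (φ : Lt →ₗ[k[X]] k[X]),
      (∀ M, m₀ ≤ M → Surj Lt M) ∧ (∀ i, (y i).natDegree ≤ m₀) ∧ (∃ i, (y i).coeff m₀ ≠ 0) ∧
        φ ⟨y, hy⟩ = 1 := by
  classical
  have hex : ∃ M, Surj Lt M := ⟨g.natDegree, surj_natDegree hg hL⟩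
  let m₀ := Nat.find hex
  have hS : Surj Lt m₀ := Nat.find_spec hex
  have hmin : ∀ M, M < m₀ → ¬ Surj Lt M := fun M hM => Nat.find_min hex hM
  -- choose v not attained in degree m₀ - 1
  obtain ⟨v, hv0, hv⟩ : ∃ v : Fin n → k, v ≠ 0 ∧ ∀ z ∈ Lt, (∀ i, (z i).natDegree ≤ m₀ - 1) → 1 ≤ m₀ →
      (fun i => (z i).coeff (m₀ - 1)) ≠ v := by
    by_cases hm : 1 ≤ m₀
    · have := hmin (m₀ - 1) (by omega)
      unfold Surj at this
      push Not at this
      obtain ⟨w, hw⟩ := this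
      refine ⟨w, ?_, fun z hz hzd _ hzw => ?_⟩
      · rintro rfl
        obtain ⟨i, hi⟩ := hw 0 Lt.zero_mem (fun i => by simp)
        exact hi (by simp)
      · obtain ⟨i, hi⟩ := hw z hz hzd
        exact hi (congrFun hzw i)
    · refine ⟨Pi.single ⟨0, hn⟩ 1, ?_, fun z _ _ h => absurd h hm⟩
      intro h
      have := congrFun h ⟨0, hn⟩
      simp at this
  obtain ⟨y, hy, hyd, hyc⟩ := hS v
  have hy0 : ∃ i, (y i).coeff m₀ ≠ 0 := by
    by_contra h
    push Not at h
    apply hv0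
    funext i
    rw [← hyc i, h i]
    rfl
  have hv' : ∀ z ∈ Lt, (∀ i, (z i).natDegree ≤ m₀ - 1) → 1 ≤ m₀ →
      (fun i => (z i).coeff (m₀ - 1)) ≠ fun i => (y i).coeff m₀ := by
    intro z hz hzd hm h
    apply hv z hz hzd hm
    rw [h]
    funext i
    exact hyc i
  -- basis of Lt
  obtain ⟨r, bs⟩ := Submodule.basisOfPid (Pi.basisFun k[X] (Fin n)) Lt
  let c := bs.repr ⟨y, hy⟩
  let I : Ideal k[X] := Ideal.span (Set.range c)
  have hIp : I.IsPrincipal := inferInstance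
  obtain ⟨d, hd⟩ := hIp.principal
  have hcd : ∀ j, ∃ c' : k[X], c j = d * c' := by
    intro j
    have : c j ∈ I := Ideal.subset_span ⟨j, rfl⟩
    rw [hd] at this
    obtain ⟨c', hc'⟩ := Submodule.mem_span_singleton.mp this
    exact ⟨c', by rw [← hc', smul_eq_mul, mul_comm]⟩
  choose c' hc' using hcd
  let z : Lt := ∑ j, c' j • bs j
  have hyz : (⟨y, hy⟩ : Lt) = d • z := by
    rw [← bs.sum_repr ⟨y, hy⟩, Finset.smul_sum]
    refine Finset.sum_congr rfl fun j _ => ?_
    rw [smul_smul, ← hc' j]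
  have hdu : IsUnit d := not_dvd_aux y hyd hv' hy0 d z.1 z.2 (by
    have := congrArg Subtype.val hyz
    simpa using this)
  have h1 : (1 : k[X]) ∈ I := by
    rw [hd]
    exact Submodule.mem_span_singleton.mpr ⟨↑hdu.unit⁻¹, by simp⟩
  obtain ⟨a, ha⟩ := (Ideal.mem_span_range_iff_exists_fun).mp h1
  refine ⟨m₀, y, hy, ∑ j, a j • bs.coord j, fun M hM => surj_of_le hS hM, hyd, hy0, ?_⟩
  rw [LinearMap.sum_apply, ← ha]
  refine Finset.sum_congr rfl fun j _ => ?_
  rw [LinearMap.smul_apply, Module.Basis.coord_apply, smul_eq_mul]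

end Field

end H9Hor
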