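import Mathlib

set_option linter.unusedSectionVars false

open TensorProduct

namespace H9Hor.Glue

section Pullback
variable {B : Type*} [CommRing B]
variable {M₁ M₂ M₁₂ : Type*} [AddCommGroup M₁] [Module B M₁] [AddCommGroup M₂] [Module B M₂]
  [AddCommGroup M₁₂] [Module B M₁₂]
variable (a₁ : M₁ →ₗ[B] M₁₂) (a₂ : M₂ →ₗ[B] M₁₂)

/-- the glued module: the pullback of `a₁` and `a₂` -/
def glue : Submodule B (M₁ × M₂) :=
  LinearMap.eqLocus (a₁ ∘ₗ LinearMap.fst B M₁ M₂) (a₂ ∘ₗ LinearMap.snd B M₁ M₂)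

theorem mem_glue {x : M₁ × M₂} : x ∈ glue a₁ a₂ ↔ a₁ x.1 = a₂ x.2 := Iff.rfl

/-- first projection -/
def pr₁ : glue a₁ a₂ →ₗ[B] M₁ := LinearMap.fst B M₁ M₂ ∘ₗ (glue a₁ a₂).subtype

/-- second projection -/
def pr₂ : glue a₁ a₂ →ₗ[B] M₂ := LinearMap.snd B M₁ M₂ ∘ₗ (glue a₁ a₂).subtype

theorem pr₁_apply (n : glue a₁ a₂) : pr₁ a₁ a₂ n = n.1.1 := rfl
theorem pr₂_apply (n : glue a₁ a₂) : pr₂ a₁ a₂ n = n.1.2 := rfl

theorem isLocalizedModule_pr₁ (S₁ : Submonoid B) [IsLocalizedModule S₁ a₂]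
    (h₁ : ∀ s : S₁, IsUnit (algebraMap B (Module.End B M₁) s)) :
    IsLocalizedModule S₁ (pr₁ a₁ a₂) where
  map_units := h₁
  surj y := by
    obtain ⟨⟨x₂, s⟩, hs⟩ := IsLocalizedModule.surj S₁ a₂ (a₁ y)
    refine ⟨(⟨(s • y, x₂), ?_⟩, s), rfl⟩
    rw [mem_glue]
    change a₁ (s • y) = a₂ x₂
    rw [← hs]
    exact map_smul a₁ (s : B) y
  exists_of_eq {n n'} h := by
    have h1 : n.1.1 = n'.1.1 := h
    have h2 : a₂ n.1.2 = a₂ n'.1.2 := by
      rw [← (mem_glue a₁ a₂).mp n.2, ← (mem_glue a₁ a₂).mp n'.2, h1]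
    obtain ⟨c, hc⟩ := IsLocalizedModule.exists_of_eq (S := S₁) (f := a₂) h2
    refine ⟨c, Subtype.ext (Prod.ext ?_ ?_)⟩
    · change c • n.1.1 = c • n'.1.1
      rw [h1]
    · exact hc

theorem isLocalizedModule_pr₂ (S₂ : Submonoid B) [IsLocalizedModule S₂ a₁]
    (h₂ : ∀ s : S₂, IsUnit (algebraMap B (Module.End B M₂) s)) :
    IsLocalizedModule S₂ (pr₂ a₁ a₂) where
  map_units := h₂
  surj y := by
    obtain ⟨⟨x₁, s⟩, hs⟩ := IsLocalizedModule.surj S₂ a₁ (a₂ y)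
    refine ⟨(⟨(x₁, s • y), ?_⟩, s), rfl⟩
    rw [mem_glue]
    change a₁ x₁ = a₂ (s • y)
    rw [← hs]
    exact (map_smul a₂ (s : B) y).symm
  exists_of_eq {n n'} h := by
    have h1 : n.1.2 = n'.1.2 := h
    have h2 : a₁ n.1.1 = a₁ n'.1.1 := by
      rw [(mem_glue a₁ a₂).mp n.2, (mem_glue a₁ a₂).mp n'.2, h1]
    obtain ⟨c, hc⟩ := IsLocalizedModule.exists_of_eq (S := S₂) (f := a₁) h2
    refine ⟨c, Subtype.ext (Prod.ext ?_ ?_)⟩
    · exact hc
    · change c • n.1.2 = c • n'.1.2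
      rw [h1]

end Pullback

section FG
variable {B : Type*} [CommRing B]

/-- one-sided finite generation up to multiples from `S` -/
theorem exists_finset_smul_mem_span (S : Submonoid B) {M : Type*} [AddCommGroup M] [Module B M]
    {B₁ : Type*} [CommRing B₁] [Algebra B B₁] [IsLocalization S B₁]
    {N₁ : Type*} [AddCommGroup N₁] [Module B N₁] [Module B₁ N₁] [IsScalarTower B B₁ N₁]
    (g₁ : M →ₗ[B] N₁) [IsLocalizedModule S g₁] [Module.Finite B₁ N₁] :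
    ∃ T : Finset M, ∀ x : M, ∃ s : S, s • x ∈ Submodule.span B (T : Set M) := by
  classical
  obtain ⟨T', hT'⟩ := (Module.Finite.fg_top : (⊤ : Submodule B₁ N₁).FG)
  choose xs hxs using fun y => IsLocalizedModule.surj S g₁ y
  refine ⟨T'.image fun y => (xs y).1, fun x => ?_⟩
  have hspan : Submodule.span B₁ (g₁ '' ((T'.image fun y => (xs y).1 : Finset M) : Set M)) = ⊤ := by
    rw [eq_top_iff, ← hT', Submodule.span_le]
    intro y hy
    have h1 : g₁ (xs y).1 ∈ Submodule.span B₁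
        (g₁ '' ((T'.image fun y => (xs y).1 : Finset M) : Set M)) :=
      Submodule.subset_span ⟨_, Finset.mem_coe.mpr (Finset.mem_image_of_mem _ hy), rfl⟩
    obtain ⟨u, hu⟩ := IsLocalization.map_units B₁ (xs y).2
    have h2 : y = (↑u⁻¹ : B₁) • g₁ (xs y).1 := by
      rw [← hxs y, Submonoid.smul_def, ← algebraMap_smul B₁ ((xs y).2 : B) y, ← hu, smul_smul,
        Units.inv_mul, one_smul]
    rw [h2]
    exact Submodule.smul_mem _ _ h1
  have hx : g₁ x ∈ Submodule.span B₁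
      (g₁ '' ((T'.image fun y => (xs y).1 : Finset M) : Set M)) := by rw [hspan]; trivial
  obtain ⟨t, ht⟩ := multiple_mem_span_of_mem_localization_span S B₁ _ _ hx
  rw [← Submodule.map_span] at ht
  obtain ⟨z, hz, hzx⟩ := ht
  have h3 : g₁ z = g₁ (t • x) := by
    rw [hzx, Submonoid.smul_def, Submonoid.smul_def, map_smul]
  obtain ⟨c, hc⟩ := IsLocalizedModule.exists_of_eq (S := S) (f := g₁) h3
  refine ⟨c * t, ?_⟩
  rw [mul_smul, ← hc]
  exact Submodule.smul_mem _ _ hz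

theorem finite_of_two_localizations (S₁ S₂ : Submonoid B)
    (hcop : ∀ s₁ ∈ S₁, ∀ s₂ ∈ S₂, IsCoprime s₁ s₂)
    {M : Type*} [AddCommGroup M] [Module B M]
    {B₁ : Type*} [CommRing B₁] [Algebra B B₁] [IsLocalization S₁ B₁]
    {N₁ : Type*} [AddCommGroup N₁] [Module B N₁] [Module B₁ N₁] [IsScalarTower B B₁ N₁]
    (g₁ : M →ₗ[B] N₁) [IsLocalizedModule S₁ g₁] [Module.Finite B₁ N₁]
    {B₂ : Type*} [CommRing B₂] [Algebra B B₂] [IsLocalization S₂ B₂]
    {N₂ : Type*} [AddCommGroup N₂] [Module B N₂] [Module B₂ N₂] [IsScalarTower B B₂ N₂]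
    (g₂ : M →ₗ[B] N₂) [IsLocalizedModule S₂ g₂] [Module.Finite B₂ N₂] :
    Module.Finite B M := by
  classical
  obtain ⟨T₁, hT₁⟩ := exists_finset_smul_mem_span S₁ (B₁ := B₁) g₁
  obtain ⟨T₂, hT₂⟩ := exists_finset_smul_mem_span S₂ (B₁ := B₂) g₂
  refine ⟨⟨T₁ ∪ T₂, eq_top_iff.mpr fun x _ => ?_⟩⟩
  obtain ⟨s₁, h₁⟩ := hT₁ x
  obtain ⟨s₂, h₂⟩ := hT₂ x
  obtain ⟨a, b, hab⟩ := hcop s₁ s₁.2 s₂ s₂.2
  have hx : x = a • (s₁ • x) + b • (s₂ • x) := by
    rw [Submonoid.smul_def, Submonoid.smul_def, smul_smul, smul_smul, ← add_smul, hab, one_smul]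
  rw [hx]
  refine Submodule.add_mem _ (Submodule.smul_mem _ _ ?_) (Submodule.smul_mem _ _ ?_)
  · exact Submodule.span_mono (by simp) h₁
  · exact Submodule.span_mono (by simp) h₂

end FG

section FP
variable {B : Type*} [CommRing B]

/-- the kernel of a presentation localizes to a finitely generated module -/
theorem exists_localization_ker (S : Submonoid B) {M : Type*} [AddCommGroup M] [Module B M]
    {B₁ : Type*} [CommRing B₁] [Algebra B B₁] [IsLocalization S B₁]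
    {N₁ : Type*} [AddCommGroup N₁] [Module B N₁] [Module B₁ N₁] [IsScalarTower B B₁ N₁]
    (g₁ : M →ₗ[B] N₁) [IsLocalizedModule S g₁] [Module.FinitePresentation B₁ N₁]
    {k : ℕ} (π : (Fin k → B) →ₗ[B] M) (hπ : Function.Surjective π) :
    ∃ (K₁ : Submodule B₁ (Fin k → B₁)) (κ : LinearMap.ker π →ₗ[B] K₁),
      IsLocalizedModule S κ ∧ Module.Finite B₁ K₁ := by
  let ι₁ : (Fin k → B) →ₗ[B] (Fin k → B₁) :=
    LinearMap.pi fun i => Algebra.linearMap B B₁ ∘ₗ LinearMap.proj i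
  haveI : IsLocalizedModule S ι₁ := IsLocalizedModule.pi S fun _ => Algebra.linearMap B B₁
  let π₁ := (IsLocalizedModule.map S ι₁ g₁ π).extendScalarsOfIsLocalization S B₁
  have hπ₁ : Function.Surjective π₁ := IsLocalizedModule.map_surjective S ι₁ g₁ π hπ
  refine ⟨(LinearMap.ker π).localized' B₁ S ι₁, Submodule.toLocalized' B₁ S ι₁ (LinearMap.ker π),
    inferInstance, ?_⟩
  rw [LinearMap.localized'_ker_eq_ker_localizedMap B₁ S ι₁ g₁ π, Module.Finite.iff_fg]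
  exact Module.FinitePresentation.fg_ker π₁ hπ₁

theorem finitePresentation_of_two_localizations (S₁ S₂ : Submonoid B)
    (hcop : ∀ s₁ ∈ S₁, ∀ s₂ ∈ S₂, IsCoprime s₁ s₂)
    {M : Type*} [AddCommGroup M] [Module B M]
    {B₁ : Type*} [CommRing B₁] [Algebra B B₁] [IsLocalization S₁ B₁]
    {N₁ : Type*} [AddCommGroup N₁] [Module B N₁] [Module B₁ N₁] [IsScalarTower B B₁ N₁]
    (g₁ : M →ₗ[B] N₁) [IsLocalizedModule S₁ g₁] [Module.FinitePresentation B₁ N₁]
    {B₂ : Type*} [CommRing B₂] [Algebra B B₂] [IsLocalization S₂ B₂]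
    {N₂ : Type*} [AddCommGroup N₂] [Module B N₂] [Module B₂ N₂] [IsScalarTower B B₂ N₂]
    (g₂ : M →ₗ[B] N₂) [IsLocalizedModule S₂ g₂] [Module.FinitePresentation B₂ N₂] :
    Module.FinitePresentation B M := by
  haveI : Module.Finite B M :=
    finite_of_two_localizations S₁ S₂ hcop (B₁ := B₁) g₁ (B₂ := B₂) g₂
  obtain ⟨k, π, hπ⟩ := Module.Finite.exists_fin' B M
  obtain ⟨K₁, κ₁, h₁, hf₁⟩ := exists_localization_ker S₁ (B₁ := B₁) g₁ π hπ
  obtain ⟨K₂, κ₂, h₂, hf₂⟩ := exists_localization_ker S₂ (B₁ := B₂) g₂ π hπ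
  haveI : Module.Finite B (LinearMap.ker π) :=
    finite_of_two_localizations S₁ S₂ hcop (B₁ := B₁) κ₁ (B₂ := B₂) κ₂
  exact Module.finitePresentation_of_free_of_surjective π hπ
    (Module.Finite.iff_fg.mp inferInstance)

end FP

section Proj
variable {B : Type*} [CommRing B]

/-- primes avoiding `S` lie in the free locus if the localization at `S` is projective -/
theorem mem_freeLocus_of_disjoint (S : Submonoid B) {M : Type*} [AddCommGroup M] [Module B M]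
    {B₁ : Type*} [CommRing B₁] [Algebra B B₁] [IsLocalization S B₁]
    {N₁ : Type*} [AddCommGroup N₁] [Module B N₁] [Module B₁ N₁] [IsScalarTower B B₁ N₁]
    (g₁ : M →ₗ[B] N₁) [IsLocalizedModule S g₁] [Module.Finite B₁ N₁] [Module.Projective B₁ N₁]
    (𝔮 : PrimeSpectrum B) (h𝔮 : Disjoint (S : Set B) 𝔮.asIdeal) :
    𝔮 ∈ Module.freeLocus B M := by
  have hmem : 𝔮 ∈ Set.range (PrimeSpectrum.comap (algebraMap B B₁)) := by
    rw [PrimeSpectrum.localization_comap_range B₁ S]; exact h𝔮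
  obtain ⟨𝔮₁, rfl⟩ := hmem
  haveI : IsLocalization.AtPrime (Localization.AtPrime 𝔮₁.asIdeal)
      (PrimeSpectrum.comap (algebraMap B B₁) 𝔮₁).asIdeal :=
    IsLocalization.isLocalization_isLocalization_atPrime_isLocalization S
      (Localization.AtPrime 𝔮₁.asIdeal) 𝔮₁.asIdeal
  rw [Module.mem_freeLocus_iff_tensor _ (Localization.AtPrime 𝔮₁.asIdeal)]
  have hbc : IsBaseChange B₁ g₁ := (isLocalizedModule_iff_isBaseChange S B₁ g₁).mp inferInstance
  let e : Localization.AtPrime 𝔮₁.asIdeal ⊗[B] M ≃ₗ[Localization.AtPrime 𝔮₁.asIdeal]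
      Localization.AtPrime 𝔮₁.asIdeal ⊗[B₁] N₁ :=
    (TensorProduct.AlgebraTensorModule.cancelBaseChange B B₁ (Localization.AtPrime 𝔮₁.asIdeal)
      (Localization.AtPrime 𝔮₁.asIdeal) M).symm ≪≫ₗ
    TensorProduct.AlgebraTensorModule.congr
      (LinearEquiv.refl (Localization.AtPrime 𝔮₁.asIdeal) (Localization.AtPrime 𝔮₁.asIdeal))
      hbc.equiv
  haveI : Module.Free (Localization.AtPrime 𝔮₁.asIdeal)
      (Localization.AtPrime 𝔮₁.asIdeal ⊗[B₁] N₁) := Module.free_of_flat_of_isLocalRing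
  exact Module.Free.of_equiv e.symm

theorem projective_of_two_localizations (S₁ S₂ : Submonoid B)
    (hcop : ∀ s₁ ∈ S₁, ∀ s₂ ∈ S₂, IsCoprime s₁ s₂)
    {M : Type*} [AddCommGroup M] [Module B M]
    {B₁ : Type*} [CommRing B₁] [Algebra B B₁] [IsLocalization S₁ B₁]
    {N₁ : Type*} [AddCommGroup N₁] [Module B N₁] [Module B₁ N₁] [IsScalarTower B B₁ N₁]
    (g₁ : M →ₗ[B] N₁) [IsLocalizedModule S₁ g₁] [Module.Finite B₁ N₁] [Module.Projective B₁ N₁]
    {B₂ : Type*} [CommRing B₂] [Algebra B B₂] [IsLocalization S₂ B₂]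
    {N₂ : Type*} [AddCommGroup N₂] [Module B N₂] [Module B₂ N₂] [IsScalarTower B B₂ N₂]
    (g₂ : M →ₗ[B] N₂) [IsLocalizedModule S₂ g₂] [Module.Finite B₂ N₂] [Module.Projective B₂ N₂] :
    Module.Finite B M ∧ Module.Projective B M := by
  haveI : Module.FinitePresentation B₁ N₁ := Module.finitePresentation_of_projective B₁ N₁
  haveI : Module.FinitePresentation B₂ N₂ := Module.finitePresentation_of_projective B₂ N₂
  haveI : Module.FinitePresentation B M :=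
    finitePresentation_of_two_localizations S₁ S₂ hcop (B₁ := B₁) g₁ (B₂ := B₂) g₂
  refine ⟨inferInstance, Module.freeLocus_eq_univ_iff.mp (Set.eq_univ_iff_forall.mpr fun 𝔮 => ?_)⟩
  by_cases h : Disjoint (S₁ : Set B) 𝔮.asIdeal
  · exact mem_freeLocus_of_disjoint S₁ (B₁ := B₁) g₁ 𝔮 h
  · refine mem_freeLocus_of_disjoint S₂ (B₁ := B₂) g₂ 𝔮 ?_
    rw [Set.not_disjoint_iff] at h
    obtain ⟨s₁, hs₁, hs₁'⟩ := h
    rw [Set.disjoint_left]
    intro s₂ hs₂ hs₂'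
    obtain ⟨a, b, hab⟩ := hcop s₁ hs₁ s₂ hs₂
    apply 𝔮.2.ne_top
    rw [Ideal.eq_top_iff_one, ← hab]
    exact Ideal.add_mem _ (Ideal.mul_mem_left _ _ hs₁') (Ideal.mul_mem_left _ _ hs₂')

end Proj

end H9Hor.Glue
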