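import Mathlib
import Groth.Agent.Lib.Helper9.Hor.Glue

set_option linter.unusedSectionVars false

open Polynomial LaurentPolynomial TensorProduct

namespace H9Hor.GlueP1

section Generic

/-- tensoring a ring localization with a module gives a module localization -/
theorem isLocalizedModule_tensor {A B : Type*} [CommRing A] [CommRing B] [Algebra A B]
    (S : Submonoid B) (R₁ R₂ : Type*) [CommRing R₁] [CommRing R₂] [Algebra B R₁] [Algebra B R₂]
    [Algebra R₁ R₂] [IsScalarTower B R₁ R₂] [Algebra A R₁] [Algebra A R₂] [IsScalarTower A B R₁]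
    [IsScalarTower A B R₂] [IsScalarTower A R₁ R₂]
    [IsLocalization (Algebra.algebraMapSubmonoid R₁ S) R₂] (P : Type*) [AddCommGroup P]
    [Module A P] :
    IsLocalizedModule S ((TensorProduct.AlgebraTensorModule.map (Algebra.linearMap R₁ R₂)
      (LinearMap.id : P →ₗ[A] P)).restrictScalars B) := by
  haveI : IsLocalizedModule (Algebra.algebraMapSubmonoid R₁ S)
      (TensorProduct.AlgebraTensorModule.map (Algebra.linearMap R₁ R₂)
        (LinearMap.id : P →ₗ[A] P)) := by
    rw [isLocalizedModule_iff_isBaseChange (Algebra.algebraMapSubmonoid R₁ S) R₂]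
    refine IsBaseChange.of_equiv
      (TensorProduct.AlgebraTensorModule.cancelBaseChange A R₁ R₂ R₂ P) fun x => ?_
    induction x using TensorProduct.induction_on with
    | zero => simp
    | tmul r p => simp [Algebra.smul_def]
    | add x y hx hy => rw [TensorProduct.tmul_add, map_add, hx, hy, map_add]
  exact IsLocalizedModule.restrictScalars S _

/-- elements mapping to units act invertibly -/
theorem isUnit_algebraMap_end {B : Type*} [CommRing B] (B₁ : Type*) [CommRing B₁] [Algebra B B₁]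
    (M : Type*) [AddCommGroup M] [Module B M] [Module B₁ M] [IsScalarTower B B₁ M] (s : B)
    (hs : IsUnit (algebraMap B B₁ s)) : IsUnit (algebraMap B (Module.End B M) s) := by
  rw [← (Algebra.lsmul B (A := B₁) B M).commutes]
  exact hs.map _

end Generic

section Rings
variable (A : Type*) [CommRing A]

/-- polynomials with constant coefficient `1` -/
noncomputable def S : Submonoid A[X] := MonoidHom.mker ((constantCoeff : A[X] →+* A) : A[X] →* A)

variable {A} in
theorem mem_S {p : A[X]} : p ∈ S A ↔ p.coeff 0 = 1 := by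
  simp [S, MonoidHom.mem_mker]

theorem isCoprime_of_mem (s₁ : A[X]) (h₁ : s₁ ∈ Submonoid.powers (X : A[X])) (s₂ : A[X])
    (h₂ : s₂ ∈ S A) : IsCoprime s₁ s₂ := by
  obtain ⟨k, rfl⟩ := h₁
  apply IsCoprime.pow_left
  refine ⟨-(divX s₂), 1, ?_⟩
  have := divX_mul_X_add s₂
  rw [mem_S.mp h₂] at this
  rw [neg_mul, one_mul]
  nth_rewrite 2 [← this]
  simp

/-- `B₂`, the localization of `A[X]` at `S` -/
abbrev B₂ := Localization (S A)

/-- `B₁₂`, the localization of the Laurent ring at `S` -/
abbrev B₁₂ := Localization (Algebra.algebraMapSubmonoid A[T;T⁻¹] (S A))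

instance : IsLocalization (Algebra.algebraMapSubmonoid (B₂ A) (Submonoid.powers (X : A[X])))
    (B₁₂ A) :=
  IsLocalization.commutes (B₂ A) A[T;T⁻¹] (B₁₂ A) (S A) (Submonoid.powers (X : A[X]))

end Rings

section Kappa
variable (A : Type*) [CommRing A]

/-- `X ↦ T⁻¹` into `B₁₂` -/
noncomputable def ψ : A[X] →+* B₁₂ A :=
  (algebraMap A[T;T⁻¹] (B₁₂ A)).comp
    ((LaurentPolynomial.invert (R := A)).toRingEquiv.toRingHom.comp (toLaurent (R := A)))

theorem ψ_apply (p : A[X]) : ψ A p = algebraMap A[T;T⁻¹] (B₁₂ A) (invert (toLaurent p)) := rfl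

theorem invert_toLaurent (g : A[X]) :
    invert (toLaurent g) = toLaurent g.reverse * T (-(g.natDegree : ℤ)) := by
  rw [toLaurent_reverse, mul_assoc, ← T_add, add_neg_cancel, T_zero, mul_one]

theorem isUnit_ψ (g : A[X]) (hg : g.Monic) : IsUnit (ψ A g) := by
  rw [ψ_apply, invert_toLaurent, map_mul]
  refine IsUnit.mul ?_ ((isUnit_T _).map _)
  have hmem : g.reverse ∈ S A := by
    rw [mem_S, coeff_zero_reverse]; exact hg
  exact IsLocalization.map_units (B₁₂ A)
    (⟨algebraMap A[X] A[T;T⁻¹] g.reverse, ⟨g.reverse, hmem, rfl⟩⟩ :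
      Algebra.algebraMapSubmonoid A[T;T⁻¹] (S A))

variable (M : Submonoid A[X]) (hM : ∀ f : A[X], f ∈ M ↔ f.Monic)
    (At : Type*) [CommRing At] [Algebra A[X] At] [IsLocalization M At]

/-- the comparison map from the localization at monic polynomials -/
noncomputable def κ : At →+* B₁₂ A :=
  IsLocalization.lift (M := M) (g := ψ A) fun y => isUnit_ψ A y ((hM y).mp y.2)

theorem κ_algebraMap (p : A[X]) : κ A M hM At (algebraMap A[X] At p) = ψ A p :=
  IsLocalization.lift_eq _ _

theorem κ_algebraMap_C [Algebra A At] [IsScalarTower A A[X] At] (a : A) :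
    κ A M hM At (algebraMap A At a) = algebraMap A (B₁₂ A) a := by
  rw [IsScalarTower.algebraMap_apply A A[X] At, κ_algebraMap, ψ_apply,
    Polynomial.algebraMap_apply, Algebra.algebraMap_self_apply, Polynomial.toLaurent_C]
  have : invert (LaurentPolynomial.C a : A[T;T⁻¹]) = LaurentPolynomial.C a := by
    exact congrFun (invert_comp_C (R := A)) a
  rw [this]
  rw [IsScalarTower.algebraMap_apply A A[T;T⁻¹] (B₁₂ A)]
  rfl

end Kappa

section Towers
variable (A : Type*) [CommRing A]

instance instTowerLaurent : IsScalarTower A A[X] A[T;T⁻¹] :=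
  IsScalarTower.of_algebraMap_eq fun a => by
    rw [LaurentPolynomial.algebraMap_eq_toLaurent, Polynomial.algebraMap_apply,
      Algebra.algebraMap_self_apply, Polynomial.toLaurent_C]
    rfl

instance instTowerB₁₂ : IsScalarTower A A[X] (B₁₂ A) :=
  IsScalarTower.of_algebraMap_eq (R := A) (S := A[X]) (A := B₁₂ A) fun a => by
    rw [IsScalarTower.algebraMap_apply A A[T;T⁻¹] (B₁₂ A),
      IsScalarTower.algebraMap_apply A[X] A[T;T⁻¹] (B₁₂ A),
      IsScalarTower.algebraMap_apply A A[X] A[T;T⁻¹]]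

instance instTowerB₂B₁₂ : IsScalarTower A (B₂ A) (B₁₂ A) :=
  IsScalarTower.of_algebraMap_eq (R := A) (S := B₂ A) (A := B₁₂ A) fun a => by
    rw [IsScalarTower.algebraMap_apply A A[X] (B₂ A),
      ← IsScalarTower.algebraMap_apply A[X] (B₂ A) (B₁₂ A),
      ← IsScalarTower.algebraMap_apply A A[X] (B₁₂ A)]

end Towers

section Data
universe u
variable (A : Type u) [CommRing A] (M : Submonoid A[X]) (hM : ∀ f : A[X], f ∈ M ↔ f.Monic)
    (At : Type u) [CommRing At] [Algebra A[X] At] [IsLocalization M At]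
    [Algebra A At] [IsScalarTower A A[X] At]
    (P P' : Type u) [AddCommGroup P] [Module A P] [AddCommGroup P'] [Module A P']
    (φ : (At ⊗[A] P) ≃ₗ[At] (At ⊗[A] P'))

/-- base change of `φ` to `B₁₂` -/
noncomputable def φ' : (B₁₂ A ⊗[A] P) ≃ₗ[B₁₂ A] (B₁₂ A ⊗[A] P') := by
  letI : Algebra At (B₁₂ A) := (κ A M hM At).toAlgebra
  haveI : IsScalarTower A At (B₁₂ A) :=
    IsScalarTower.of_algebraMap_eq fun a => (κ_algebraMap_C A M hM At a).symm
  exact (TensorProduct.AlgebraTensorModule.cancelBaseChange A At (B₁₂ A) (B₁₂ A) P).symm ≪≫ₗ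
    TensorProduct.AlgebraTensorModule.congr (LinearEquiv.refl (B₁₂ A) (B₁₂ A)) φ ≪≫ₗ
    TensorProduct.AlgebraTensorModule.cancelBaseChange A At (B₁₂ A) (B₁₂ A) P'

attribute [irreducible] φ'

/-- the chart near `X ≠ 0` mapped to the overlap -/
noncomputable def a₁ : (A[T;T⁻¹] ⊗[A] P) →ₗ[A[X]] (B₁₂ A ⊗[A] P') :=
  ((φ' A M hM At P P' φ).restrictScalars A[X]).toLinearMap ∘ₗ
    ((TensorProduct.AlgebraTensorModule.map (Algebra.linearMap A[T;T⁻¹] (B₁₂ A))
      (LinearMap.id : P →ₗ[A] P)).restrictScalars A[X])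

/-- the chart near `X = 0` mapped to the overlap -/
noncomputable def a₂ : (B₂ A ⊗[A] P') →ₗ[A[X]] (B₁₂ A ⊗[A] P') :=
  (TensorProduct.AlgebraTensorModule.map (Algebra.linearMap (B₂ A) (B₁₂ A))
    (LinearMap.id : P' →ₗ[A] P')).restrictScalars A[X]

instance : IsLocalizedModule (S A) (a₁ A M hM At P P' φ) := by
  have := isLocalizedModule_tensor (A := A) (S A) A[T;T⁻¹] (B₁₂ A) P
  exact IsLocalizedModule.of_linearEquiv (S A) _ ((φ' A M hM At P P' φ).restrictScalars A[X])

instance : IsLocalizedModule (Submonoid.powers (X : A[X])) (a₂ A P') :=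
  isLocalizedModule_tensor (A := A) (Submonoid.powers (X : A[X])) (B₂ A) (B₁₂ A) P'

end Data


end H9Hor.GlueP1
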