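import Mathlib
import Groth.Agent.Lib.Helper9.Hor.Field

open Polynomial

namespace H9Hor

section Local
variable {R : Type*} [CommRing R] [IsLocalRing R] {n : ℕ}

instance instSurjMapResidue : RingHomSurjective (mapRingHom (IsLocalRing.residue R)) :=
  ⟨map_surjective _ IsLocalRing.residue_surjective⟩

/-- reduction modulo the maximal ideal, coordinatewise and coefficientwise -/
noncomputable def red : (Fin n → R[X]) →ₛₗ[mapRingHom (IsLocalRing.residue R)]
    (Fin n → (IsLocalRing.ResidueField R)[X]) where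
  toFun x i := (x i).map (IsLocalRing.residue R)
  map_add' x y := by funext i; simp
  map_smul' p x := by funext i; simp

@[simp] theorem red_apply (x : Fin n → R[X]) (i : Fin n) :
    red x i = (x i).map (IsLocalRing.residue R) := rfl

/-- the reduction of a lattice -/
noncomputable def Lt (L : Submodule R[X] (Fin n → R[X])) :
    Submodule (IsLocalRing.ResidueField R)[X] (Fin n → (IsLocalRing.ResidueField R)[X]) :=
  L.map red

/-- lifting property in degree `M` -/
def LiftA (L : Submodule R[X] (Fin n → R[X])) (M : ℕ) : Prop :=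
  ∀ y ∈ Lt L, (∀ i, (y i).natDegree ≤ M) → ∃ x ∈ L, (∀ i, (x i).natDegree ≤ M) ∧ red x = y

/-- surjectivity of the leading coefficient map in degree `M` -/
def SurjB (L : Submodule R[X] (Fin n → R[X])) (M : ℕ) : Prop :=
  ∀ w : Fin n → R, ∃ x ∈ L, (∀ i, (x i).natDegree ≤ M) ∧ ∀ i, (x i).coeff M = w i

theorem surjB_of_le {L : Submodule R[X] (Fin n → R[X])} {g : R[X]} (hg : g.Monic)
    (hL : ∀ v : Fin n → R[X], g • v ∈ L) {M : ℕ} (hM : g.natDegree ≤ M) : SurjB L M := by
  obtain ⟨d, rfl⟩ := Nat.exists_eq_add_of_le hM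
  intro w
  have h1 : ∀ i, (X ^ d * C (w i)).natDegree ≤ d := fun i => by
    refine natDegree_mul_le.trans ?_
    rw [natDegree_C, add_zero]
    exact natDegree_X_pow_le _
  refine ⟨g • (fun i => X ^ d * C (w i)), hL _, fun i => ?_, fun i => ?_⟩
  · simp only [Pi.smul_apply, smul_eq_mul]
    exact natDegree_mul_le.trans (Nat.add_le_add_left (h1 i) _)
  · simp only [Pi.smul_apply, smul_eq_mul]
    rw [coeff_mul_add_eq_of_natDegree_le le_rfl (h1 i), hg.coeff_natDegree, one_mul, coeff_mul_C,
      coeff_X_pow, if_pos rfl, one_mul]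


theorem liftA_of_le {L : Submodule R[X] (Fin n → R[X])} {g : R[X]} (hg : g.Monic)
    (hL : ∀ v : Fin n → R[X], g • v ∈ L) {M : ℕ} (hM : g.natDegree ≤ M) : LiftA L M := by
  obtain ⟨d, rfl⟩ := Nat.exists_eq_add_of_le hM
  rintro y ⟨x₀, hx₀, rfl⟩ hyd
  have hXm : (X ^ (d + 1) : R[X]).Monic := monic_X_pow _
  have hXm' : (X ^ (d + 1) : (IsLocalRing.ResidueField R)[X]).Monic := monic_X_pow _
  have hgm' : (g.map (IsLocalRing.residue R)).Monic := hg.map _
  have hge' : (g.map (IsLocalRing.residue R)).natDegree = g.natDegree := hg.natDegree_map _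
  let b : Fin n → R[X] := fun i => x₀ i /ₘ g
  let c : Fin n → R[X] := fun i => x₀ i %ₘ g
  have hx₀i : ∀ i, c i + g * b i = x₀ i := fun i => modByMonic_add_div (x₀ i) g
  have hc : c ∈ L := by
    have : c = x₀ - g • b := by
      funext i
      simp only [Pi.sub_apply, Pi.smul_apply, smul_eq_mul]
      rw [← hx₀i i]; ring
    rw [this]
    exact L.sub_mem hx₀ (hL _)
  have hcd : ∀ i, (c i).degree < g.natDegree := fun i => by
    have := degree_modByMonic_lt (x₀ i) hg
    rwa [degree_eq_natDegree hg.ne_zero] at this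
  have hcd' : ∀ i, ((c i).map (IsLocalRing.residue R)).degree < g.natDegree := fun i =>
    (degree_map_le).trans_lt (hcd i)
  -- degree of the reduction of b
  have hbd : ∀ i, ((b i).map (IsLocalRing.residue R)).natDegree ≤ d := by
    intro i
    by_cases hb0 : (b i).map (IsLocalRing.residue R) = 0
    · rw [hb0, natDegree_zero]; exact Nat.zero_le _
    have h1 : (g.map (IsLocalRing.residue R)) * (b i).map (IsLocalRing.residue R) =
        (x₀ i).map (IsLocalRing.residue R) - (c i).map (IsLocalRing.residue R) := by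
      rw [← hx₀i i, Polynomial.map_add, Polynomial.map_mul]; ring
    have h2 : ((x₀ i).map (IsLocalRing.residue R) - (c i).map (IsLocalRing.residue R)).natDegree ≤
        g.natDegree + d := by
      refine (natDegree_sub_le _ _).trans (max_le (hyd i) ?_)
      have := natDegree_le_of_degree_le (hcd' i).le
      omega
    rw [← h1, natDegree_mul hgm'.ne_zero hb0, hge'] at h2
    omega
  let b' : Fin n → R[X] := fun i => b i %ₘ X ^ (d + 1)
  have hb'map : ∀ i, (b' i).map (IsLocalRing.residue R) = (b i).map (IsLocalRing.residue R) := by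
    intro i
    change (b i %ₘ X ^ (d + 1)).map _ = _
    rw [map_modByMonic _ hXm, Polynomial.map_pow, map_X, (modByMonic_eq_self_iff hXm').mpr]
    rw [degree_X_pow]
    refine (degree_le_natDegree).trans_lt ?_
    exact_mod_cast Nat.lt_succ_of_le (hbd i)
  have hb'd : ∀ i, (b' i).natDegree ≤ d := by
    intro i
    have h := degree_modByMonic_lt (b i) hXm
    rw [degree_X_pow] at h
    have h3 : (b' i).degree ≤ (d : WithBot ℕ) := by
      rw [degree_le_iff_coeff_zero]
      intro m hm
      have hm' : d + 1 ≤ m := by exact_mod_cast hm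
      exact (degree_lt_iff_coeff_zero _ _).mp h m hm'
    exact natDegree_le_of_degree_le h3
  refine ⟨g • b' + c, L.add_mem (hL _) hc, fun i => ?_, ?_⟩
  · simp only [Pi.add_apply, Pi.smul_apply, smul_eq_mul]
    refine (natDegree_add_le _ _).trans (max_le ?_ ?_)
    · exact natDegree_mul_le.trans (Nat.add_le_add_left (hb'd i) _)
    · have := natDegree_le_of_degree_le (hcd i).le
      omega
  · funext i
    simp only [red_apply, Pi.add_apply, Pi.smul_apply, smul_eq_mul]
    rw [Polynomial.map_add, Polynomial.map_mul, hb'map, ← hx₀i i, Polynomial.map_add,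
      Polynomial.map_mul]
    ring


theorem liftA_of_succ {L : Submodule R[X] (Fin n → R[X])} {M : ℕ}
    (hA : LiftA L (M + 1)) (hB : SurjB L (M + 1)) : LiftA L M := by
  classical
  intro y hy hyd
  obtain ⟨x, hx, hxd, hxy⟩ := hA y hy (fun i => (hyd i).trans (Nat.le_succ M))
  -- leading coefficients are in the maximal ideal
  have hw : ∀ i, IsLocalRing.residue R ((x i).coeff (M + 1)) = 0 := by
    intro i
    have h1 : (y i).coeff (M + 1) = 0 := coeff_eq_zero_of_natDegree_lt (Nat.lt_succ_of_le (hyd i))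
    rw [← hxy, red_apply, coeff_map] at h1
    exact h1
  choose z hz hzd hzc using fun j : Fin n => hB (Pi.single j 1)
  refine ⟨x - ∑ j, C ((x j).coeff (M + 1)) • z j, L.sub_mem hx
    (L.sum_mem fun j _ => L.smul_mem _ (hz j)), fun i => ?_, ?_⟩
  · rw [natDegree_le_iff_coeff_eq_zero]
    intro N hN
    rcases Nat.lt_or_ge (M + 1) N with h | h
    · simp only [Pi.sub_apply, Finset.sum_apply, Pi.smul_apply, smul_eq_mul, coeff_sub,
        finset_sum_coeff, coeff_C_mul]
      rw [coeff_eq_zero_of_natDegree_lt ((hxd i).trans_lt h), zero_sub, neg_eq_zero]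
      refine Finset.sum_eq_zero fun j _ => ?_
      rw [coeff_eq_zero_of_natDegree_lt ((hzd j i).trans_lt h), mul_zero]
    · have hN' : N = M + 1 := by omega
      subst hN'
      simp only [Pi.sub_apply, Finset.sum_apply, Pi.smul_apply, smul_eq_mul, coeff_sub,
        finset_sum_coeff, coeff_C_mul, hzc]
      rw [Finset.sum_eq_single i]
      · simp
      · intro j _ hji
        rw [Pi.single_eq_of_ne hji.symm, mul_zero]
      · intro h; exact absurd (Finset.mem_univ i) h
  · rw [map_sub, hxy, map_sum, sub_eq_self]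
    refine Finset.sum_eq_zero fun j _ => ?_
    rw [map_smulₛₗ]
    have : (mapRingHom (IsLocalRing.residue R)) (C ((x j).coeff (M + 1))) = 0 := by
      rw [coe_mapRingHom, map_C, hw j, C_0]
    rw [this, zero_smul]


theorem mem_smul_top_pi (w : Fin n → R) (hw : ∀ i, w i ∈ IsLocalRing.maximalIdeal R) :
    w ∈ IsLocalRing.maximalIdeal R • (⊤ : Submodule R (Fin n → R)) := by
  classical
  rw [pi_eq_sum_univ w]
  refine Submodule.sum_mem _ fun i _ => ?_
  exact Submodule.smul_mem_smul (hw i) Submodule.mem_top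

theorem surjB_of_liftA {L : Submodule R[X] (Fin n → R[X])} {M : ℕ}
    (hA : LiftA L M) (hS : Surj (Lt L) M) : SurjB L M := by
  classical
  let Im : Submodule R (Fin n → R) :=
    { carrier := {w | ∃ x ∈ L, (∀ i, (x i).natDegree ≤ M) ∧ ∀ i, (x i).coeff M = w i}
      add_mem' := by
        rintro w₁ w₂ ⟨x₁, h₁, d₁, c₁⟩ ⟨x₂, h₂, d₂, c₂⟩
        refine ⟨x₁ + x₂, L.add_mem h₁ h₂, fun i => ?_, fun i => ?_⟩
        · exact (natDegree_add_le _ _).trans (max_le (d₁ i) (d₂ i))
        · simp [c₁, c₂]
      zero_mem' := ⟨0, L.zero_mem, fun i => by simp, fun i => by simp⟩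
      smul_mem' := by
        rintro r w ⟨x, h, d, c⟩
        refine ⟨C r • x, L.smul_mem _ h, fun i => ?_, fun i => ?_⟩
        · simp only [Pi.smul_apply, smul_eq_mul]
          exact (natDegree_C_mul_le _ _).trans (d i)
        · simp [c] }
  have hle : (⊤ : Submodule R (Fin n → R)) ≤ Im := by
    refine Submodule.le_of_le_smul_of_le_jacobson_bot (I := IsLocalRing.maximalIdeal R)
      Module.Finite.fg_top (IsLocalRing.maximalIdeal_le_jacobson _) ?_
    intro w _
    obtain ⟨y, hy, hyd, hyc⟩ := hS (fun i => IsLocalRing.residue R (w i))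
    obtain ⟨x, hx, hxd, hxy⟩ := hA y hy hyd
    have hdiff : (w - fun i => (x i).coeff M) ∈
        IsLocalRing.maximalIdeal R • (⊤ : Submodule R (Fin n → R)) := by
      apply mem_smul_top_pi
      intro i
      rw [← IsLocalRing.residue_eq_zero_iff]
      simp only [Pi.sub_apply, map_sub]
      rw [← hyc i, ← hxy, red_apply, coeff_map, sub_self]
    have : w = (fun i => (x i).coeff M) + (w - fun i => (x i).coeff M) := by abel
    rw [this]
    exact Submodule.add_mem_sup ⟨x, hx, hxd, fun i => rfl⟩ hdiff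
  intro w
  exact hle (Submodule.mem_top : w ∈ ⊤)

/-- the descending induction -/
theorem liftA_and_surjB {L : Submodule R[X] (Fin n → R[X])} {g : R[X]} (hg : g.Monic)
    (hL : ∀ v : Fin n → R[X], g • v ∈ L) {m₀ : ℕ} (hS : ∀ M, m₀ ≤ M → Surj (Lt L) M) :
    ∀ M, m₀ ≤ M → LiftA L M ∧ SurjB L M := by
  have key : ∀ d M, m₀ ≤ M → g.natDegree ≤ M + d → LiftA L M ∧ SurjB L M := by
    intro d
    induction d with
    | zero =>
      intro M _ hM
      exact ⟨liftA_of_le hg hL hM, surjB_of_le hg hL hM⟩
    | succ d ih =>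
      intro M hM hMd
      obtain ⟨hA, hB⟩ := ih (M + 1) (by omega) (by omega)
      have hA' := liftA_of_succ hA hB
      exact ⟨hA', surjB_of_liftA hA' (hS M hM)⟩
  intro M hM
  exact key g.natDegree M hM (by omega)

end Local

end H9Hor
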