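import Mathlib
import Groth.Agent.Lib.Helper9.Hor.Field

open Polynomial

namespace H9Hor

section NN
variable {R : Type*} [CommRing R] [IsLocalRing R]

/-- Nashier–Nichols: an ideal of `R[X]` containing a monic polynomial and an element congruent
to `1` modulo the maximal ideal is the unit ideal. -/
theorem ideal_eq_top_of_monic_mem (I : Ideal R[X]) {f : R[X]} (hf : f.Monic) (hfI : f ∈ I)
    {p : R[X]} (hp : p ∈ I) (hp1 : p.map (IsLocalRing.residue R) = 1) : I = ⊤ := by
  haveI : Module.Finite R (R[X] ⧸ Ideal.span {f}) := hf.finite_adjoinRoot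
  have hle : Ideal.span {f} ≤ I := (Ideal.span_singleton_le_iff_mem I).mpr hfI
  haveI : Module.Finite R (R[X] ⧸ I) :=
    Module.Finite.of_surjective (Ideal.Quotient.factorₐ R hle).toLinearMap
      (Ideal.Quotient.factor_surjective hle)
  have htop : (⊤ : Submodule R (R[X] ⧸ I)) = ⊥ := by
    refine Submodule.eq_bot_of_le_smul_of_le_jacobson_bot (IsLocalRing.maximalIdeal R) ⊤
      Module.Finite.fg_top ?_ (IsLocalRing.maximalIdeal_le_jacobson _)
    intro q _
    obtain ⟨q, rfl⟩ := Ideal.Quotient.mk_surjective q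
    have h1 : Ideal.Quotient.mk I q = Ideal.Quotient.mk I (q * (1 - p)) := by
      rw [eq_comm, ← sub_eq_zero, ← map_sub, Ideal.Quotient.eq_zero_iff_mem]
      have : q * (1 - p) - q = - (q * p) := by ring
      rw [this]
      exact I.neg_mem (I.mul_mem_left _ hp)
    rw [h1]
    have hcoef : ∀ j, (q * (1 - p)).coeff j ∈ IsLocalRing.maximalIdeal R := by
      intro j
      rw [← IsLocalRing.residue_eq_zero_iff, ← coeff_map, Polynomial.map_mul, Polynomial.map_sub,
        Polynomial.map_one, hp1, sub_self, mul_zero, coeff_zero]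
    rw [(q * (1 - p)).as_sum_support_C_mul_X_pow, map_sum]
    refine Submodule.sum_mem _ fun j _ => ?_
    have : Ideal.Quotient.mk I (C ((q * (1 - p)).coeff j) * X ^ j) =
        ((q * (1 - p)).coeff j) • Ideal.Quotient.mk I (X ^ j) := by
      rw [map_mul, Algebra.smul_def ((q * (1 - p)).coeff j) (Ideal.Quotient.mk I (X ^ j))]
      rfl
    rw [this]
    exact Submodule.smul_mem_smul (hcoef j) Submodule.mem_top
  have hsub : Subsingleton (R[X] ⧸ I) := by
    constructor
    intro a b
    have ha : a ∈ (⊤ : Submodule R (R[X] ⧸ I)) := Submodule.mem_top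
    have hb : b ∈ (⊤ : Submodule R (R[X] ⧸ I)) := Submodule.mem_top
    rw [htop, Submodule.mem_bot] at ha hb
    rw [ha, hb]
  exact Ideal.Quotient.subsingleton_iff.mp hsub

end NN

end H9Hor
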