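import Mathlib
import Groth.Agent.Lib.Helper9.Hor.Field
import Groth.Agent.Lib.Helper9.Hor.Lift
import Groth.Agent.Lib.Helper9.Hor.NN

open Polynomial

namespace H9Hor

section Unimod
variable {R : Type*} [CommRing R] [IsLocalRing R] {n : ℕ}

theorem red_surjective : Function.Surjective (red (R := R) (n := n)) := by
  intro y
  choose x hx using fun i => map_surjective _ IsLocalRing.residue_surjective (y i)
  exact ⟨x, funext hx⟩

theorem smul_mem_Lt {L : Submodule R[X] (Fin n → R[X])} {g : R[X]}
    (hL : ∀ v : Fin n → R[X], g • v ∈ L) (v : Fin n → (IsLocalRing.ResidueField R)[X]) :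
    g.map (IsLocalRing.residue R) • v ∈ Lt L := by
  obtain ⟨v', rfl⟩ := red_surjective v
  refine ⟨g • v', hL v', ?_⟩
  rw [map_smulₛₗ]
  rfl

/-- existence of a unimodular element with a coordinate having unit leading coefficient -/
theorem exists_unimodular_lift (hn : 0 < n) (L : Submodule R[X] (Fin n → R[X]))
    [Module.Projective R[X] L] {g : R[X]} (hg : g.Monic) (hL : ∀ v : Fin n → R[X], g • v ∈ L) :
    ∃ (s : Fin n → R[X]) (hs : s ∈ L) (ψ : L →ₗ[R[X]] R[X]) (i : Fin n),
      ψ ⟨s, hs⟩ = 1 ∧ IsUnit (s i).leadingCoeff := by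
  obtain ⟨m₀, y, hy, φ, hS, hyd, ⟨i, hi⟩, hφ⟩ :=
    exists_unimodular hn (Lt L) (hg.map (IsLocalRing.residue R)) (smul_mem_Lt hL)
  obtain ⟨hA, -⟩ := liftA_and_surjB hg hL hS m₀ le_rfl
  obtain ⟨s, hs, hsd, hsy⟩ := hA y hy hyd
  -- the coordinate `i` has unit leading coefficient
  have hci : IsUnit ((s i).coeff m₀) := by
    have : IsLocalRing.residue R ((s i).coeff m₀) ≠ 0 := by
      rw [← coeff_map, ← red_apply, hsy]; exact hi
    by_contra h
    exact this ((IsLocalRing.residue_eq_zero_iff _).mpr ((IsLocalRing.mem_maximalIdeal _).mpr h))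
  have hnd : (s i).natDegree = m₀ := by
    refine le_antisymm (hsd i) ?_
    apply le_natDegree_of_ne_zero
    exact hci.ne_zero
  have hlc : IsUnit (s i).leadingCoeff := by
    rw [leadingCoeff, hnd]; exact hci
  -- lift the functional
  letI : Module R[X] (IsLocalRing.ResidueField R)[X] :=
    Module.compHom _ (mapRingHom (IsLocalRing.residue R))
  let q : R[X] →ₗ[R[X]] (IsLocalRing.ResidueField R)[X] :=
    { toFun := fun p => p.map (IsLocalRing.residue R)
      map_add' := fun a b => Polynomial.map_add _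
      map_smul' := fun a b => by
        change (a * b).map _ = (a.map _) * (b.map _)
        exact Polynomial.map_mul _ }
  have hq : Function.Surjective q := map_surjective _ IsLocalRing.residue_surjective
  let ρ : L →ₗ[R[X]] (IsLocalRing.ResidueField R)[X] :=
    { toFun := fun x => φ ⟨red x.1, ⟨x.1, x.2, rfl⟩⟩
      map_add' := fun a b => by
        rw [← map_add]
        congr 1
        apply Subtype.ext
        simp
      map_smul' := fun a b => by
        change φ ⟨red (a • b).1, _⟩ = (a.map (IsLocalRing.residue R)) • φ ⟨red b.1, ⟨b.1, b.2, rfl⟩⟩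
        rw [← map_smul]
        congr 1
        apply Subtype.ext
        simp only [Submodule.coe_smul, map_smulₛₗ]
        rfl }
  obtain ⟨ψ₀, hψ₀⟩ := Module.projective_lifting_property q ρ hq
  -- the order ideal
  let O : Ideal R[X] := LinearMap.range (LinearMap.applyₗ (⟨s, hs⟩ : L) : (L →ₗ[R[X]] R[X]) →ₗ[R[X]] R[X])
  have h1 : ψ₀ ⟨s, hs⟩ ∈ O := ⟨ψ₀, rfl⟩
  have h1' : (ψ₀ ⟨s, hs⟩).map (IsLocalRing.residue R) = 1 := by
    have := LinearMap.congr_fun hψ₀ ⟨s, hs⟩
    change (ψ₀ ⟨s, hs⟩).map (IsLocalRing.residue R) = φ ⟨red s, _⟩ at this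
    rw [this, ← hφ]
    congr 1
    exact Subtype.ext hsy
  have h2 : s i ∈ O := ⟨(LinearMap.proj i).comp L.subtype, rfl⟩
  have h2' : (hlc.unit⁻¹ • s i) ∈ O := by
    rw [Units.smul_def, ← C_mul']
    exact O.mul_mem_left _ h2
  have hO : O = ⊤ := ideal_eq_top_of_monic_mem O (monic_of_isUnit_leadingCoeff_inv_smul hlc) h2' h1 h1'
  have : (1 : R[X]) ∈ O := by rw [hO]; trivial
  obtain ⟨ψ, hψ⟩ := this
  exact ⟨s, hs, ψ, i, hψ, hlc⟩

end Unimod

section Step
variable {R : Type*} [CommRing R] {n : ℕ}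

/-- the projection killing `s` -/
noncomputable def theta (s : Fin (n + 1) → R[X]) (i : Fin (n + 1)) :
    (Fin (n + 1) → R[X]) →ₗ[R[X]] (Fin n → R[X]) where
  toFun x j := s i * x (i.succAbove j) - s (i.succAbove j) * x i
  map_add' x y := by funext j; simp only [Pi.add_apply]; ring
  map_smul' p x := by funext j; simp only [Pi.smul_apply, smul_eq_mul, RingHom.id_apply]; ring

theorem theta_self (s : Fin (n + 1) → R[X]) (i : Fin (n + 1)) : theta s i s = 0 := by
  funext j
  simp only [theta, LinearMap.coe_mk, AddHom.coe_mk, Pi.zero_apply]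
  ring

theorem induction_step (L : Submodule R[X] (Fin (n + 1) → R[X])) {g : R[X]} (hg : g.Monic)
    (hL : ∀ v : Fin (n + 1) → R[X], g • v ∈ L)
    (s : Fin (n + 1) → R[X]) (hs : s ∈ L) (ψ : L →ₗ[R[X]] R[X]) (i : Fin (n + 1))
    (hψ : ψ ⟨s, hs⟩ = 1) (hu : IsUnit (s i).leadingCoeff) :
    ∃ (L'' : Submodule R[X] (Fin n → R[X])) (g' : R[X]), g'.Monic ∧ (∀ v : Fin n → R[X], g' • v ∈ L'') ∧
      Nonempty (L ≃ₗ[R[X]] R[X] × L'') := by
  classical
  obtain ⟨θ, hθ⟩ : ∃ θ : LinearMap.ker ψ →ₗ[R[X]] (Fin n → R[X]), ∀ x, θ x = theta s i x.1.1 :=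
    ⟨(theta s i).comp (L.subtype.comp (LinearMap.ker ψ).subtype), fun _ => rfl⟩
  have hθinj : Function.Injective θ := by
    suffices hker : ∀ x : LinearMap.ker ψ, θ x = 0 → x = 0 by
      intro a b hab
      have := hker (a - b) ((map_sub θ a b).trans (by rw [hab, sub_self]))
      exact sub_eq_zero.mp this
    rintro ⟨⟨x, hx⟩, hxK⟩ hθx
    rw [hθ] at hθx
    have hψx : ψ ⟨x, hx⟩ = 0 := hxK
    have hθx' : ∀ j, s i * x (i.succAbove j) = s (i.succAbove j) * x i := fun j => by
      have := congrFun hθx j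
      simpa [theta, sub_eq_zero] using this
    have hax : s i • x = x i • s := by
      funext j
      simp only [Pi.smul_apply, smul_eq_mul]
      rcases Fin.eq_self_or_eq_succAbove i j with rfl | ⟨j', rfl⟩
      · ring
      · rw [hθx' j']; ring
    have h1 : s i * ψ ⟨x, hx⟩ = x i := by
      have h3 : (s i • ⟨x, hx⟩ : L) = x i • ⟨s, hs⟩ := Subtype.ext hax
      have := congrArg (fun z : L => ψ z) h3
      simp only [map_smul, smul_eq_mul, hψ, mul_one] at this
      exact this
    rw [hψx, mul_zero] at h1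
    have h2 : s i • x = 0 := by rw [hax, ← h1, zero_smul]
    have hx0 : x = 0 := by
      funext j
      have := congrFun h2 j
      simp only [Pi.smul_apply, smul_eq_mul, Pi.zero_apply] at this
      exact (isUnit_leadingCoeff_mul_right_eq_zero_iff hu).mp this
    apply Subtype.ext
    apply Subtype.ext
    exact hx0
  let L'' : Submodule R[X] (Fin n → R[X]) := LinearMap.range θ
  let e₁ : LinearMap.ker ψ ≃ₗ[R[X]] L'' := LinearEquiv.ofInjective θ hθinj
  -- splitting of L
  let e₂ : L ≃ₗ[R[X]] R[X] × LinearMap.ker ψ :=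
    { toFun := fun x => (ψ x, ⟨x - ψ x • ⟨s, hs⟩, by
        change ψ (x - ψ x • ⟨s, hs⟩) = 0
        rw [map_sub, map_smul, hψ, smul_eq_mul, mul_one, sub_self]⟩)
      map_add' := fun x y => by
        apply Prod.ext
        · simp
        · apply Subtype.ext
          simp only [map_add, add_smul, Prod.snd_add, Submodule.coe_add]
          abel
      map_smul' := fun p x => by
        apply Prod.ext
        · simp
        · apply Subtype.ext
          simp only [map_smul, smul_eq_mul, RingHom.id_apply, Prod.smul_snd, Submodule.coe_smul,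
            smul_sub, mul_smul]
      invFun := fun z => z.1 • ⟨s, hs⟩ + z.2.1
      left_inv := fun x => by simp
      right_inv := fun z => by
        have hz : ψ z.2.1 = 0 := z.2.2
        apply Prod.ext
        · simp only [map_add, map_smul, hψ, hz, smul_eq_mul, mul_one, add_zero]
        · apply Subtype.ext
          simp only [map_add, map_smul, hψ, hz, smul_eq_mul, mul_one, add_zero, add_sub_cancel_left] }
  let g' : R[X] := (hu.unit⁻¹ • s i) * g
  have hg' : g'.Monic := (monic_of_isUnit_leadingCoeff_inv_smul hu).mul hg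
  refine ⟨L'', g', hg', fun v => ?_, ⟨e₂.trans ((LinearEquiv.refl _ _).prodCongr e₁)⟩⟩
  -- g' • v lies in L''
  let x : L := ⟨g • ((C (↑hu.unit⁻¹ : R)) • Fin.insertNth i (0 : R[X]) v), hL _⟩
  let x₁ : LinearMap.ker ψ := ⟨x - ψ x • ⟨s, hs⟩, by
    change ψ (x - ψ x • ⟨s, hs⟩) = 0
    rw [map_sub, map_smul, hψ, smul_eq_mul, mul_one, sub_self]⟩
  refine ⟨x₁, ?_⟩
  rw [hθ]
  change theta s i ((x : Fin (n + 1) → R[X]) - ψ x • s) = g' • v
  have h0 : theta s i (ψ x • s) = 0 := by rw [map_smul, theta_self, smul_zero]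
  rw [map_sub, h0, sub_zero]
  funext j
  simp only [theta, LinearMap.coe_mk, AddHom.coe_mk, x, g', Pi.smul_apply, smul_eq_mul,
    Fin.insertNth_apply_succAbove, Fin.insertNth_apply_same, mul_zero, sub_zero, Units.smul_def,
    ← C_mul']
  ring

end Step

section Main
variable {R : Type*} [CommRing R] [IsLocalRing R]

/-- **Local Horrocks, lattice form**: over a local ring `R`, a projective `R[X]`-submodule of
`R[X]^n` containing `g • R[X]^n` for a monic `g` is free. -/
theorem free_of_lattice : ∀ (n : ℕ) (L : Submodule R[X] (Fin n → R[X])) [Module.Projective R[X] L]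
    (g : R[X]), g.Monic → (∀ v : Fin n → R[X], g • v ∈ L) → Module.Free R[X] L := by
  intro n
  induction n with
  | zero =>
    intro L _ g _ _
    haveI : Subsingleton L := ⟨fun a b => Subtype.ext (Subsingleton.elim _ _)⟩
    exact Module.Free.of_subsingleton _ _
  | succ n ih =>
    intro L _ g hg hL
    obtain ⟨s, hs, ψ, i, hψ, hu⟩ := exists_unimodular_lift (Nat.succ_pos n) L hg hL
    obtain ⟨L'', g', hg', hL'', ⟨e⟩⟩ := induction_step L hg hL s hs ψ i hψ hu
    haveI : Module.Projective R[X] (R[X] × L'') := Module.Projective.of_equiv e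
    haveI : Module.Projective R[X] L'' :=
      Module.Projective.of_split (LinearMap.inr R[X] R[X] L'') (LinearMap.snd R[X] R[X] L'')
        (by ext; simp)
    haveI : Module.Free R[X] L'' := ih L'' g' hg' hL''
    exact Module.Free.of_equiv e.symm

end Main

end H9Hor
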