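import Mathlib
import Groth.Agent.Lib.Helper9.Hor.Lattice

set_option linter.unusedSectionVars false

open Polynomial

namespace H9Hor

section LatticeCrit
variable {R : Type*} [CommRing R] [IsLocalRing R]
variable {P : Type*} [AddCommGroup P] [Module R[X] P] [Module.Finite R[X] P] [Module.Projective R[X] P]

/-- a polynomial with unit leading coefficient acts injectively on a projective module -/
theorem smul_injective_of_isUnit_leadingCoeff {h : R[X]} (hu : IsUnit h.leadingCoeff) :
    Function.Injective (fun x : P => h • x) := by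
  obtain ⟨n, f, g, -, -, hfg⟩ := Module.Finite.exists_comp_eq_id_of_projective R[X] P
  intro x y hxy
  have hg : Function.Injective g := by
    intro a b hab
    have := congrArg f hab
    rwa [← LinearMap.comp_apply, ← LinearMap.comp_apply, hfg] at this
  apply hg
  have h1 : h • g x = h • g y := by rw [← map_smul, ← map_smul]; exact congrArg g hxy
  funext i
  have := congrFun h1 i
  simp only [Pi.smul_apply, smul_eq_mul] at this
  have h2 : h * (g x i - g y i) = 0 := by rw [mul_sub, this, sub_self]
  have := (isUnit_leadingCoeff_mul_right_eq_zero_iff hu).mp h2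
  exact sub_eq_zero.mp this

/-- **Local Horrocks, module form (lattice criterion).** -/
theorem free_of_lattice_criterion {n : ℕ} (h : R[X]) (hu : IsUnit h.leadingCoeff) (p : Fin n → P)
    (hspan : ∀ x : P, ∃ K : ℕ, h ^ K • x ∈ Submodule.span R[X] (Set.range p))
    (hli : LinearIndependent R[X] p) : Module.Free R[X] P := by
  classical
  -- uniform exponent
  obtain ⟨K, hK⟩ : ∃ K : ℕ, ∀ x : P, h ^ K • x ∈ Submodule.span R[X] (Set.range p) := by
    obtain ⟨s, hs⟩ := (Module.Finite.fg_top : (⊤ : Submodule R[X] P).FG)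
    choose k hk using hspan
    refine ⟨∑ x ∈ s, k x, fun x => ?_⟩
    have hx : x ∈ Submodule.span R[X] (s : Set P) := by rw [hs]; trivial
    induction hx using Submodule.span_induction with
    | mem y hy =>
      have : ∑ x ∈ s, k x = (∑ x ∈ s, k x - k y) + k y :=
        (Nat.sub_add_cancel (Finset.single_le_sum (fun _ _ => Nat.zero_le _) hy)).symm
      rw [this, pow_add, mul_smul]
      exact Submodule.smul_mem _ _ (hk y)
    | zero => rw [smul_zero]; exact Submodule.zero_mem _
    | add a b _ _ ha hb => rw [smul_add]; exact Submodule.add_mem _ ha hb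
    | smul c a _ ha => rw [smul_comm]; exact Submodule.smul_mem _ _ ha
  let F := Submodule.span R[X] (Set.range p)
  let bF : Module.Basis (Fin n) R[X] F := Module.Basis.span hli
  have hbF : ∀ j, (bF j : P) = p j := fun j => congrArg Subtype.val (Module.Basis.span_apply hli j)
  -- coordinates
  let c : P →ₗ[R[X]] (Fin n → R[X]) :=
    { toFun := fun x => (bF.repr ⟨h ^ K • x, hK x⟩ : Fin n →₀ R[X])
      map_add' := fun x y => by
        have : (⟨h ^ K • (x + y), hK (x + y)⟩ : F) = ⟨h ^ K • x, hK x⟩ + ⟨h ^ K • y, hK y⟩ := by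
          apply Subtype.ext; simp [smul_add]
        rw [this, map_add]; rfl
      map_smul' := fun a x => by
        have : (⟨h ^ K • (a • x), hK (a • x)⟩ : F) = a • ⟨h ^ K • x, hK x⟩ := by
          apply Subtype.ext; exact smul_comm _ _ _
        rw [this, map_smul]; rfl }
  have hcinj : Function.Injective c := by
    refine LinearMap.ker_eq_bot.mp (LinearMap.ker_eq_bot'.mpr fun x hx => ?_)
    have h1 : bF.repr ⟨h ^ K • x, hK x⟩ = 0 :=
      DFunLike.ext _ _ (fun j => congrFun hx j)
    have h2 : (⟨h ^ K • x, hK x⟩ : F) = 0 := by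
      rwa [← LinearEquiv.map_eq_zero_iff bF.repr]
    have h3 : h ^ K • x = 0 := congrArg Subtype.val h2
    have hu' : IsUnit (h ^ K).leadingCoeff := by
      rw [leadingCoeff_pow' (hu.pow K).ne_zero]
      exact hu.pow K
    exact smul_injective_of_isUnit_leadingCoeff hu' (by simpa using h3)
  have hu' : IsUnit (h ^ K).leadingCoeff := by
    rw [leadingCoeff_pow' (hu.pow K).ne_zero]
    exact hu.pow K
  have hcp : ∀ v : Fin n → R[X], c (∑ j, v j • p j) = h ^ K • v := by
    intro v
    have : (⟨h ^ K • ∑ j, v j • p j, hK _⟩ : F) = ∑ j, (h ^ K * v j) • bF j := by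
      apply Subtype.ext
      change h ^ K • ∑ j, v j • p j = ((∑ j, (h ^ K * v j) • bF j : F) : P)
      rw [Finset.smul_sum]
      simp only [Submodule.coe_sum, Submodule.coe_smul, hbF, mul_smul]
    funext j
    change (bF.repr ⟨h ^ K • ∑ j, v j • p j, hK _⟩) j = h ^ K * v j
    rw [this, map_sum]
    simp only [map_smul, Module.Basis.repr_self, Finsupp.coe_finset_sum, Finsupp.coe_smul,
      Finset.sum_apply, Pi.smul_apply, smul_eq_mul]
    rw [Finset.sum_eq_single j]
    · simp
    · intro i _ hij
      simp [Finsupp.single_apply, hij]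
    · intro hj; exact absurd (Finset.mem_univ j) hj
  let L : Submodule R[X] (Fin n → R[X]) := LinearMap.range c
  let eL : P ≃ₗ[R[X]] L := LinearEquiv.ofInjective c hcinj
  haveI : Module.Projective R[X] L := Module.Projective.of_equiv eL
  have hL : ∀ v : Fin n → R[X], (hu'.unit⁻¹ • h ^ K) • v ∈ L := by
    intro v
    refine ⟨C (↑hu'.unit⁻¹ : R) • ∑ j, v j • p j, ?_⟩
    rw [map_smul, hcp, smul_smul, Units.smul_def, ← C_mul']
  haveI : Module.Free R[X] L :=
    free_of_lattice n L _ (monic_of_isUnit_leadingCoeff_inv_smul hu') hL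
  exact Module.Free.of_equiv eL.symm

end LatticeCrit

end H9Hor
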