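import Mathlib
import Groth.Agent.Lib.Helper9.Hor.AB

set_option linter.unusedSectionVars false

namespace H9Hor

theorem exists_almostBasis_of_prime {B : Type*} [CommRing B] (N : Type*) [AddCommGroup N]
    [Module B N] [Module.Finite B N] [Module.Projective B N] (𝔭 : Ideal B) [𝔭.IsPrime] :
    ∃ (r : B) (_ : r ∉ 𝔭) (n : ℕ) (ν : Fin n → N), AlmostBasis r ν := by
  classical
  haveI : Module.FinitePresentation B N := Module.finitePresentation_of_projective B N
  haveI : Module.Finite (Localization.AtPrime 𝔭) (LocalizedModule 𝔭.primeCompl N) :=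
    Module.Finite.of_isLocalizedModule 𝔭.primeCompl (LocalizedModule.mkLinearMap 𝔭.primeCompl N)
  haveI : Module.Free (Localization.AtPrime 𝔭) (LocalizedModule 𝔭.primeCompl N) :=
    Module.free_of_flat_of_isLocalRing
  let b := Module.finBasis (Localization.AtPrime 𝔭) (LocalizedModule 𝔭.primeCompl N)
  obtain ⟨r, hr, b', -⟩ := Module.FinitePresentation.exists_basis_localizedModule_powers
    𝔭.primeCompl (LocalizedModule.mkLinearMap 𝔭.primeCompl N) (Localization.AtPrime 𝔭) b
  obtain ⟨ν, hν⟩ := AlmostBasis.of_basis_away r b'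
  exact ⟨r, hr, _, ν, hν⟩

end H9Hor
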