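import Mathlib
import Groth.Agent.Lib.Helper9.Hor.AB
import Groth.Agent.Lib.Helper9.Hor.P3
import Groth.Agent.Lib.Helper9.Hor.LatticeCrit

set_option linter.unusedSectionVars false

open Polynomial LaurentPolynomial TensorProduct

namespace H9Hor

universe u v w

attribute [local instance] Polynomial.algebra

/-- leading coefficient of the image of `X * reverse r` in the localization is a unit -/
theorem isUnit_leadingCoeff_map_reverse {A : Type*} [CommRing A] {R : Type*} [CommRing R]
    [Nontrivial R] (φ : A →+* R) (r : A[X]) (hr : IsUnit (φ (r.coeff 0))) :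
    IsUnit (X * (r.reverse).map φ).leadingCoeff := by
  have h1 : ((r.reverse).map φ).coeff r.natDegree = φ (r.coeff 0) := by
    rw [coeff_map, coeff_reverse, revAt_le le_rfl, Nat.sub_self]
  have h2 : ((r.reverse).map φ).natDegree = r.natDegree := by
    apply le_antisymm
    · exact (natDegree_map_le).trans (reverse_natDegree_le r)
    · apply le_natDegree_of_ne_zero
      rw [h1]; exact hr.ne_zero
  rw [mul_comm, leadingCoeff_mul_X, leadingCoeff, h2, h1]
  exact hr

theorem invert_symm_toLaurent {A : Type*} [CommRing A] (r : A[X]) :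
    (LaurentPolynomial.invert (R := A)).toRingEquiv.symm (algebraMap A[X] A[T;T⁻¹] r)
      = T (-(r.natDegree : ℤ)) * algebraMap A[X] A[T;T⁻¹] r.reverse := by
  rw [RingEquiv.symm_apply_eq]
  change _ = invert _
  rw [map_mul, invert_T, neg_neg, LaurentPolynomial.algebraMap_eq_toLaurent,
    LaurentPolynomial.algebraMap_eq_toLaurent, toLaurent_reverse, map_mul, invert_T]
  have : invert (invert (toLaurent r)) = toLaurent r := by
    conv_lhs => rw [← invert_symm]
    exact (invert (R := A)).symm_apply_apply _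
  rw [this, mul_comm, mul_assoc, ← T_add, neg_add_cancel, T_zero, mul_one]

/-- **Horrocks, local freeness.** If `M` over `A[X]` is glued along `T ↦ T⁻¹` to a projective
module `N` near infinity, then its localization at every maximal ideal of `A` is free. -/
theorem free_localization_of_laurent_iso (A : Type u) [CommRing A]
    (M : Type v) [AddCommGroup M] [Module A[X] M] [Module.Finite A[X] M] [Module.Projective A[X] M]
    (N : Type w) [AddCommGroup N] [Module A[X] N] [Module.Finite A[X] N] [Module.Projective A[X] N]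
    (e : (A[T;T⁻¹] ⊗[A[X]] M) →ₛₗ[(LaurentPolynomial.invert (R := A)).toRingEquiv.toRingHom]
      (A[T;T⁻¹] ⊗[A[X]] N)) (he : Function.Bijective e) (𝔪 : Ideal A) [𝔪.IsMaximal] :
    Module.Free (Localization.AtPrime 𝔪)[X] ((Localization.AtPrime 𝔪)[X] ⊗[A[X]] M) := by
  classical
  -- step 1: an almost basis of `N` near the origin of the fibre over `𝔪`
  let 𝔭 : Ideal A[X] := Ideal.comap (constantCoeff : A[X] →+* A) 𝔪
  haveI : 𝔭.IsPrime := Ideal.comap_isPrime _ _
  obtain ⟨r, hr, n, ν, hν⟩ := exists_almostBasis_of_prime N 𝔭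
  have hr0 : r.coeff 0 ∉ 𝔪 := fun h => hr (by
    change constantCoeff r ∈ 𝔪
    rwa [constantCoeff_apply])
  -- step 2: localize to the Laurent ring
  let fN : N →ₗ[A[X]] A[T;T⁻¹] ⊗[A[X]] N := TensorProduct.mk A[X] A[T;T⁻¹] N 1
  haveI : IsLocalizedModule (Submonoid.powers (X : A[X])) fN :=
    (isLocalizedModule_iff_isBaseChange (Submonoid.powers (X : A[X])) A[T;T⁻¹] fN).mpr
      (TensorProduct.isBaseChange A[X] N A[T;T⁻¹])
  have h2 := hν.localize (Submonoid.powers (X : A[X])) A[T;T⁻¹] fN
  -- step 3: transport along `e`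
  choose q hq using fun i => he.2 (fN (ν i))
  have h3 := h2.transport (LaurentPolynomial.invert (R := A)).toRingEquiv e he.1 q hq
  -- step 4: clear denominators
  let fM : M →ₗ[A[X]] A[T;T⁻¹] ⊗[A[X]] M := TensorProduct.mk A[X] A[T;T⁻¹] M 1
  haveI : IsLocalizedModule (Submonoid.powers (X : A[X])) fM :=
    (isLocalizedModule_iff_isBaseChange (Submonoid.powers (X : A[X])) A[T;T⁻¹] fM).mpr
      (TensorProduct.isBaseChange A[X] M A[T;T⁻¹])
  choose ps hps using fun i => IsLocalizedModule.surj (Submonoid.powers (X : A[X])) fM (q i)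
  let p : Fin n → M := fun i => (ps i).1
  let wu : Fin n → A[T;T⁻¹]ˣ := fun i => (IsLocalization.map_units A[T;T⁻¹] (ps i).2).unit
  have hwu : ∀ i, ((wu i : A[T;T⁻¹]ˣ) : A[T;T⁻¹]) = algebraMap A[X] A[T;T⁻¹] ((ps i).2 : A[X]) :=
    fun i => rfl
  have hqp : ∀ i, q i = (wu i)⁻¹ • fM (p i) := by
    intro i
    have : fM (p i) = (wu i) • q i := by
      rw [Units.smul_def, hwu, algebraMap_smul]
      exact (hps i).symm
    rw [this, smul_smul, inv_mul_cancel, one_smul]
  let v : A[T;T⁻¹]ˣ := (isUnit_T (R := A) (-(r.natDegree : ℤ))).unit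
  have h4 : AlmostBasis (algebraMap A[X] A[T;T⁻¹] r.reverse) (fun i => fM (p i)) :=
    h3.units v _ (invert_symm_toLaurent r) (fun i => (wu i)⁻¹) _ hqp
  -- step 5: descend to `M`
  have h5 : AlmostBasis (X * r.reverse) p := AlmostBasis.descend X A[T;T⁻¹] fM h4
  -- step 6: localize at `𝔪`
  haveI : IsLocalization (𝔪.primeCompl.map (C : A →+* A[X])) (Localization.AtPrime 𝔪)[X] :=
    Polynomial.isLocalization 𝔪.primeCompl (Localization.AtPrime 𝔪)
  let gM : M →ₗ[A[X]] (Localization.AtPrime 𝔪)[X] ⊗[A[X]] M := TensorProduct.mk A[X] (Localization.AtPrime 𝔪)[X] M 1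
  haveI : IsLocalizedModule (𝔪.primeCompl.map (C : A →+* A[X])) gM :=
    (isLocalizedModule_iff_isBaseChange (𝔪.primeCompl.map (C : A →+* A[X])) (Localization.AtPrime 𝔪)[X] gM).mpr
      (TensorProduct.isBaseChange A[X] M (Localization.AtPrime 𝔪)[X])
  have h6 := h5.localize (N' := (Localization.AtPrime 𝔪)[X] ⊗[A[X]] M) (𝔪.primeCompl.map (C : A →+* A[X])) (Localization.AtPrime 𝔪)[X] gM
  -- step 7: the lattice criterion
  have hh : algebraMap A[X] (Localization.AtPrime 𝔪)[X] (X * r.reverse) = X * (r.reverse).map (algebraMap A (Localization.AtPrime 𝔪)) := by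
    rw [map_mul]
    change Polynomial.map _ X * Polynomial.map _ _ = _
    rw [Polynomial.map_X]
  have hu : IsUnit (algebraMap A[X] (Localization.AtPrime 𝔪)[X] (X * r.reverse)).leadingCoeff := by
    rw [hh]
    apply isUnit_leadingCoeff_map_reverse
    exact IsLocalization.map_units (Localization.AtPrime 𝔪) (⟨r.coeff 0, hr0⟩ : 𝔪.primeCompl)
  exact free_of_lattice_criterion _ hu (fun i => gM (p i)) h6.span_range
    (h6.linearIndependent fun x hx => (isUnit_leadingCoeff_mul_right_eq_zero_iff hu).mp hx)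

end H9Hor
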