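import Mathlib
import Groth.Agent.Lib.Helper9.Hor.Dict

set_option linter.unusedSectionVars false

open Polynomial TensorProduct

namespace H9Hor

open H9Hor.Patch H9Hor.Dict

universe u v

attribute [local instance] Polynomial.algebra

/-- **Quillen patching, module form.** -/
theorem quillen_patching (A : Type u) [CommRing A] (M : Type v) [AddCommGroup M] [Module A[X] M]
    [Module.Finite A[X] M] [Module.Projective A[X] M]
    (h : ∀ (P : Ideal A) [P.IsMaximal], ∃ (Q : Type u) (_ : AddCommGroup Q)
      (_ : Module (Localization.AtPrime P) Q),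
      Nonempty ((Localization.AtPrime P)[X] ⊗[A[X]] M ≃ₗ[(Localization.AtPrime P)[X]]
        (Localization.AtPrime P)[X] ⊗[Localization.AtPrime P] Q)) :
    ∃ (Q : Type u) (_ : AddCommGroup Q) (_ : Module A Q), Nonempty (M ≃ₗ[A[X]] A[X] ⊗[A] Q) := by
  obtain ⟨n, f, g, -, -, hfg⟩ := Module.Finite.exists_comp_eq_id_of_projective A[X] M
  have hfg' : ∀ p, f (g p) = p := fun p => LinearMap.congr_fun hfg p
  set π := LinearMap.toMatrix' (g ∘ₗ f) with hπ
  have hππ : π * π = π := by
    rw [hπ, ← LinearMap.toMatrix'_comp]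
    congr 1
    refine LinearMap.ext fun x => ?_
    simp only [LinearMap.comp_apply, hfg']
  have hloc : ∀ (P : Ideal A) [P.IsMaximal], ExtAlong (algebraMap A (Localization.AtPrime P)) π := by
    intro P _
    obtain ⟨Q, _, _, ⟨α⟩⟩ := h P
    exact extAlong_of_baseChange_extended f g hfg' α
  have hglob := extAlong_of_forall_maximal A π hππ hloc
  unfold ExtAlong at hglob
  have h3 : (mapRingHom (RingHom.id A)).mapMatrix π = π := by
    ext a b : 1; simp
  rw [h3, RingHom.id_comp] at hglob
  obtain ⟨e⟩ := extended_of_mequiv f g hfg' hglob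
  exact ⟨_, inferInstance, inferInstance, ⟨e⟩⟩

end H9Hor
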