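import Mathlib
import Groth.Agent.Lib.Helper9.Hor.GlueRings
import Groth.Agent.Lib.Helper9.Hor.LocalFree
import Groth.Agent.Lib.Helper9.Hor.Quillen

set_option linter.unusedSectionVars false

open Polynomial LaurentPolynomial TensorProduct

namespace H9Hor.GlueP1

universe u

section Eval

/-- comparing two base changes of an extended module through a retraction to the base ring -/
theorem equiv_of_eval {A B B₁ : Type*} [CommRing A] [CommRing B] [CommRing B₁] [Algebra A B]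
    [Algebra B B₁] [Algebra A B₁] [IsScalarTower A B B₁]
    (ε : B₁ →+* A) (hε : ∀ a, ε (algebraMap A B₁ a) = a)
    {N N₀ Q : Type*} [AddCommGroup N] [Module B N] [AddCommGroup N₀] [Module A N₀]
    [AddCommGroup Q] [Module A Q]
    (θ : N ≃ₗ[B] B ⊗[A] N₀) (γ : B₁ ⊗[B] N ≃ₗ[B₁] B₁ ⊗[A] Q) : Nonempty (N₀ ≃ₗ[A] Q) := by
  letI : Algebra B₁ A := ε.toAlgebra
  letI : Algebra B A := (ε.comp (algebraMap B B₁)).toAlgebra
  haveI : IsScalarTower B B₁ A := IsScalarTower.of_algebraMap_eq fun x => rfl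
  haveI : IsScalarTower A B₁ A := IsScalarTower.of_algebraMap_eq fun a => by
    rw [Algebra.algebraMap_self_apply]; exact (hε a).symm
  haveI : IsScalarTower A B A := IsScalarTower.of_algebraMap_eq fun a => by
    rw [Algebra.algebraMap_self_apply]
    change a = ε (algebraMap B B₁ (algebraMap A B a))
    rw [← IsScalarTower.algebraMap_apply A B B₁, hε]
  let e1 : N₀ ≃ₗ[A] A ⊗[A] N₀ := (TensorProduct.lid A N₀).symm
  let e2 : A ⊗[A] N₀ ≃ₗ[A] A ⊗[B] (B ⊗[A] N₀) :=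
    (TensorProduct.AlgebraTensorModule.cancelBaseChange A B A A N₀).symm
  let e3 : A ⊗[B] (B ⊗[A] N₀) ≃ₗ[A] A ⊗[B] N :=
    TensorProduct.AlgebraTensorModule.congr (LinearEquiv.refl A A) θ.symm
  let e4 : A ⊗[B] N ≃ₗ[A] A ⊗[B₁] (B₁ ⊗[B] N) :=
    (TensorProduct.AlgebraTensorModule.cancelBaseChange B B₁ A A N).symm
  let e5 : A ⊗[B₁] (B₁ ⊗[B] N) ≃ₗ[A] A ⊗[B₁] (B₁ ⊗[A] Q) :=
    TensorProduct.AlgebraTensorModule.congr (LinearEquiv.refl A A) γ
  let e6 : A ⊗[B₁] (B₁ ⊗[A] Q) ≃ₗ[A] A ⊗[A] Q :=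
    TensorProduct.AlgebraTensorModule.cancelBaseChange A B₁ A A Q
  let e7 : A ⊗[A] Q ≃ₗ[A] Q := TensorProduct.lid A Q
  exact ⟨e1 ≪≫ₗ e2 ≪≫ₗ e3 ≪≫ₗ e4 ≪≫ₗ e5 ≪≫ₗ e6 ≪≫ₗ e7⟩

end Eval

section Horrocks

/-- the `invert`-semilinear involution of `Λ ⊗[A] P` -/
noncomputable def e₀ (A : Type*) [CommRing A] (P : Type*) [AddCommGroup P] [Module A P] :
    (A[T;T⁻¹] ⊗[A] P) →ₛₗ[(LaurentPolynomial.invert (R := A)).toRingEquiv.toRingHom]
      (A[T;T⁻¹] ⊗[A] P) where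
  toFun := (TensorProduct.congr (LaurentPolynomial.invert (R := A)).toLinearEquiv
    (LinearEquiv.refl A P))
  map_add' := map_add _
  map_smul' := fun l z => by
    induction z using TensorProduct.induction_on with
    | zero => simp
    | tmul x y =>
      rw [TensorProduct.smul_tmul', TensorProduct.congr_tmul, TensorProduct.congr_tmul,
        TensorProduct.smul_tmul']
      simp
    | add x y hx hy => rw [smul_add, map_add, hx, hy, map_add, smul_add]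

theorem e₀_bijective (A : Type*) [CommRing A] (P : Type*) [AddCommGroup P] [Module A P] :
    Function.Bijective (e₀ A P) :=
  (TensorProduct.congr (LaurentPolynomial.invert (R := A)).toLinearEquiv
    (LinearEquiv.refl A P)).bijective

attribute [local instance] Polynomial.algebra in
/-- **Horrocks (global form).** -/
theorem extended_of_laurent_iso (A : Type u) [CommRing A] (M : Type u) [AddCommGroup M]
    [Module A[X] M] [Module.Finite A[X] M] [Module.Projective A[X] M]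
    (N : Type u) [AddCommGroup N] [Module A[X] N] [Module.Finite A[X] N] [Module.Projective A[X] N]
    (e : (A[T;T⁻¹] ⊗[A[X]] M) →ₛₗ[(LaurentPolynomial.invert (R := A)).toRingEquiv.toRingHom]
      (A[T;T⁻¹] ⊗[A[X]] N)) (he : Function.Bijective e) :
    ∃ (P : Type u) (_ : AddCommGroup P) (_ : Module A P), Nonempty (M ≃ₗ[A[X]] (A[X] ⊗[A] P)) := by
  apply H9Hor.quillen_patching A M
  intro 𝔪 _
  haveI := H9Hor.free_localization_of_laurent_iso A M N e he 𝔪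
  let b := Module.finBasis (Localization.AtPrime 𝔪)[X] ((Localization.AtPrime 𝔪)[X] ⊗[A[X]] M)
  exact ⟨Fin _ → Localization.AtPrime 𝔪, inferInstance, inferInstance,
    ⟨b.equivFun ≪≫ₗ (TensorProduct.piScalarRight (Localization.AtPrime 𝔪)
      (Localization.AtPrime 𝔪)[X] (Localization.AtPrime 𝔪)[X] (Fin _)).symm⟩⟩

/-- a module over `A[X]` whose localization at `X` is extended from `A` (from the chart at
infinity) is itself extended -/
theorem extended_of_localization_extended (A : Type u) [CommRing A] (N : Type u) [AddCommGroup N]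
    [Module A[X] N] [Module.Finite A[X] N] [Module.Projective A[X] N]
    (P : Type u) [AddCommGroup P] [Module A P] [Module.Finite A P] [Module.Projective A P]
    (β : A[T;T⁻¹] ⊗[A[X]] N ≃ₗ[A[T;T⁻¹]] A[T;T⁻¹] ⊗[A] P) :
    ∃ (N₀ : Type u) (_ : AddCommGroup N₀) (_ : Module A N₀),
      Nonempty (N ≃ₗ[A[X]] (A[X] ⊗[A] N₀)) := by
  let ψ : A[T;T⁻¹] ⊗[A[X]] (A[X] ⊗[A] P) ≃ₗ[A[T;T⁻¹]] A[T;T⁻¹] ⊗[A] P :=
    TensorProduct.AlgebraTensorModule.cancelBaseChange A A[X] A[T;T⁻¹] A[T;T⁻¹] P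
  refine extended_of_laurent_iso A N (A[X] ⊗[A] P)
    ⟨⟨fun z => ψ.symm (e₀ A P (β z)), fun x y => by rw [map_add, map_add, map_add]⟩,
      fun l z => ?_⟩ ?_
  · change ψ.symm (e₀ A P (β (l • z))) = _ • ψ.symm (e₀ A P (β z))
    rw [map_smul, map_smulₛₗ, map_smul]
  · exact ψ.symm.bijective.comp ((e₀_bijective A P).comp β.bijective)

end Horrocks

section Main
variable (A : Type u) [CommRing A]

/-- evaluation at `T = 1` -/
noncomputable def ε₁ : A[T;T⁻¹] →+* A :=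
  IsLocalization.Away.lift (X : A[X]) (g := evalRingHom (1 : A)) (by simp)

theorem ε₁_algebraMap (a : A) : ε₁ A (algebraMap A A[T;T⁻¹] a) = a := by
  rw [IsScalarTower.algebraMap_apply A A[X] A[T;T⁻¹], ε₁, IsLocalization.Away.lift_eq]
  simp

/-- evaluation at `X = 0` on `B₂` -/
noncomputable def ε₀ : B₂ A →+* A :=
  IsLocalization.lift (M := S A) (g := (constantCoeff : A[X] →+* A)) fun y => by
    rw [constantCoeff_apply, mem_S.mp y.2]; exact isUnit_one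

theorem ε₀_algebraMap (a : A) : ε₀ A (algebraMap A (B₂ A) a) = a := by
  rw [IsScalarTower.algebraMap_apply A A[X] (B₂ A), ε₀, IsLocalization.lift_eq]
  simp

variable {A}

/-- **Glueing and comparing.** Two finite projective `A`-modules that can be glued over the
overlap of the chart `X ≠ 0` and the neighbourhood `S⁻¹A[X]` of `X = 0` are isomorphic. -/
theorem nonempty_equiv_of_glue
    {M₁ M₂ M₁₂ : Type u} [AddCommGroup M₁] [Module A[X] M₁] [Module A[T;T⁻¹] M₁]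
    [IsScalarTower A[X] A[T;T⁻¹] M₁]
    [AddCommGroup M₂] [Module A[X] M₂] [Module (B₂ A) M₂] [IsScalarTower A[X] (B₂ A) M₂]
    [AddCommGroup M₁₂] [Module A[X] M₁₂]
    (a₁ : M₁ →ₗ[A[X]] M₁₂) [IsLocalizedModule (S A) a₁]
    (a₂ : M₂ →ₗ[A[X]] M₁₂) [IsLocalizedModule (Submonoid.powers (X : A[X])) a₂]
    (P P' : Type u) [AddCommGroup P] [Module A P] [Module.Finite A P] [Module.Projective A P]
    [AddCommGroup P'] [Module A P'] [Module.Finite A P'] [Module.Projective A P']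
    (α₁ : M₁ ≃ₗ[A[T;T⁻¹]] A[T;T⁻¹] ⊗[A] P) (α₂ : M₂ ≃ₗ[B₂ A] B₂ A ⊗[A] P') :
    Nonempty (P ≃ₗ[A] P') := by
  haveI : Module.Finite A[T;T⁻¹] M₁ := Module.Finite.equiv α₁.symm
  haveI : Module.Projective A[T;T⁻¹] M₁ := Module.Projective.of_equiv α₁.symm
  haveI : Module.Finite (B₂ A) M₂ := Module.Finite.equiv α₂.symm
  haveI : Module.Projective (B₂ A) M₂ := Module.Projective.of_equiv α₂.symm
  haveI h₁ : IsLocalizedModule (Submonoid.powers (X : A[X])) (Glue.pr₁ a₁ a₂) :=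
    Glue.isLocalizedModule_pr₁ a₁ a₂ _ fun s =>
      isUnit_algebraMap_end (B := A[X]) A[T;T⁻¹] M₁ (s : A[X])
        (IsLocalization.map_units A[T;T⁻¹] s)
  haveI h₂ : IsLocalizedModule (S A) (Glue.pr₂ a₁ a₂) :=
    Glue.isLocalizedModule_pr₂ a₁ a₂ _ fun s =>
      isUnit_algebraMap_end (B := A[X]) (B₂ A) M₂ (s : A[X]) (IsLocalization.map_units (B₂ A) s)
  obtain ⟨hfin, hproj⟩ := Glue.projective_of_two_localizations (Submonoid.powers (X : A[X])) (S A)
    (isCoprime_of_mem A) (B₁ := A[T;T⁻¹]) (Glue.pr₁ a₁ a₂) (B₂ := B₂ A) (Glue.pr₂ a₁ a₂)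
  let β₁ : A[T;T⁻¹] ⊗[A[X]] (Glue.glue a₁ a₂) ≃ₗ[A[T;T⁻¹]] A[T;T⁻¹] ⊗[A] P :=
    ((isLocalizedModule_iff_isBaseChange (Submonoid.powers (X : A[X])) A[T;T⁻¹]
      (Glue.pr₁ a₁ a₂)).mp h₁).equiv ≪≫ₗ α₁
  let β₂ : B₂ A ⊗[A[X]] (Glue.glue a₁ a₂) ≃ₗ[B₂ A] B₂ A ⊗[A] P' :=
    ((isLocalizedModule_iff_isBaseChange (S A) (B₂ A) (Glue.pr₂ a₁ a₂)).mp h₂).equiv ≪≫ₗ α₂
  obtain ⟨N₀, _, _, ⟨θ⟩⟩ := extended_of_localization_extended A (Glue.glue a₁ a₂) P β₁
  obtain ⟨γ₁⟩ := equiv_of_eval (ε₁ A) (ε₁_algebraMap A) θ β₁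
  obtain ⟨γ₂⟩ := equiv_of_eval (ε₀ A) (ε₀_algebraMap A) θ β₂
  exact ⟨γ₁.symm ≪≫ₗ γ₂⟩

end Main

end H9Hor.GlueP1
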