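import Mathlib
import Groth.Agent.Lib.Helper9.Hor.GlueMain

set_option linter.unusedSectionVars false

open Polynomial LaurentPolynomial TensorProduct

namespace H9Hor.GlueP1

section DataB12
universe u
variable (A : Type u) [CommRing A]
    (P P' : Type u) [AddCommGroup P] [Module A P] [AddCommGroup P'] [Module A P']
    (φ'' : (B₁₂ A ⊗[A] P) ≃ₗ[B₁₂ A] (B₁₂ A ⊗[A] P'))

/-- the chart near `X ≠ 0` mapped to the overlap, for an arbitrary overlap isomorphism -/
noncomputable def a₁' : (A[T;T⁻¹] ⊗[A] P) →ₗ[A[X]] (B₁₂ A ⊗[A] P') :=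
  (φ''.restrictScalars A[X]).toLinearMap ∘ₗ
    ((TensorProduct.AlgebraTensorModule.map (Algebra.linearMap A[T;T⁻¹] (B₁₂ A))
      (LinearMap.id : P →ₗ[A] P)).restrictScalars A[X])

instance : IsLocalizedModule (S A) (a₁' A P P' φ'') := by
  have := isLocalizedModule_tensor (A := A) (S A) A[T;T⁻¹] (B₁₂ A) P
  exact IsLocalizedModule.of_linearEquiv (S A) _ (φ''.restrictScalars A[X])

include φ'' in
/-- finite projective modules that become isomorphic over `B₁₂ A` are isomorphic -/
theorem nonempty_equiv_of_B₁₂_equiv [Module.Finite A P] [Module.Projective A P]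
    [Module.Finite A P'] [Module.Projective A P'] : Nonempty (P ≃ₗ[A] P') :=
  nonempty_equiv_of_glue (M₁ := A[T;T⁻¹] ⊗[A] P) (M₂ := B₂ A ⊗[A] P')
    (M₁₂ := B₁₂ A ⊗[A] P') (a₁' A P P' φ'') (a₂ A P') P P'
    (LinearEquiv.refl _ _) (LinearEquiv.refl _ _)

end DataB12

end H9Hor.GlueP1
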