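import Mathlib

set_option linter.unusedSectionVars false

namespace H9Hor.LocAbs

section
variable {A L : Type*} [CommRing A] [CommRing L] (ψ : A →+* L) (M : Submonoid A)

/-- recognising a localization from a bare ring hom -/
theorem isLocalization_of (hU : ∀ m ∈ M, IsUnit (ψ m))
    (hS : ∀ l : L, ∃ m ∈ M, ∃ a : A, l * ψ m = ψ a)
    (hK : ∀ d : A, ψ d = 0 → ∃ m ∈ M, m * d = 0) :
    @IsLocalization A _ M L _ ψ.toAlgebra := by
  letI : Algebra A L := ψ.toAlgebra
  refine ⟨fun m => hU m m.2, fun l => ?_, fun {x y} h => ?_⟩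
  · obtain ⟨m, hm, a, h⟩ := hS l
    exact ⟨(a, ⟨m, hm⟩), h⟩
  · have : ψ (x - y) = 0 := by
      rw [map_sub]; exact sub_eq_zero.mpr h
    obtain ⟨m, hm, h0⟩ := hK _ this
    exact ⟨⟨m, hm⟩, by
      simp only []
      linear_combination h0⟩

end

section
variable {A L : Type*} [CommRing A] [CommRing L] [Algebra A L] (M : Submonoid A)
  [IsLocalization M L]

/-- if every element of `M` is a unit modulo `I`, then `I` is contracted from the localization and
`A/I → L/IL` is bijective. -/
theorem comap_map_and_bijective (I : Ideal A) (hI : ∀ m ∈ M, I ⊔ Ideal.span {m} = ⊤) :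
    (I.map (algebraMap A L)).comap (algebraMap A L) = I ∧
      Function.Bijective (Ideal.quotientMap (I.map (algebraMap A L)) (algebraMap A L)
        Ideal.le_comap_map) := by
  have hunit : ∀ m ∈ M, ∃ m' : A, m * m' - 1 ∈ I := by
    intro m hm
    have h1 : (1 : A) ∈ I ⊔ Ideal.span {m} := by rw [hI m hm]; trivial
    obtain ⟨i, hi, j, hj, hij⟩ := Submodule.mem_sup.mp h1
    obtain ⟨m', rfl⟩ := Ideal.mem_span_singleton'.mp hj
    refine ⟨m', ?_⟩
    have : m * m' - 1 = -i := by linear_combination hij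
    rw [this]
    exact I.neg_mem hi
  have hcm : (I.map (algebraMap A L)).comap (algebraMap A L) = I := by
    refine le_antisymm ?_ Ideal.le_comap_map
    intro x hx
    rw [Ideal.mem_comap, IsLocalization.mem_map_algebraMap_iff M] at hx
    obtain ⟨⟨y, m⟩, h⟩ := hx
    simp only [] at h
    rw [← map_mul, IsLocalization.eq_iff_exists M] at h
    obtain ⟨c, hc⟩ := h
    obtain ⟨m', hm'⟩ := hunit (c * m) (M.mul_mem c.2 m.2)
    have h2 : (c : A) * (x * m) ∈ I := by rw [hc]; exact I.mul_mem_left _ y.2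
    have : x = (c * (x * m)) * m' - x * ((c * m) * m' - 1) := by ring
    rw [this]
    exact I.sub_mem (I.mul_mem_right _ h2) (I.mul_mem_left _ hm')
  refine ⟨hcm, ?_, ?_⟩
  · exact Ideal.quotientMap_injective' (le_of_eq hcm)
  · intro z
    obtain ⟨l, rfl⟩ := Ideal.Quotient.mk_surjective z
    obtain ⟨⟨a, m⟩, h⟩ := IsLocalization.surj M l
    simp only [] at h
    obtain ⟨m', hm'⟩ := hunit m m.2
    refine ⟨Ideal.Quotient.mk I (a * m'), ?_⟩
    rw [Ideal.quotientMap_mk, Ideal.Quotient.eq]
    have : algebraMap A L (a * m') - l = l * algebraMap A L (m * m' - 1) := by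
      rw [map_mul, ← h, map_sub, map_mul, map_one]; ring
    rw [this]
    exact Ideal.mul_mem_left _ _ (Ideal.mem_map_of_mem _ hm')

end

end H9Hor.LocAbs
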