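import Mathlib
import Groth.Agent.Lib.Helper9.Hor.LSeries
import Groth.Agent.Lib.Helper9.Hor.LocAbs

set_option linter.unusedSectionVars false

open Polynomial

namespace H9Hor.MonicLoc

open H9Hor.LSeries

/-- the submonoid of monic polynomials -/
def monics (R : Type*) [CommRing R] : Submonoid R[X] where
  carrier := {P | P.Monic}
  mul_mem' := fun ha hb => Monic.mul ha hb
  one_mem' := monic_one

theorem mem_monics {R : Type*} [CommRing R] {P : R[X]} : P ∈ monics R ↔ P.Monic := Iff.rfl

theorem reflect_invol {R : Type*} [CommRing R] (N : ℕ) (f : R[X]) :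
    reflect N (reflect N f) = f := by
  ext i
  rw [coeff_reflect, coeff_reflect, revAt_invol]

theorem monic_reflect {R : Type*} [CommRing R] {f : R[X]} (hf : f.coeff 0 = 1) :
    (reflect f.natDegree f).Monic := by
  apply monic_of_natDegree_le_of_coeff_eq_one f.natDegree
  · refine natDegree_reflect_le.trans ?_
    simp
  · rw [coeff_reflect, revAt_le le_rfl, Nat.sub_self, hf]

/-- the form of elements of `S1X` -/
theorem exists_eq_X_pow_mul {R : Type*} [CommRing R] (c : R[X]) (hc : c ∈ H9Hor.LSeries.S1X R) :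
    ∃ (a : ℕ) (g : R[X]), g.coeff 0 = 1 ∧ c = X ^ a * g := by
  induction hc using Submonoid.closure_induction with
  | mem x hx =>
    rcases hx with hx | hx
    · exact ⟨0, x, hx, by simp⟩
    · rw [Set.mem_singleton_iff] at hx
      subst hx
      exact ⟨1, 1, by simp, by simp⟩
  | one => exact ⟨0, 1, by simp, by simp⟩
  | mul x y _ _ hx hy =>
    obtain ⟨a, g, hg, rfl⟩ := hx
    obtain ⟨b, h, hh, rfl⟩ := hy
    refine ⟨a + b, g * h, by rw [mul_coeff_zero, hg, hh, one_mul], by rw [pow_add]; ring⟩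

section
variable {R : Type*} [CommRing R] {L : Type*} [CommRing L] [Algebra R[X] L]
  [IsLocalization (S1X R) L] [Algebra R L] [IsScalarTower R R[X] L]
  (ψ : R[X] →ₐ[R] L) (hψ : ψ X * algebraMap R[X] L X = 1)

include hψ

theorem ψ_reflect_mul_pow (N : ℕ) (f : R[X]) (hf : f.natDegree ≤ N) :
    ψ (reflect N f) * algebraMap R[X] L X ^ N = algebraMap R[X] L f := by
  letI : Invertible (algebraMap R[X] L X) := ⟨ψ X, hψ, by rw [mul_comm]; exact hψ⟩
  have h := eval₂_reflect_mul_pow (algebraMap R L) (algebraMap R[X] L X) N f hf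
  have e1 : ∀ g : R[X], eval₂ (algebraMap R L) (ψ X) g = ψ g := fun g => by
    rw [← aeval_def, aeval_algHom_apply, aeval_X_left_apply]
  have e2 : ∀ g : R[X], eval₂ (algebraMap R L) (algebraMap R[X] L X) g = algebraMap R[X] L g :=
    fun g => by
      have := aeval_algHom_apply (IsScalarTower.toAlgHom R R[X] L) X g
      rw [aeval_X_left_apply] at this
      rw [← aeval_def]
      exact this
  rw [e2] at h
  rw [← h]
  congr 1
  exact (e1 _).symm

theorem isUnit_X : IsUnit (algebraMap R[X] L X) :=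
  IsLocalization.map_units L (⟨X, X_mem⟩ : S1X R)

theorem isUnit_ψ_of_monic (P : R[X]) (hP : P.Monic) : IsUnit (ψ P) := by
  have h := ψ_reflect_mul_pow ψ hψ P.natDegree (reflect P.natDegree P)
    (natDegree_reflect_le.trans (by simp))
  rw [reflect_invol] at h
  have hmem : reflect P.natDegree P ∈ S1X R := by
    apply mem_of_coeff
    rw [coeff_reflect, revAt_le (Nat.zero_le _), Nat.sub_zero]
    exact hP
  have hu : IsUnit (algebraMap R[X] L (reflect P.natDegree P)) :=
    IsLocalization.map_units L (⟨_, hmem⟩ : S1X R)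
  rw [← h] at hu
  exact isUnit_of_mul_isUnit_left hu

/-- elements of `S1X` are monic in `s = t⁻¹` up to a power of `t` -/
theorem exists_monic_of_mem (c : R[X]) (hc : c ∈ S1X R) :
    ∃ (P : R[X]) (n : ℕ), P.Monic ∧ ψ P * algebraMap R[X] L X ^ n = algebraMap R[X] L c := by
  induction hc using Submonoid.closure_induction with
  | mem x hx =>
    rcases hx with hx | hx
    · exact ⟨reflect x.natDegree x, x.natDegree, monic_reflect hx,
        ψ_reflect_mul_pow ψ hψ _ x le_rfl⟩
    · rw [Set.mem_singleton_iff] at hx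
      subst hx
      exact ⟨1, 1, monic_one, by simp⟩
  | one => exact ⟨1, 0, monic_one, by simp⟩
  | mul x y _ _ hx hy =>
    obtain ⟨P, n, hP, h1⟩ := hx
    obtain ⟨Q, m, hQ, h2⟩ := hy
    refine ⟨P * Q, n + m, hP.mul hQ, ?_⟩
    rw [map_mul, map_mul, ← h1, ← h2, pow_add]
    ring

theorem exists_monic_mul_eq (l : L) : ∃ P ∈ monics R, ∃ a : R[X], l * ψ P = ψ a := by
  obtain ⟨⟨f, c⟩, h⟩ := IsLocalization.surj (S1X R) l
  simp only [] at h
  obtain ⟨P, n, hP, hPc⟩ := exists_monic_of_mem ψ hψ c c.2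
  have hf := ψ_reflect_mul_pow ψ hψ f.natDegree f le_rfl
  set N := f.natDegree
  refine ⟨P * X ^ N, (hP.mul (monic_X_pow N) : (P * X ^ N).Monic), reflect N f * X ^ n, ?_⟩
  -- l * ψP * τ^n = ψF * τ^N, multiply by σ^n σ^N
  have h1 : l * (ψ P * algebraMap R[X] L X ^ n) = ψ (reflect N f) * algebraMap R[X] L X ^ N := by
    rw [hPc, h, hf]
  have hσ : ∀ k : ℕ, ψ X ^ k * algebraMap R[X] L X ^ k = 1 := fun k => by
    rw [← mul_pow, hψ, one_pow]
  rw [map_mul, map_mul, map_pow, map_pow]
  calc l * (ψ P * ψ X ^ N)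
      = (l * (ψ P * algebraMap R[X] L X ^ n)) * ψ X ^ N * ψ X ^ n := by
        have := hσ n
        linear_combination (-(l * ψ P * ψ X ^ N)) * this
    _ = ψ (reflect N f) * ψ X ^ n := by
        rw [h1]
        have := hσ N
        linear_combination (ψ (reflect N f) * ψ X ^ n) * this

theorem exists_monic_mul_eq_zero (d : R[X]) (hd : ψ d = 0) : ∃ Q ∈ monics R, Q * d = 0 := by
  have h := ψ_reflect_mul_pow ψ hψ d.natDegree (reflect d.natDegree d)
    (natDegree_reflect_le.trans (by simp))
  rw [reflect_invol, hd, zero_mul] at h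
  obtain ⟨c, hc⟩ := (IsLocalization.map_eq_zero_iff (S1X R) L _).mp h.symm
  obtain ⟨a, g, hg, hcg⟩ := exists_eq_X_pow_mul (c : R[X]) c.2
  rw [hcg, mul_assoc] at hc
  have h0 : g * reflect d.natDegree d = 0 := by
    apply (isRegular_X_pow (R := R) a).left
    simp only []
    rw [hc, mul_zero]
  refine ⟨reflect g.natDegree g, monic_reflect hg, ?_⟩
  have := congrArg (reflect (g.natDegree + d.natDegree)) h0
  rw [reflect_mul _ _ le_rfl (natDegree_reflect_le.trans (by simp)), reflect_invol] at this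
  simpa using this

/-- `L` is the localization of `R[s]` at the monic polynomials via `ψ`. -/
theorem isLocalization_monics :
    @IsLocalization R[X] _ (monics R) L _ ψ.toRingHom.toAlgebra :=
  H9Hor.LocAbs.isLocalization_of ψ.toRingHom (monics R)
    (fun P hP => isUnit_ψ_of_monic ψ hψ P hP)
    (fun l => exists_monic_mul_eq ψ hψ l)
    (fun d hd => exists_monic_mul_eq_zero ψ hψ d hd)

end

end H9Hor.MonicLoc
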